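import Cfsg.Agent.TwoF.DC.TE.Tw
import Cfsg.Agent.TwoF.DC.Close
import Cfsg.Agent.S1070
import Cfsg.Agent.S2105
import Cfsg.Agent.S2106
import Cfsg.Agent.S2107
import Cfsg.Agent.S2108
import Cfsg.Agent.S2109
import Cfsg.Agent.S2123
import Cfsg.Agent.S2124
import Cfsg.Agent.S2125
import Cfsg.Agent.S2130

/-!
# TwoF, defining characteristic: the types `E6`, `2E6`, `E7`, `E8` (helper37)

`e6`, `e7`, `e8`, `te6` : the fields of `Types`, from `BoxFin` and `BoxStd`.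
-/

set_option autoImplicit false
set_option linter.unusedSectionVars false
set_option linter.unusedVariables false

namespace Cfsg.Agent.TwoF.DC.TE

open Cfsg Cfsg.Lie

theorem card_mulAut_le (S : Type) [Group S] [Finite S] : Nat.card (MulAut S) ≤ Nat.card (Out S) * Nat.card S := by
  rw [Subgroup.card_eq_card_quotient_mul_card_subgroup (Inn S)]
  exact Nat.mul_le_mul_left _ (Nat.card_le_card_of_surjective _ (MonoidHom.rangeRestrict_surjective _))

theorem cyc {S : Type} [Group S] {d : ℕ} (p : ℕ) (h : HasCyclicSchurMultiplier S d) :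
    ∃ (A : Type) (_ : CommGroup A) (a : ℕ), HasSchurMultiplier S A ∧ Nat.card A ∣ d * p ^ a :=
  ⟨_, _, 0, h, by rw [pow_zero, mul_one]; exact (Nat.card_zmod d).dvd⟩

theorem not_dvd_of {p r f : ℕ} (hp : p.Prime) (hr : r.Prime) (hf : 0 < f) (h : r ∣ p ^ f - 1 ∨ r ∣ p ^ f + 1) :
    ¬ p ∣ r := fun e => by
  obtain rfl := (Nat.prime_dvd_prime_iff_eq hp hr).mp e
  have h1 := dvd_pow_self p hf.ne'
  refine hp.one_lt.ne' (Nat.dvd_one.mp ?_)
  rcases h with h | h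
  · have h2 := Nat.dvd_sub h1 h
    rwa [Nat.sub_sub_self (Nat.one_le_pow _ _ hp.pos)] at h2
  · exact (Nat.dvd_add_right h1).mp h

variable (hF : BoxFin) (h : BoxStd)
include hF h

theorem e8 : TBox (IsoChar fun F _ _ S _ => Nonempty (S ≃* Lie.chevE8.group F)) := by
  rintro p _ S _ _ _ ⟨F, _, _, _, ⟨e⟩⟩
  obtain ⟨f, -, hq⟩ := FiniteField.card F p
  have := Finite.of_equiv _ e.toEquiv
  let k := AlgebraicClosure F
  let P := tw0 (st8 p k) f f.pos
  have hc := comb_E8 P car8 fun _ => rfl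
  have h1 := S1054.result (F := F) chevE8 (by simp)
  refine Row.of_equiv (hF h p _ _ k _ _ P _ ⟨h1.1, h1.2,
    pi_untw (st8 p k) hp8 P (fa_of_faith hc.faith 0) (fun _ => rfl) (algebraMap F k) hq, 1, ?_,
    cyc p S2107.result, (card_mulAut_le _).trans ?_⟩ hc) e
  · have := finite_Zc P
    exact Nat.card_pos
  · rw [S2125.result p f hq, one_mul]
    exact Nat.mul_le_mul_right _ (Nat.le_mul_of_pos_left _ Nat.card_pos)

theorem e7 : TBox (IsoChar fun F _ _ S _ => Nonempty (S ≃* Lie.chevE7.group F)) := by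
  rintro p _ S _ _ _ ⟨F, _, _, _, ⟨e⟩⟩
  obtain ⟨f, hp, hq⟩ := FiniteField.card F p
  have := Finite.of_equiv _ e.toEquiv
  let k := AlgebraicClosure F
  let P := tw0 (st7 p k) f f.pos
  have hc := comb_E7 P car7 fun _ => rfl
  have h1 := S1054.result (F := F) chevE7 (by simp)
  refine Row.of_equiv (hF h p _ _ k _ _ P _ ⟨h1.1, h1.2,
    pi_untw (st7 p k) hp7 P (fa_of_faith hc.faith 0) (fun _ => rfl) (algebraMap F k) hq, Nat.gcd 2 (p ^ (f : ℕ) - 1), ?_,
    cyc p (S2106.result hq), (card_mulAut_le _).trans ?_⟩ hc) e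
  · refine le_card_Zc P Nat.prime_two ![0, 1, 0, 0, 1, 0, 1] 1 rfl (fun i => ?_) fun hm =>
      ⟨not_dvd_of hp Nat.prime_two f.pos (Or.inl hm), fun i => ?_⟩
    · change _ ∣ ∑ j, _ * ChevalleyStructure.CoxeterGeomTypes.cartanOf chevE7 7 j i
      revert i; decide +kernel
    · conv_lhs => rw [← mul_one (![0, 1, 0, 0, 1, 0, 1] _)]
      exact Nat.ModEq.mul_left _ ((Nat.modEq_iff_dvd' (Nat.one_le_pow _ _ hp.pos)).mpr hm)
  · rw [S2124.result p f hq]
    exact Nat.mul_le_mul_right _ (Nat.mul_le_mul_right _ (Nat.le_mul_of_pos_right _ Nat.card_pos))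

theorem e6 : TBox (IsoChar fun F _ _ S _ => Nonempty (S ≃* Lie.chevE6.group F)) := by
  rintro p _ S _ _ _ ⟨F, _, _, _, ⟨e⟩⟩
  obtain ⟨f, hp, hq⟩ := FiniteField.card F p
  have := Finite.of_equiv _ e.toEquiv
  let k := AlgebraicClosure F
  let P := tw6 p k f f.pos 1
  have hc := comb_E6 P car6 tw6_gι
  have h1 := S1054.result (F := F) chevE6 (by simp)
  refine Row.of_equiv (hF h p _ _ k _ _ P _ ⟨h1.1, h1.2,
    pi_untw (st6 p k) hp6 P (fa_of_faith hc.faith 0) (fun _ => rfl) (algebraMap F k) hq, Nat.gcd 3 (p ^ (f : ℕ) - 1), ?_,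
    cyc p (S2105.result hq), (card_mulAut_le _).trans ?_⟩ hc) e
  · refine le_card_Zc P Nat.prime_three ![1, 0, 2, 0, 1, 2] 0 rfl (fun i => ?_) fun hm =>
      ⟨not_dvd_of hp Nat.prime_three f.pos (Or.inl hm), fun i => ?_⟩
    · change _ ∣ ∑ j, _ * ChevalleyStructure.CoxeterGeomTypes.cartanOf chevE6 6 j i
      revert i; decide +kernel
    · conv_lhs => rw [← mul_one (![1, 0, 2, 0, 1, 2] _)]
      exact Nat.ModEq.mul_left _ ((Nat.modEq_iff_dvd' (Nat.one_le_pow _ _ hp.pos)).mpr hm)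
  · rw [S2123.result p f hq, tw6_cent, mul_comm 2]
    exact le_rfl

theorem te6 : TBox (IsoChar fun K _ _ S _ =>
    ∃ q, IsPrimePow q ∧ Fintype.card K = q ^ 2 ∧ Nonempty (S ≃* Lie.twistedE6 K q)) := by
  rintro p _ S _ _ _ ⟨K, _, _, _, q, hq, hK, ⟨e⟩⟩
  obtain ⟨n, hp, hn⟩ := FiniteField.card K p
  obtain ⟨f, hf, rfl⟩ : ∃ f, 0 < f ∧ q = p ^ f := by
    obtain ⟨f, -, rfl⟩ := (Nat.dvd_prime_pow hp).mp (show q ∣ p ^ (n : ℕ) by rw [← hn, hK]; exact dvd_pow_self q two_ne_zero)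
    exact ⟨f, Nat.pos_of_ne_zero (by rintro rfl; exact hq.ne_one rfl), rfl⟩
  have := Finite.of_equiv _ e.toEquiv
  let k := AlgebraicClosure K
  let P := tw6 p k f hf (-1)
  have hc := comb_E6 P car6 tw6_gι
  have h1 := S1070.result hq hK
  refine Row.of_equiv (hF h p _ _ k _ _ P _ ⟨h1.1, h1.2,
    pi_tw hf (fa_of_faith hc.faith 0) (algebraMap K k) hq hK, Nat.gcd 3 (p ^ f + 1), ?_, ?_,
    (card_mulAut_le _).trans ?_⟩ hc) e
  · refine le_card_Zc P Nat.prime_three ![1, 0, 2, 0, 1, 2] 0 rfl (fun i => ?_) fun hm =>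
      ⟨not_dvd_of hp Nat.prime_three hf (Or.inr hm), fun i => ?_⟩
    · change _ ∣ ∑ j, _ * ChevalleyStructure.CoxeterGeomTypes.cartanOf chevE6 6 j i
      revert i; decide +kernel
    · change ![1, 0, 2, 0, 1, 2] (H129.StTw.nod i) % 3 = ![1, 0, 2, 0, 1, 2] i * p ^ f % 3
      fin_cases i <;> simp [H129.StTw.nod] <;> omega
  · by_cases h2 : p ^ f = 2
    · obtain rfl : p = 2 := (Nat.prime_dvd_prime_iff_eq hp Nat.prime_two).mp (h2 ▸ dvd_pow_self p hf.ne')
      rw [h2] at hK ⊢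
      exact ⟨_, _, 2, S2109.result hK, by simp⟩
    · exact cyc p (S2108.result hq hK h2)
  · rw [S2130.result p f (by rw [hK, ← pow_mul, mul_comm]) hf, tw6_cent, mul_comm 2]
    exact le_rfl

end Cfsg.Agent.TwoF.DC.TE
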