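import Cfsg.Agent.TwoF.DC.Fin.Rgd
import Cfsg.Agent.TwoF.DC.Mod.Can

/-!
# TwoF, defining characteristic, exceptional types (8): generators of the finite group, type free (helper37)

* `TT_le` : `P.TT` is generated by the fixed points in the simple relative root groups (twist of order at most 2);
* `exists_pi` : the map onto the simple group;  `le_card_Zc` : elements of the centre;  `card_mulAut_le`.
-/

set_option autoImplicit false
set_option linter.unusedSectionVars false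
set_option linter.unusedVariables false

namespace Cfsg.Agent.TwoF.DC.TE

open Cfsg.Agent.H45.UniE Cfsg.Agent.Tits.Roots Cfsg.Agent.Nodes.Reps

section gen

variable {p : ℕ} {ι Φ k G : Type} [Fintype ι] [DecidableEq ι] [Fintype Φ] [DecidableEq Φ] [Field k] [IsAlgClosed k]
  [Fact p.Prime] [CharP k p] [Group G] {D : RDat p ι Φ k G}

theorem fa_of_faith (h : Faith D.R p k fun _ => True) (i : ι) : D.Fa := fun b => by
  obtain ⟨C⟩ := boxHW p ι Φ k G D
  have h1 : ∀ j : ι, (fun _ => 1 : ι → ℕ) j < p := fun _ => (Fact.out : p.Prime).one_lt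
  have h2 : (fun _ => 1 : ι → ℕ) ≠ 0 := fun e => one_ne_zero (congrFun e i)
  exact ⟨_, inferInstance, inferInstance, C.H _ h1 h2, C.rep _ h1 h2, h _ _ trivial b⟩

variable (P : Tws D)

theorem TT_le_X (hF : D.Fa) {K : Subgroup G} (h1 : ∀ j, P.X (sr j) ≤ K) (h2 : ∀ j, P.X (-sr j) ≤ K) : P.TT ≤ K := by
  classical
  have h3 : ∀ z, IsRoot P.cs P.hC z → P.X z ≤ K := by
    rintro _ ⟨w, j, rfl⟩ g hg
    obtain ⟨ω, rfl⟩ := P.cs.wordProd_surjective w
    rw [← P.cj_nwl, mem_cj] at hg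
    have h4 : D.nwl (RC.OSym.fl ω) ∈ K := by
      rw [P.nwl_fl]
      exact Subgroup.list_prod_mem _ fun _ hy => by
        obtain ⟨j, -, rfl⟩ := List.mem_map.1 hy
        exact sup_le (h1 j) (h2 j) (P.no_mem j)
    simpa [mul_assoc] using mul_mem (mul_mem h4 (h1 j hg)) (inv_mem h4)
  have key : ∀ K' : Subgroup G, (∀ b, P.X (P.rv (true, b)) ≤ K') → ∀ g ∈ D.U, g ∈ P.Fx → g ∈ K' :=
    fun K' hK g hg hg' => P.fix_UP hF Finset.univ (fun _ _ _ _ _ _ _ _ _ _ => Finset.mem_univ _)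
      (fun _ _ _ _ => Finset.mem_univ _) (fun b _ => hK b)
      ⟨Subgroup.closure_mono (by rintro _ ⟨b, s, rfl⟩; exact ⟨b, by simp, s, rfl⟩) hg, hg'⟩
  refine (Subgroup.closure_le _).2 ?_
  rintro g ⟨hg | hg, hg'⟩
  · exact key K (fun b => h3 _ (P.osym.isRoot_rv _)) g hg hg'
  · let K' : Subgroup G :=
      { carrier := {g | D.τ g ∈ K}
        mul_mem' := fun {a b} ha hb => by
          show D.τ (a * b) ∈ K
          rw [D.τ_mul]; exact mul_mem hb ha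
        one_mem' := by
          show D.τ 1 ∈ K
          rw [D.τ_one]; exact one_mem _
        inv_mem' := fun {a} ha => by
          show D.τ a⁻¹ ∈ K
          rw [D.τ_inv]; exact inv_mem ha }
    have h4 : D.τ (D.τ g) ∈ K :=
      key K' (fun b u hu => h3 _ (P.osym.isRoot_rv _).neg (P.τ_X hu)) _ (D.τ_Um hg) (P.τ_Fx hg')
    rwa [D.τ_τ] at h4

theorem orb_iff (hσ : ∀ i, P.sι (P.sι i) = i) (i i' : ι) : i' ∈ [i, P.sι i] ↔ orb P.sι i' = orb P.sι i := by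
  rw [List.mem_pair]
  refine ⟨by rintro (rfl | rfl); exacts [rfl, orb_apply i], fun h => ?_⟩
  obtain ⟨m, rfl⟩ := exists_pow_of_orb h.symm
  clear h
  induction m with
  | zero => exact Or.inl rfl
  | succ m ih =>
    rw [pow_succ', Equiv.Perm.mul_apply]
    rcases ih with ih | ih <;> rw [ih]
    · exact Or.inr rfl
    · exact Or.inl (hσ i)

theorem po_fix (hσ : ∀ i, P.sι (P.sι i) = i) {i : ι} (hi : P.sι i = i) {g : ι → G} (hg : ∀ i, g i ∈ D.Lo i) :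
    P.po (orb P.sι i) g = g i := by
  rw [← P.po_perm hg (l := [i]) (List.nodup_singleton i) fun i' => by rw [← orb_iff P hσ, hi]; simp]
  simp

theorem po_pair (hσ : ∀ i, P.sι (P.sι i) = i) {i : ι} (hi : P.sι i ≠ i) {g : ι → G} (hg : ∀ i, g i ∈ D.Lo i) :
    P.po (orb P.sι i) g = g i * g (P.sι i) := by
  rw [← P.po_perm hg (l := [i, P.sι i]) (by simp [hi.symm]) (orb_iff P hσ i)]
  simp

/-- **generators of the finite group**; `r` chooses a node in each orbit -/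
theorem TT_le (hF : D.Fa) (hσ : ∀ i, P.sι (P.sι i) = i) {K : Subgroup G} (r : ι → Prop) (hr : ∀ i, r i ∨ r (P.sι i))
    (h1 : ∀ i a, P.sι i = i → a ^ p ^ P.f = a → D.x i a ∈ K ∧ D.y i a ∈ K)
    (h2 : ∀ i a, r i → P.sι i ≠ i → (a ^ p ^ P.f) ^ p ^ P.f = a →
      D.x i a * D.x (P.sι i) (a ^ p ^ P.f) ∈ K ∧ D.y i a * D.y (P.sι i) (a ^ p ^ P.f) ∈ K) : P.TT ≤ K := by
  have key : ∀ j (v : ι → k), (∀ i, orb P.sι i = j → v (P.sι i) = v i ^ p ^ P.f) → P.xo j v ∈ K ∧ P.yo j v ∈ K := by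
    intro j v hv
    obtain ⟨i, hi, rfl⟩ : ∃ i, r i ∧ orb P.sι i = j :=
      (hr (rp j)).elim (fun h => ⟨_, h, orb_rp j⟩) fun h => ⟨_, h, (orb_apply _).trans (orb_rp j)⟩
    rw [Tws.xo, Tws.yo]
    by_cases h : P.sι i = i
    · rw [po_fix P hσ h fun i => D.x_mem_Lo i _, po_fix P hσ h fun i => D.y_mem_Lo i _]
      exact h1 i _ h (by rw [← hv i rfl, h])
    · rw [po_pair P hσ h fun i => D.x_mem_Lo i _, po_pair P hσ h fun i => D.y_mem_Lo i _, hv i rfl]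
      exact h2 i _ hi h (by rw [← hv i rfl, ← hv _ (orb_apply i), hσ])
  refine TT_le_X P hF (fun j g hg => ?_) fun j g hg => ?_
  · obtain ⟨v, hv, rfl⟩ := P.mem_X_sr.1 hg
    exact (key j v hv).1
  · obtain ⟨v, hv, rfl⟩ := P.mem_X_neg.1 hg
    exact (key j v hv).2

theorem single_mem_TT {i : ι} (hi : P.sι i = i) {a : k} (ha : a ^ p ^ P.f = a) : D.x i a ∈ P.TT ∧ D.y i a ∈ P.TT :=
  ⟨P.mem_TT_U (D.x_mem_U i a) (by rw [P.mem_Fx, P.Θ_eq, P.GF_x, ha]; exact congrArg (D.x · a) hi),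
    P.mem_TT_Um (D.y_mem_Um i a) (by rw [P.mem_Fx, P.Θ_eq, P.GF_y, ha]; exact congrArg (D.y · a) hi)⟩

theorem pair_mem_TT (hσ : ∀ i, P.sι (P.sι i) = i) {i : ι} (hi : P.sι i ≠ i) {a : k}
    (ha : (a ^ p ^ P.f) ^ p ^ P.f = a) :
    D.x i a * D.x (P.sι i) (a ^ p ^ P.f) ∈ P.TT ∧ D.y i a * D.y (P.sι i) (a ^ p ^ P.f) ∈ P.TT := by
  refine ⟨P.mem_TT_U (mul_mem (D.x_mem_U _ _) (D.x_mem_U _ _)) ?_,
    P.mem_TT_Um (mul_mem (D.y_mem_Um _ _) (D.y_mem_Um _ _)) ?_⟩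
  · rw [P.mem_Fx, map_mul, P.Θ_eq, P.GF_x, P.GF_x, ha, show P.gι P.σ (P.sι i) = i from hσ i]
    exact RDat.Lo_comm P.osym (orb_apply i) hi (D.x_mem_Lo _ _) (D.x_mem_Lo _ _)
  · rw [P.mem_Fx, map_mul, P.Θ_eq, P.GF_y, P.GF_y, ha, show P.gι P.σ (P.sι i) = i from hσ i]
    exact RDat.Lo_comm P.osym (orb_apply i) hi (D.y_mem_Lo _ _) (D.y_mem_Lo _ _)

theorem finite_Zc : Finite P.Zc := by
  have := P.finite_QQ
  exact Finite.of_injective _ (Subgroup.inclusion_injective (show P.Zc ≤ P.QQ from fun c hc => P.mem_QQ.2 hc.1))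

/-- a central element of order `r`, or `d = 1` -/
theorem le_card_Zc {r m : ℕ} (hr : r.Prime) (e : ι → ℕ) (i : ι) (hi : e i = 1)
    (hC : ∀ i, (r : ℤ) ∣ ∑ j, (e j : ℤ) * D.R.C j i) (hm : r ∣ m → ¬ p ∣ r ∧ ∀ i, e (P.sι i) ≡ e i * p ^ P.f [MOD r]) :
    Nat.gcd r m ≤ Nat.card P.Zc := by
  have := finite_Zc P
  by_cases h : r ∣ m
  swap
  · rw [(hr.coprime_iff_not_dvd.mpr h).gcd_eq_one]
    exact Nat.card_pos
  obtain ⟨h1, h2⟩ := hm h
  have : NeZero (r : k) := ⟨fun h0 => h1 ((CharP.cast_eq_zero_iff k p r).1 h0)⟩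
  have : NeZero r := ⟨hr.ne_zero⟩
  obtain ⟨ω, hω⟩ := HasEnoughRootsOfUnity.exists_primitiveRoot k r
  let u : kˣ := (hω.isUnit hr.ne_zero).unit
  have hu : orderOf u = r := by
    rw [← orderOf_units]
    exact hω.eq_orderOf.symm
  let c : P.Zc := ⟨fun j => u ^ e j, fun j => by
    rw [← pow_mul, pow_eq_pow_iff_modEq, hu]
    exact h2 j, fun j => by
    simp only [← zpow_natCast, ← zpow_mul, ← zpow_sum']
    rw [← orderOf_dvd_iff_zpow_eq_one, hu]
    exact hC j⟩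
  have h3 : r ∣ orderOf c := by
    rw [← hu, orderOf_dvd_iff_pow_eq_one]
    have h4 := congrFun (congrArg Subtype.val (pow_orderOf_eq_one c)) i
    rw [Subgroup.coe_pow, Pi.pow_apply] at h4
    change (u ^ e i) ^ _ = 1 at h4
    rwa [hi, pow_one] at h4
  rw [Nat.gcd_eq_left h]
  exact Nat.le_of_dvd Nat.card_pos (h3.trans (orderOf_dvd_natCard c))

end gen

theorem exists_pi {G B S : Type} [Group G] [Group B] [Group S] (θ : G →* B) (hθ : θ.ker ≤ Subgroup.center G)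
    (T : Subgroup G) (e : S →* B) (he : Function.Injective e) (h1 : T ≤ e.range.comap θ) (h2 : e.range ≤ T.map θ) :
    ∃ π : T →* S, Function.Surjective π ∧ π.ker ≤ Subgroup.center T := by
  let π : T →* S := (MonoidHom.ofInjective he).symm.toMonoidHom.comp ((θ.comp T.subtype).codRestrict _ fun t => h1 t.2)
  have hπ : ∀ t, e (π t) = θ t := fun t => MonoidHom.apply_ofInjective_symm he _
  refine ⟨π, fun s => ?_, fun t ht => ?_⟩
  · obtain ⟨t, ht, e1⟩ := h2 ⟨s, rfl⟩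
    exact ⟨⟨t, ht⟩, he ((hπ _).trans e1)⟩
  · have h3 : (t : G) ∈ θ.ker := by rw [MonoidHom.mem_ker, ← hπ, MonoidHom.mem_ker.mp ht, map_one]
    exact Subgroup.mem_center_iff.mpr fun g => Subtype.ext (Subgroup.mem_center_iff.mp (hθ h3) g)

end Cfsg.Agent.TwoF.DC.TE
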