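import Cfsg.Agent.TwoF.DC.TE.Inj
import Cfsg.Agent.TwoF.DC.TE.Gen
import Cfsg.Agent.H129.StTw
import Cfsg.Agent.BpExc.Emb

/-!
# TwoF, defining characteristic, exceptional types (9): Frobenius maps, graph automorphisms, the maps onto the simple
groups (helper37)
-/

set_option autoImplicit false
set_option linter.unusedSectionVars false
set_option linter.unusedVariables false

namespace Cfsg.Agent.TwoF.DC.TE

open Cfsg Cfsg.Lie Cfsg.Lie.ChevalleyDatum
open Cfsg.Agent.ChevalleyStructure Cfsg.Agent.ChevalleyStructure.Elts Cfsg.Agent.ChevalleyStructure.RootVec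
  Cfsg.Agent.Nodes.RGDChev Cfsg.Agent.KFacts.RgdChevCoord Cfsg.Agent.H45.UniE Cfsg.Agent.H405.UE Cfsg.Agent.TwoF.DC.RD
  Cfsg.Agent.ChevalleyStructure.CoxeterGeomTypes
open Cfsg.Agent.H564.U (zz)
open Cfsg.Agent.ChevalleyStructure.StTheta (theta)
open Cfsg.Agent.H129.StCover (stMap stMap_stGen theta_stMap ker_theta)
open Cfsg.Agent.H129.StTw (stSg stSg_fSg fSg rhoN epN nod nod_nod rhoN_rhoN rhoN_lt)
open Cfsg.Agent.H129.TwE6Fr (embT coe_embT embT_injective)
open Cfsg.Agent.GpExc.Field (emb emb_injective glMap_xG)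
open Cfsg.Agent.BpExc.Emb (mem_range_of_pow)

variable {p : ℕ} [Fact p.Prime] {k : Type} [Field k] [IsAlgClosed k] [CharP k p]

section untw

variable {D : ChevalleyDatum} {l : ℕ} {M : CoxeterMatrix (Fin l)}

/-- the root elements of `R` are the generators of the Steinberg group -/
structure StD (R : RDat p (Fin l) (PR D) k (D.SteinbergGroup k)) : Prop where
  x : ∀ (i : Fin l) t, R.x i t = D.stGen k (D.simple i) t
  y : ∀ (i : Fin l) t, R.y i t = D.stGen k (D.neg (D.simple i)) t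
  z : ∀ b t, R.z b t = D.stGen k b.1 t

variable {R : RDat p (Fin l) (PR D) k (D.SteinbergGroup k)} (h : StD R)

/-- no graph automorphisms -/
noncomputable def tw0 (f : ℕ) (hf : 0 < f) : Tws R where
  f := f
  f_pos := hf
  Fr := stMap D (frobenius k p)
  Fr_z b t := by rw [h.z, h.z, stMap_stGen, frobenius_def]
  Fr_y i t := by rw [h.y, h.y, stMap_stGen, frobenius_def]
  Gr := Unit
  gr := 1
  gι := 1
  gΦ := 1
  gι_inj _ _ _ := rfl
  gr_x _ _ _ := rfl
  gr_y _ _ _ := rfl
  gr_z _ _ := ⟨1, fun t => by rw [Units.val_one, one_mul]; rfl⟩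
  cf_gr _ _ _ := rfl
  co_gr _ _ _ := rfl
  C_gr _ _ _ := rfl
  ht_gr _ _ := rfl
  Gr_small := by simp
  σ := 1
  orth i i' h1 h2 := absurd (Equiv.Perm.sameCycle_one.mp h1) h2

theorem emb_zz (hp : IsType D l M) {F : Type} [Field F] (φ : F →+* k) (r : ℕ) (t : F) :
    emb hp.inList φ (zz hp r t) = zz hp r (φ t) := by
  rw [← theta_zz, ← theta_zz, ← theta_stMap, stMap_stGen]

include h in
/-- the map onto the Chevalley group -/
theorem pi_untw (hp : IsType D l M) (P : Tws R) (hF : R.Fa) (hσ : ∀ i, P.sι i = i) {F : Type} [Field F] [Fintype F]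
    (φ : F →+* k) (hq : Fintype.card F = p ^ P.f) :
    ∃ π : P.TT →* ↥(D.group F), Function.Surjective π ∧ π.ker ≤ Subgroup.center P.TT := by
  refine exists_pi (theta hp.inList k) (ker_theta _).le P.TT (emb hp.inList φ) (emb_injective _ φ)
    (TT_le P hF (fun i => by rw [hσ, hσ]) (fun _ => True) (fun _ => Or.inl trivial) (fun i a _ ha => ?_)
      fun i a _ hi => absurd (hσ i) hi) ?_
  · obtain ⟨b, rfl⟩ := mem_range_of_pow φ (hq ▸ ha)
    exact ⟨⟨zz hp _ b, by rw [h.x, theta_zz hp, emb_zz]⟩, ⟨zz hp _ b, by rw [h.y, theta_zz hp, emb_zz]⟩⟩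
  · rw [MonoidHom.range_eq_map, ← closure_simple hp, Subgroup.map_le_iff_le_comap, Subgroup.closure_le]
    have h1 : ∀ s : F, φ s ^ p ^ P.f = φ s := fun s => by rw [← hq, ← map_pow, FiniteField.pow_card]
    rintro _ ⟨i, s, rfl | rfl⟩
    · exact ⟨_, (single_mem_TT P (hσ i) (h1 s)).1, by rw [h.x, theta_zz hp, zz_simple, emb_zz]⟩
    · exact ⟨_, (single_mem_TT P (hσ i) (h1 s)).2, by rw [h.y, theta_zz hp, zz_neg_simple, emb_zz]⟩

end untw

variable (k p) in
theorem st6 : StD (d6 k p) := ⟨fun _ _ => rfl, fun _ _ => rfl, fun _ _ => rfl⟩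
variable (k p) in
theorem st7 : StD (d7 k p) := ⟨fun _ _ => rfl, fun _ _ => rfl, fun _ _ => rfl⟩
variable (k p) in
theorem st8 : StD (d8 k p) := ⟨fun _ _ => rfl, fun _ _ => rfl, fun _ _ => rfl⟩

/-! ### the graph automorphism of `E6` -/

/-- the homomorphism given by an involution -/
def sgn {H : Type} [Group H] (g : H) (hg : g * g = 1) : ℤˣ →* H where
  toFun u := if u = 1 then 1 else g
  map_one' := if_pos rfl
  map_mul' u v := by
    rcases Int.units_eq_one_or u with rfl | rfl <;> rcases Int.units_eq_one_or v with rfl | rfl <;> simp [hg]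

theorem sgn_neg {H : Type} [Group H] (g : H) (hg : g * g = 1) : sgn g hg (-1) = g := rfl

theorem tab_x : ∀ i : Fin 6, chevE6.simple i < 72 ∧ rhoN (chevE6.simple i) = chevE6.simple (nod i) ∧
    epN (chevE6.simple i) = 1 := by decide +kernel
theorem tab_y : ∀ i : Fin 6, chevE6.neg (chevE6.simple i) < 72 ∧
    rhoN (chevE6.neg (chevE6.simple i)) = chevE6.neg (chevE6.simple (nod i)) ∧
    epN (chevE6.neg (chevE6.simple i)) = 1 := by decide +kernel
theorem tab_rt : ∀ r < 72, ∀ i : Fin 6, rt chevE6 (rhoN r) (nod i) = rt chevE6 r i := by decide +kernel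
theorem tab_ep : ∀ r < 72, epN (rhoN r) * epN r = 1 := by decide +kernel
theorem tab_pos : ∀ r < 72, chevE6.IsPosRoot r → chevE6.IsPosRoot (rhoN r) := by decide +kernel
theorem tab_car : ∀ i j : Fin 6, cartanOf chevE6 6 (nod i) (nod j) = cartanOf chevE6 6 i j := by decide +kernel
theorem tab_orth : ∀ i : Fin 6, i ≠ nod i → cartanOf chevE6 6 i (nod i) = 0 := by decide +kernel

/-- the symmetry of the nodes -/
def nodP : Equiv.Perm (Fin 6) := Function.Involutive.toPerm nod nod_nod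

/-- the symmetry of the positive roots -/
def rhoP : Equiv.Perm (PR chevE6) :=
  Function.Involutive.toPerm (fun b => ⟨rhoN b.1, tab_pos _ b.2.1 b.2⟩) fun b => Subtype.ext (rhoN_rhoN b.2.1)

theorem sg_gen {r : ℕ} (hr : r < 72) (t : k) :
    stSg (RingHom.id k) (chevE6.stGen k r t) = chevE6.stGen k (rhoN r) ((epN r : k) * t) := stSg_fSg _ hr t

theorem sg_sg (g : chevE6.SteinbergGroup k) : stSg (RingHom.id k) (stSg (RingHom.id k) g) = g := by
  have h : (stSg (RingHom.id k)).comp (stSg (RingHom.id k)) = MonoidHom.id _ :=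
    H129.StCover.hom_ext fun r hr t => by
      rw [MonoidHom.comp_apply, sg_gen hr, sg_gen (rhoN_lt hr), rhoN_rhoN hr, ← mul_assoc, ← Int.cast_mul,
        tab_ep r hr, Int.cast_one, one_mul, MonoidHom.id_apply]
  exact DFunLike.congr_fun h g

variable (k) in
/-- the graph automorphism -/
noncomputable def gam : MulAut (chevE6.SteinbergGroup k) where
  toFun := stSg (RingHom.id k)
  invFun := stSg (RingHom.id k)
  left_inv := sg_sg
  right_inv := sg_sg
  map_mul' := map_mul _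

theorem nodP_sq : nodP * nodP = 1 := Equiv.ext nod_nod
theorem rhoP_sq : rhoP * rhoP = 1 := Equiv.ext fun b => Subtype.ext (rhoN_rhoN b.2.1)
theorem gam_sq : gam k * gam k = 1 := MulEquiv.ext sg_sg

theorem same_nod {i i' : Fin 6} (h : nodP.SameCycle i i') : i' = i ∨ i' = nod i := by
  obtain ⟨m, rfl⟩ := h.exists_nat_pow_eq
  induction m with
  | zero => exact Or.inl rfl
  | succ m ih =>
    rw [pow_succ', Equiv.Perm.mul_apply]
    rcases ih ⟨m, rfl⟩ with ih | ih <;> rw [ih]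
    · exact Or.inr rfl
    · exact Or.inl (nod_nod i)

variable (k p) in
/-- the twists of `E6` -/
noncomputable def tw6 (f : ℕ) (hf : 0 < f) (σ : ℤˣ) : Tws (d6 k p) where
  f := f
  f_pos := hf
  Fr := stMap chevE6 (frobenius k p)
  Fr_z b t := by rw [(st6 p k).z, (st6 p k).z, stMap_stGen, frobenius_def]
  Fr_y i t := by rw [(st6 p k).y, (st6 p k).y, stMap_stGen, frobenius_def]
  Gr := ℤˣ
  gr := sgn (gam k) gam_sq
  gι := sgn nodP nodP_sq
  gΦ := sgn rhoP rhoP_sq
  gι_inj := (injective_iff_map_eq_one _).mpr fun u hu => (Int.units_eq_one_or u).resolve_right fun e => by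
    rw [e, sgn_neg] at hu
    exact absurd (DFunLike.congr_fun hu 0) (by decide)
  gr_x u i t := by
    rcases Int.units_eq_one_or u with rfl | rfl
    · rw [map_one, map_one]; rfl
    · rw [sgn_neg, sgn_neg, (st6 p k).x, (st6 p k).x]
      refine (sg_gen (tab_x i).1 t).trans ?_
      rw [(tab_x i).2.1, (tab_x i).2.2, Int.cast_one, one_mul]; rfl
  gr_y u i t := by
    rcases Int.units_eq_one_or u with rfl | rfl
    · rw [map_one, map_one]; rfl
    · rw [sgn_neg, sgn_neg, (st6 p k).y, (st6 p k).y]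
      refine (sg_gen (tab_y i).1 t).trans ?_
      rw [(tab_y i).2.1, (tab_y i).2.2, Int.cast_one, one_mul]; rfl
  gr_z u b := by
    rcases Int.units_eq_one_or u with rfl | rfl
    · exact ⟨1, fun t => by rw [map_one, map_one, Units.val_one, one_mul]; rfl⟩
    · refine ⟨Units.mkOfMulEqOne (epN b.1 : k) (epN (rhoN b.1) : k) (by
        rw [mul_comm, ← Int.cast_mul, tab_ep _ b.2.1, Int.cast_one]), fun t => ?_⟩
      rw [sgn_neg, sgn_neg, (st6 p k).z, (st6 p k).z]
      exact sg_gen b.2.1 t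
  cf_gr u b i := by
    rcases Int.units_eq_one_or u with rfl | rfl
    · rw [map_one, map_one]; rfl
    · rw [sgn_neg, sgn_neg]; exact congrArg Int.toNat (tab_rt _ b.2.1 i)
  co_gr u b i := by
    rcases Int.units_eq_one_or u with rfl | rfl
    · rw [map_one, map_one]; rfl
    · rw [sgn_neg, sgn_neg]; exact congrArg Int.toNat (tab_rt _ b.2.1 i)
  C_gr u i j := by
    rcases Int.units_eq_one_or u with rfl | rfl
    · rw [map_one]; rfl
    · rw [sgn_neg]; exact tab_car i j
  ht_gr u b := by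
    rcases Int.units_eq_one_or u with rfl | rfl
    · rw [map_one]; rfl
    · rw [sgn_neg]
      change ∑ i : Fin 6, (rt chevE6 (rhoN b.1) i).toNat * 1 = ∑ i : Fin 6, (rt chevE6 b.1 i).toNat * 1
      rw [← Equiv.sum_comp nodP]
      exact Finset.sum_congr rfl fun i _ => congrArg (· * 1) (congrArg Int.toNat (tab_rt _ b.2.1 i))
  Gr_small := by rw [Nat.card_eq_fintype_card, Fintype.card_units_int]; decide
  σ := σ
  orth i i' h1 h2 := by
    rcases Int.units_eq_one_or σ with rfl | rfl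
    · rw [map_one] at h1
      exact absurd (Equiv.Perm.sameCycle_one.mp h1) h2
    · rw [sgn_neg] at h1
      obtain rfl := (same_nod h1).resolve_left h2.symm
      exact tab_orth i h2

theorem tw6_gι {f : ℕ} {hf : 0 < f} {σ : ℤˣ} (γ : (tw6 p k f hf σ).Gr) (h : γ ≠ 1) (i : Fin 6) :
    (tw6 p k f hf σ).gι γ i = E6.nd i := by
  obtain rfl := (Int.units_eq_one_or γ).resolve_left h
  rfl

theorem tw6_cent {f : ℕ} {hf : 0 < f} {σ : ℤˣ} :
    Nat.card (Subgroup.centralizer ({(tw6 p k f hf σ).σ} : Set (tw6 p k f hf σ).Gr)) = 2 := by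
  have h : Subgroup.centralizer ({σ} : Set ℤˣ) = ⊤ := eq_top_iff.mpr fun g _ h _ => mul_comm h g
  change Nat.card (Subgroup.centralizer ({σ} : Set ℤˣ)) = 2
  rw [h, Subgroup.card_top, Nat.card_eq_fintype_card, Fintype.card_units_int]

/-- the map onto the twisted group -/
theorem pi_tw {f : ℕ} (hf : 0 < f) (hF : (d6 k p).Fa) {K : Type} [Field K] [Fintype K] (φ : K →+* k)
    (hq : IsPrimePow (p ^ f)) (hK : Fintype.card K = (p ^ f) ^ 2) :
    ∃ π : (tw6 p k f hf (-1)).TT →* ↥(twistedE6 K (p ^ f)),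
      Function.Surjective π ∧ π.ker ≤ Subgroup.center (tw6 p k f hf (-1)).TT := by
  have hσ : ∀ i, (tw6 p k f hf (-1)).sι i = nod i := fun _ => rfl
  have hσ2 : ∀ i, (tw6 p k f hf (-1)).sι ((tw6 p k f hf (-1)).sι i) = i := nod_nod
  have hx : ∀ r (t : K), ((theta hp6.inList k (chevE6.stGen k r (φ t)) : ↥(chevE6.group k)) : GL chevE6.Idx k) =
      GpExc.Field.glMap chevE6 φ (TwE6Basic.x r t) := fun r t => by rw [theta_zz hp6, glMap_xG]; rfl
  have h1 : ∀ s : K, (φ s ^ p ^ f) ^ p ^ f = φ s := fun s => by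
    rw [← pow_mul, ← sq, ← hK, ← map_pow, FiniteField.pow_card]
  have h2 : ∀ a : k, (a ^ p ^ f) ^ p ^ f = a → ∃ b, φ b = a := fun a ha =>
    mem_range_of_pow φ (by rw [hK, sq, pow_mul, ha])
  have m1 : ∀ {r} {t : K}, TwE6Basic.x r t ∈ twistedE6 K (p ^ f) →
      chevE6.stGen k r (φ t) ∈ (embT φ hq hK).range.comap (theta hp6.inList k) := fun h =>
    ⟨⟨_, h⟩, Subtype.ext (by rw [coe_embT, hx])⟩
  have m2 : ∀ {r s} {t : K}, TwE6Basic.x r t * TwE6Basic.x s (t ^ p ^ f) ∈ twistedE6 K (p ^ f) →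
      chevE6.stGen k r (φ t) * chevE6.stGen k s (φ t ^ p ^ f) ∈ (embT φ hq hK).range.comap (theta hp6.inList k) :=
    fun h => ⟨⟨_, h⟩, Subtype.ext (by rw [coe_embT, map_mul, map_mul, Subgroup.coe_mul, ← map_pow, hx, hx])⟩
  refine exists_pi (theta hp6.inList k) (ker_theta _).le _ (embT φ hq hK) (embT_injective φ hq hK)
    (TT_le _ hF hσ2 (fun i => i ≤ 3) (fun i => by rw [hσ]; revert i; decide) (fun i a hi ha => ?_)
      fun i a hr hi ha => ?_) ?_
  · change a ^ p ^ f = a at ha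
    obtain ⟨b, rfl⟩ := h2 a (by rw [ha, ha])
    have hb : b ^ p ^ f = b := φ.injective (by rw [map_pow, ha])
    obtain rfl | rfl : i = 1 ∨ i = 3 := by rw [hσ] at hi; revert i; decide
    · exact ⟨m1 (TwE6Basic.single_mem hb (r := 46) (by simp)), m1 (TwE6Basic.single_mem hb (r := 25) (by simp))⟩
    · exact ⟨m1 (TwE6Basic.single_mem hb (r := 39) (by simp)), m1 (TwE6Basic.single_mem hb (r := 32) (by simp))⟩
  · obtain ⟨b, rfl⟩ := h2 a ha
    obtain rfl | rfl : i = 0 ∨ i = 2 := by rw [hσ] at hi; revert i; decide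
    · exact ⟨m2 (TwE6Basic.pair_mem b (rs := (56, 36)) (by simp)), m2 (TwE6Basic.pair_mem b (rs := (15, 35)) (by simp))⟩
    · exact ⟨m2 (TwE6Basic.pair_mem b (rs := (42, 37)) (by simp)), m2 (TwE6Basic.pair_mem b (rs := (29, 34)) (by simp))⟩
  · let N := ((((tw6 p k f hf (-1)).TT.map (theta hp6.inList k)).map (chevE6.group k).subtype).comap
      (GpExc.Field.glMap chevE6 φ))
    have n1 : ∀ {r} {t : K}, chevE6.stGen k r (φ t) ∈ (tw6 p k f hf (-1)).TT → TwE6Basic.x r t ∈ N := fun h =>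
      ⟨_, ⟨_, h, rfl⟩, hx _ _⟩
    have n2 : ∀ {r s} {t : K}, chevE6.stGen k r (φ t) * chevE6.stGen k s (φ t ^ p ^ f) ∈ (tw6 p k f hf (-1)).TT →
        TwE6Basic.x r t * TwE6Basic.x s (t ^ p ^ f) ∈ N := fun h =>
      ⟨_, ⟨_, h, rfl⟩, by rw [map_mul, map_mul, map_mul, ← map_pow]; exact congrArg₂ _ (hx _ _) (hx _ _)⟩
    have h3 : twistedE6 K (p ^ f) ≤ N := by
      refine (TwE6Basic.twisted_le_iff N).mpr ⟨fun t ht r hr => ?_, fun t rs hr => ?_⟩
      · have h4 : φ t ^ p ^ f = φ t := by rw [← map_pow, ht]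
        simp only [List.mem_cons, List.not_mem_nil, or_false] at hr
        rcases hr with rfl | rfl | rfl | rfl
        · exact n1 (single_mem_TT (tw6 p k f hf (-1)) (i := 1) rfl h4).1
        · exact n1 (single_mem_TT (tw6 p k f hf (-1)) (i := 1) rfl h4).2
        · exact n1 (single_mem_TT (tw6 p k f hf (-1)) (i := 3) rfl h4).1
        · exact n1 (single_mem_TT (tw6 p k f hf (-1)) (i := 3) rfl h4).2
      · simp only [List.mem_cons, List.not_mem_nil, or_false] at hr
        rcases hr with rfl | rfl | rfl | rfl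
        · exact n2 (pair_mem_TT _ hσ2 (i := 0) (by rw [hσ]; decide) (h1 t)).1
        · exact n2 (pair_mem_TT _ hσ2 (i := 0) (by rw [hσ]; decide) (h1 t)).2
        · exact n2 (pair_mem_TT _ hσ2 (i := 2) (by rw [hσ]; decide) (h1 t)).1
        · exact n2 (pair_mem_TT _ hσ2 (i := 2) (by rw [hσ]; decide) (h1 t)).2
    rintro _ ⟨s, rfl⟩
    obtain ⟨g, hg, e⟩ := h3 s.2
    rwa [show embT φ hq hK s = g from Subtype.ext ((coe_embT φ hq hK s).trans e.symm)]

end Cfsg.Agent.TwoF.DC.TE
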