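import Cfsg.Agent.TwoF.DC.TE.Chk

/-!
# TwoF, defining characteristic, exceptional types: the tables for `E7` (generated; helper37)
-/

set_option autoImplicit false
set_option maxRecDepth 100000

namespace Cfsg.Agent.TwoF.DC.TE.E7

/-- the Cartan matrix -/
def cm : List (List ℤ) :=
  [[p2, p0, m1, p0, p0, p0, p0],
   [p0, p2, p0, m1, p0, p0, p0],
   [m1, p0, p2, m1, p0, p0, p0],
   [p0, m1, m1, p2, m1, p0, p0],
   [p0, p0, p0, m1, p2, m1, p0],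
   [p0, p0, p0, p0, m1, p2, m1],
   [p0, p0, p0, p0, p0, m1, p2]]

/-- the positive roots -/
def rt : List RE :=
  [
    ([p2, p2, p3, p4, p3, p2, p1], [p1, p0, p0, p0, p0, p0, p0], nat_lit 0, nat_lit 0),
    ([p1, p2, p3, p4, p3, p2, p1], [m1, p0, p1, p0, p0, p0, p0], nat_lit 1, nat_lit 0),
    ([p1, p2, p2, p4, p3, p2, p1], [p0, p0, m1, p1, p0, p0, p0], nat_lit 2, nat_lit 0),
    ([p1, p2, p2, p3, p3, p2, p1], [p0, p1, p0, m1, p1, p0, p0], nat_lit 4, nat_lit 0),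
    ([p1, p2, p2, p3, p2, p2, p1], [p0, p1, p0, p0, m1, p1, p0], nat_lit 8, nat_lit 0),
    ([p1, p1, p2, p3, p3, p2, p1], [p0, m1, p0, p0, p1, p0, p0], nat_lit 8, nat_lit 0),
    ([p1, p2, p2, p3, p2, p1, p1], [p0, p1, p0, p0, p0, m1, p1], nat_lit 16, nat_lit 0),
    ([p1, p1, p2, p3, p2, p2, p1], [p0, m1, p0, p1, m1, p1, p0], nat_lit 48, nat_lit 0),
    ([p1, p2, p2, p3, p2, p1, p0], [p0, p1, p0, p0, p0, p0, m1], nat_lit 64, nat_lit 0),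
    ([p1, p1, p2, p3, p2, p1, p1], [p0, m1, p0, p1, p0, m1, p1], nat_lit 192, nat_lit 0),
    ([p1, p1, p2, p2, p2, p2, p1], [p0, p0, p1, m1, p0, p1, p0], nat_lit 128, nat_lit 0),
    ([p1, p1, p2, p3, p2, p1, p0], [p0, m1, p0, p1, p0, p0, m1], nat_lit 768, nat_lit 0),
    ([p1, p1, p2, p2, p2, p1, p1], [p0, p0, p1, m1, p1, m1, p1], nat_lit 1536, nat_lit 0),
    ([p1, p1, p1, p2, p2, p2, p1], [p1, p0, m1, p0, p0, p1, p0], nat_lit 1024, nat_lit 0),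
    ([p1, p1, p2, p2, p2, p1, p0], [p0, p0, p1, m1, p1, p0, m1], nat_lit 6144, nat_lit 0),
    ([p1, p1, p2, p2, p1, p1, p1], [p0, p0, p1, p0, m1, p0, p1], nat_lit 4096, nat_lit 0),
    ([p1, p1, p1, p2, p2, p1, p1], [p1, p0, m1, p0, p1, m1, p1], nat_lit 12288, nat_lit 0),
    ([p0, p1, p1, p2, p2, p2, p1], [m1, p0, p0, p0, p0, p1, p0], nat_lit 8192, nat_lit 0),
    ([p1, p1, p2, p2, p1, p1, p0], [p0, p0, p1, p0, m1, p1, m1], nat_lit 49152, nat_lit 65536),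
    ([p1, p1, p1, p2, p2, p1, p0], [p1, p0, m1, p0, p1, p0, m1], nat_lit 81920, nat_lit 32768),
    ([p1, p1, p1, p2, p1, p1, p1], [p1, p0, m1, p1, m1, p0, p1], nat_lit 98304, nat_lit 16384),
    ([p0, p1, p1, p2, p2, p1, p1], [m1, p0, p0, p0, p1, m1, p1], nat_lit 196608, nat_lit 262144),
    ([p1, p1, p2, p2, p1, p0, p0], [p0, p0, p1, p0, p0, m1, p0], nat_lit 262144, nat_lit 139264),
    ([p1, p1, p1, p2, p1, p1, p0], [p1, p0, m1, p1, m1, p1, m1], nat_lit 1835008, nat_lit 2101248),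
    ([p1, p1, p1, p1, p1, p1, p1], [p1, p1, p0, m1, p0, p0, p1], nat_lit 1048576, nat_lit 2048),
    ([p0, p1, p1, p2, p2, p1, p0], [m1, p0, p0, p0, p1, p0, m1], nat_lit 2621440, nat_lit 17858560),
    ([p0, p1, p1, p2, p1, p1, p1], [m1, p0, p0, p1, m1, p0, p1], nat_lit 3145728, nat_lit 540672),
    ([p1, p1, p1, p2, p1, p0, p0], [p1, p0, m1, p1, p0, m1, p0], nat_lit 12582912, nat_lit 132096),
    ([p1, p1, p1, p1, p1, p1, p0], [p1, p1, p0, m1, p0, p1, m1], nat_lit 25165824, nat_lit 69206528),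
    ([p1, p0, p1, p1, p1, p1, p1], [p1, m1, p0, p0, p0, p0, p1], nat_lit 16777216, nat_lit 33554688),
    ([p0, p1, p1, p2, p1, p1, p0], [m1, p0, p0, p1, m1, p1, m1], nat_lit 109051904, nat_lit 553717760),
    ([p0, p1, p1, p1, p1, p1, p1], [m1, p1, p1, m1, p0, p0, p1], nat_lit 83886080, nat_lit 526336),
    ([p1, p1, p1, p1, p1, p0, p0], [p1, p1, p0, m1, p1, m1, p0], nat_lit 402653184, nat_lit 67240064),
    ([p1, p0, p1, p1, p1, p1, p0], [p1, m1, p0, p0, p0, p1, m1], nat_lit 805306368, nat_lit 2216689728),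
    ([p0, p1, p1, p2, p1, p0, p0], [m1, p0, p0, p1, p0, m1, p0], nat_lit 1207959552, nat_lit 553657344),
    ([p0, p1, p1, p1, p1, p1, p0], [m1, p1, p1, m1, p0, p1, m1], nat_lit 3489660928, nat_lit 537985536),
    ([p0, p1, p0, p1, p1, p1, p1], [p0, p1, m1, p0, p0, p0, p1], nat_lit 2147483648, nat_lit 4474880),
    ([p0, p0, p1, p1, p1, p1, p1], [m1, m1, p1, p0, p0, p0, p1], nat_lit 2684354560, nat_lit 524544),
    ([p1, p1, p1, p1, p0, p0, p0], [p1, p1, p0, p0, m1, p0, p0], nat_lit 4294967296, nat_lit 137474736160),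
    ([p1, p0, p1, p1, p1, p0, p0], [p1, m1, p0, p0, p1, m1, p0], nat_lit 12884901888, nat_lit 70934200336),
    ([p0, p1, p1, p1, p1, p0, p0], [m1, p1, p1, m1, p1, m1, p0], nat_lit 55834574848, nat_lit 537927808),
    ([p0, p1, p0, p1, p1, p1, p0], [p0, p1, m1, p0, p0, p1, m1], nat_lit 103079215104, nat_lit 137980056064),
    ([p0, p0, p1, p1, p1, p1, p0], [m1, m1, p1, p0, p0, p1, m1], nat_lit 180388626432, nat_lit 68737368128),
    ([p0, p0, p0, p1, p1, p1, p1], [p0, m1, m1, p1, p0, p0, p1], nat_lit 206158430208, nat_lit 4473088),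
    ([p1, p0, p1, p1, p0, p0, p0], [p1, m1, p0, p1, m1, p0, p0], nat_lit 824633720832, nat_lit 70902743048),
    ([p0, p1, p1, p1, p0, p0, p0], [m1, p1, p1, p0, m1, p0, p0], nat_lit 1374389534720, nat_lit 8796630491168),
    ([p0, p1, p0, p1, p1, p0, p0], [p0, p1, m1, p0, p1, m1, p0], nat_lit 3298534883328, nat_lit 137976120448),
    ([p0, p0, p1, p1, p1, p0, p0], [m1, m1, p1, p0, p1, m1, p0], nat_lit 6047313952768, nat_lit 68737310736),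
    ([p0, p0, p0, p1, p1, p1, p0], [p0, m1, m1, p1, p0, p1, m1], nat_lit 15393162788864, nat_lit 2168492096),
    ([p0, p0, p0, p0, p1, p1, p1], [p0, p0, p0, m1, p1, p0, p1], nat_lit 8796093022208, nat_lit 4458752),
    ([p1, p0, p1, p0, p0, p0, p0], [p1, p0, p1, m1, p0, p0, p0], nat_lit 17592186044416, nat_lit 8864915390468),
    ([p0, p1, p0, p1, p0, p0, p0], [p0, p1, m1, p1, m1, p0, p0], nat_lit 105553116266496, nat_lit 563087929267232),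
    ([p0, p0, p1, p1, p0, p0, p0], [m1, m1, p1, p1, m1, p0, p0], nat_lit 193514046488576, nat_lit 563018690273288),
    ([p0, p0, p0, p1, p1, p0, p0], [p0, m1, m1, p1, p1, m1, p0], nat_lit 492581209243648, nat_lit 2164556816),
    ([p0, p0, p0, p0, p1, p1, p0], [p0, p0, p0, m1, p1, p1, m1], nat_lit 844424930131968, nat_lit 72385088),
    ([p0, p0, p0, p0, p0, p1, p1], [p0, p0, p0, p0, m1, p1, p1], nat_lit 562949953421312, nat_lit 38291712),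
    ([p1, p0, p0, p0, p0, p0, p0], [p2, p0, m1, p0, p0, p0, p0], nat_lit 1125899906842624, nat_lit 139689328642),
    ([p0, p1, p0, p0, p0, p0, p0], [p0, p2, p0, m1, p0, p0, p0], nat_lit 2251799813685248, nat_lit 8934068849312),
    ([p0, p0, p1, p0, p0, p0, p0], [m1, p0, p2, m1, p0, p0, p0], nat_lit 5629499534213120, nat_lit 8864814145540),
    ([p0, p0, p0, p1, p0, p0, p0], [p0, m1, m1, p2, m1, p0, p0], nat_lit 15762598695796736, nat_lit 562952117703688),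
    ([p0, p0, p0, p0, p1, p0, p0], [p0, p0, p0, m1, p2, m1, p0], nat_lit 27021597764222976, nat_lit 36028797087416464),
    ([p0, p0, p0, p0, p0, p1, p0], [p0, p0, p0, p0, m1, p2, m1], nat_lit 54043195528445952, nat_lit 6361664),
    ([p0, p0, p0, p0, p0, p0, p1], [p0, p0, p0, p0, p0, m1, p2], nat_lit 36028797018963968, nat_lit 34359552)]

theorem chk_rt : chkR 7 cm rt = true := by decide +kernel

/-- weights in the orbit of [p1, p0, p0, p0, p0, p0, p0] -/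
def w0 : List WE :=
  [
    (nat_lit 56, nat_lit 2, [m1, m1, p1, p0, p1, m1, p0], nat_lit 16),
    (nat_lit 57, nat_lit 3, [p0, m1, m1, p1, p0, p1, m1], nat_lit 64),
    (nat_lit 60, nat_lit 4, [p1, p1, p0, p0, m1, p0, p0], nat_lit 32),
    (nat_lit 57, nat_lit 3, [p1, m1, p0, p0, p1, m1, p0], nat_lit 16),
    (nat_lit 56, nat_lit 2, [m1, p1, p1, m1, p1, m1, p0], nat_lit 128),
    (nat_lit 22, nat_lit 3, [p0, p1, m1, p0, p0, p1, m1], nat_lit 512),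
    (nat_lit 56, nat_lit 1, [m1, m1, p1, p0, p0, p1, m1], nat_lit 64),
    (nat_lit 30, nat_lit 1, [p1, p1, p0, m1, p1, m1, p0], nat_lit 128),
    (nat_lit 46, nat_lit 2, [p1, m1, p0, p0, p0, p1, m1], nat_lit 64),
    (nat_lit 38, nat_lit 0, [p0, p1, p0, p0, p0, p0, m1], nat_lit 536870912),
    (nat_lit 56, nat_lit 0, [m1, p0, p0, p0, p1, p0, m1], nat_lit 32768),
    (nat_lit 58, nat_lit 0, [p1, p0, m1, p0, p1, p0, m1], nat_lit 32768),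
    (nat_lit 59, nat_lit 0, [p0, p0, p1, m1, p1, p0, m1], nat_lit 1048576),
    (nat_lit 33, nat_lit 0, [p0, m1, p0, p1, p0, p0, m1], nat_lit 16777216),
    (nat_lit 56, nat_lit 1, [m1, p0, p0, p1, p0, m1, p0], nat_lit 1024),
    (nat_lit 44, nat_lit 1, [m1, p1, p1, m1, p0, p1, m1], nat_lit 512),
    (nat_lit 58, nat_lit 2, [p1, p0, m1, p1, p0, m1, p0], nat_lit 1024),
    (nat_lit 52, nat_lit 0, [p0, p0, p1, p0, m1, p1, m1], nat_lit 65536),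
    (nat_lit 59, nat_lit 2, [p1, p1, p0, m1, p0, p1, m1], nat_lit 512),
    (nat_lit 22, nat_lit 14, [p0, p0, p1, p0, p0, m1, p0], nat_lit 8192),
    (nat_lit 56, nat_lit 0, [m1, p0, p0, p1, m1, p1, m1], nat_lit 4096),
    (nat_lit 23, nat_lit 11, [p1, p0, m1, p1, m1, p1, m1], nat_lit 4096),
    (nat_lit 58, nat_lit 0, [m2, p0, p1, p0, p0, p0, p0], nat_lit 1),
    (nat_lit 59, nat_lit 0, [m1, p0, m1, p1, p0, p0, p0], nat_lit 1),
    (nat_lit 60, nat_lit 0, [m1, p1, p0, m1, p1, p0, p0], nat_lit 1),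
    (nat_lit 61, nat_lit 1, [m1, p1, p0, p0, m1, p1, p0], nat_lit 1),
    (nat_lit 60, nat_lit 1, [m1, m1, p0, p0, p1, p0, p0], nat_lit 1),
    (nat_lit 62, nat_lit 1, [m1, p1, p0, p0, p0, m1, p1], nat_lit 1),
    (nat_lit 61, nat_lit 1, [m1, m1, p0, p1, m1, p1, p0], nat_lit 1),
    (nat_lit 57, nat_lit 2, [m1, p1, p0, p0, p0, p0, m1], nat_lit 1),
    (nat_lit 62, nat_lit 1, [m1, m1, p0, p1, p0, m1, p1], nat_lit 1),
    (nat_lit 61, nat_lit 1, [m1, p0, p1, m1, p0, p1, p0], nat_lit 1),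
    (nat_lit 59, nat_lit 2, [m1, m1, p0, p1, p0, p0, m1], nat_lit 1),
    (nat_lit 62, nat_lit 1, [m1, p0, p1, m1, p1, m1, p1], nat_lit 1),
    (nat_lit 61, nat_lit 2, [p0, p0, m1, p0, p0, p1, p0], nat_lit 1),
    (nat_lit 60, nat_lit 2, [m1, p0, p1, m1, p1, p0, m1], nat_lit 1),
    (nat_lit 62, nat_lit 1, [m1, p0, p1, p0, m1, p0, p1], nat_lit 1),
    (nat_lit 62, nat_lit 1, [p0, p0, m1, p0, p1, m1, p1], nat_lit 1),
    (nat_lit 61, nat_lit 2, [m1, p0, p1, p0, m1, p1, m1], nat_lit 1),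
    (nat_lit 60, nat_lit 2, [p0, p0, m1, p0, p1, p0, m1], nat_lit 1),
    (nat_lit 62, nat_lit 1, [p0, p0, m1, p1, m1, p0, p1], nat_lit 1),
    (nat_lit 58, nat_lit 2, [m1, p0, p1, p0, p0, m1, p0], nat_lit 1),
    (nat_lit 61, nat_lit 1, [p0, p0, m1, p1, m1, p1, m1], nat_lit 1),
    (nat_lit 62, nat_lit 1, [p0, p1, p0, m1, p0, p0, p1], nat_lit 1),
    (nat_lit 59, nat_lit 2, [p0, p0, m1, p1, p0, m1, p0], nat_lit 1),
    (nat_lit 61, nat_lit 1, [p0, p1, p0, m1, p0, p1, m1], nat_lit 1),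
    (nat_lit 62, nat_lit 1, [p0, m1, p0, p0, p0, p0, p1], nat_lit 1),
    (nat_lit 60, nat_lit 1, [p0, p1, p0, m1, p1, m1, p0], nat_lit 1),
    (nat_lit 61, nat_lit 1, [p0, m1, p0, p0, p0, p1, m1], nat_lit 1),
    (nat_lit 57, nat_lit 1, [p0, p1, p0, p0, m1, p0, p0], nat_lit 1),
    (nat_lit 60, nat_lit 0, [p0, m1, p0, p0, p1, m1, p0], nat_lit 1),
    (nat_lit 59, nat_lit 0, [p0, m1, p0, p1, m1, p0, p0], nat_lit 1),
    (nat_lit 58, nat_lit 0, [p0, p0, p1, m1, p0, p0, p0], nat_lit 1),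
    (nat_lit 56, nat_lit 0, [p1, p0, m1, p0, p0, p0, p0], nat_lit 1),
    (nat_lit 0, nat_lit 999, [m1, p0, p0, p0, p0, p0, p0], nat_lit 1)]

theorem chk_w0 : chkW 7 rt [p1, p0, p0, p0, p0, p0, p0] w0 = true := by decide +kernel

theorem enum_w0 : enum (fun I n => n.beq 0 || ((fun n => 2 * n + 1) n).ble (cnt I w0)) rt 0 0 0 = true := by
  decide +kernel

/-- weights in the orbit of [p0, p1, p0, p0, p0, p0, p0] -/
def w1 : List WE :=
  [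
    (nat_lit 60, nat_lit 3, [m2, m1, p1, p0, p1, p0, m1], nat_lit 1),
    (nat_lit 62, nat_lit 2, [m2, m1, p1, p1, m1, p0, p1], nat_lit 1),
    (nat_lit 62, nat_lit 2, [m1, m1, m1, p1, p1, m1, p1], nat_lit 1),
    (nat_lit 61, nat_lit 3, [m1, m1, p0, p1, p0, m1, p0], nat_lit 1),
    (nat_lit 1, nat_lit 2, [m2, m1, p1, p1, m1, p1, m1], nat_lit 1),
    (nat_lit 60, nat_lit 3, [m1, m1, m1, p1, p1, p0, m1], nat_lit 1),
    (nat_lit 62, nat_lit 2, [m1, m1, m1, p2, m1, p0, p1], nat_lit 1),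
    (nat_lit 2, nat_lit 1, [m1, m1, p0, p1, m1, p1, m1], nat_lit 1),
    (nat_lit 58, nat_lit 3, [m2, m1, p1, p1, p0, m1, p0], nat_lit 1),
    (nat_lit 61, nat_lit 2, [m1, m1, m1, p2, m1, p1, m1], nat_lit 1),
    (nat_lit 5, nat_lit 2, [m1, m1, p0, p1, m1, p0, p1], nat_lit 1),
    (nat_lit 62, nat_lit 2, [m1, m1, p0, p0, p1, p0, m1], nat_lit 1),
    (nat_lit 51, nat_lit 4, [m1, m1, m1, p2, p0, m1, p0], nat_lit 1),
    (nat_lit 7, nat_lit 0, [m1, m2, p0, p1, p0, p0, p1], nat_lit 1),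
    (nat_lit 61, nat_lit 1, [m1, m1, p0, p0, p1, m1, p1], nat_lit 1),
    (nat_lit 11, nat_lit 0, [m1, m2, p0, p1, p0, p1, m1], nat_lit 1),
    (nat_lit 57, nat_lit 27, [m1, m1, p0, p0, p0, p1, p0], nat_lit 1),
    (nat_lit 60, nat_lit 0, [m1, m2, p0, p1, p1, m1, p0], nat_lit 1),
    (nat_lit 57, nat_lit 28, [m1, m2, p0, p2, m1, p0, p0], nat_lit 1),
    (nat_lit 60, nat_lit 0, [m2, p0, p0, p0, p1, p0, p0], nat_lit 1),
    (nat_lit 61, nat_lit 0, [m2, p0, p0, p1, m1, p1, p0], nat_lit 1),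
    (nat_lit 62, nat_lit 1, [m2, p0, p0, p1, p0, m1, p1], nat_lit 1),
    (nat_lit 61, nat_lit 1, [m2, p1, p1, m1, p0, p1, p0], nat_lit 1),
    (nat_lit 59, nat_lit 2, [m2, p0, p0, p1, p0, p0, m1], nat_lit 1),
    (nat_lit 62, nat_lit 1, [m2, p1, p1, m1, p1, m1, p1], nat_lit 1),
    (nat_lit 61, nat_lit 2, [m1, p1, m1, p0, p0, p1, p0], nat_lit 1),
    (nat_lit 60, nat_lit 3, [m2, p1, p1, m1, p1, p0, m1], nat_lit 1),
    (nat_lit 62, nat_lit 2, [m2, p1, p1, p0, m1, p0, p1], nat_lit 1),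
    (nat_lit 62, nat_lit 2, [m1, p1, m1, p0, p1, m1, p1], nat_lit 1),
    (nat_lit 61, nat_lit 3, [m1, p1, p0, p0, p0, m1, p0], nat_lit 1),
    (nat_lit 1, nat_lit 2, [m2, p1, p1, p0, m1, p1, m1], nat_lit 1),
    (nat_lit 60, nat_lit 3, [m1, p1, m1, p0, p1, p0, m1], nat_lit 1),
    (nat_lit 62, nat_lit 2, [m1, p1, m1, p1, m1, p0, p1], nat_lit 1),
    (nat_lit 2, nat_lit 1, [m1, p1, p0, p0, m1, p1, m1], nat_lit 1),
    (nat_lit 58, nat_lit 4, [m2, p1, p1, p0, p0, m1, p0], nat_lit 1),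
    (nat_lit 61, nat_lit 3, [m1, p1, m1, p1, m1, p1, m1], nat_lit 1),
    (nat_lit 3, nat_lit 0, [m1, p2, p0, m1, p0, p0, p1], nat_lit 1),
    (nat_lit 60, nat_lit 3, [m1, p1, p0, p0, m1, p0, p1], nat_lit 1),
    (nat_lit 4, nat_lit 1, [m1, p1, p0, m1, p1, p0, m1], nat_lit 1),
    (nat_lit 6, nat_lit 2, [m1, p1, m1, p1, p0, m1, p0], nat_lit 1),
    (nat_lit 61, nat_lit 2, [m1, p2, p0, m1, p0, p1, m1], nat_lit 1),
    (nat_lit 8, nat_lit 1, [m1, p1, p0, m1, p1, m1, p1], nat_lit 1),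
    (nat_lit 62, nat_lit 2, [m1, p0, m1, p1, p0, p0, m1], nat_lit 1),
    (nat_lit 60, nat_lit 3, [m1, p2, p0, m1, p1, m1, p0], nat_lit 1),
    (nat_lit 59, nat_lit 3, [m1, p1, p0, m1, p0, p1, p0], nat_lit 1),
    (nat_lit 61, nat_lit 2, [m1, p0, m1, p1, p0, m1, p1], nat_lit 1),
    (nat_lit 62, nat_lit 2, [m2, p0, p1, p0, p0, p0, m1], nat_lit 1),
    (nat_lit 38, nat_lit 6, [m1, p2, p0, p0, m1, p0, p0], nat_lit 1),
    (nat_lit 60, nat_lit 1, [m1, p0, m1, p1, m1, p1, p0], nat_lit 1),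
    (nat_lit 61, nat_lit 1, [m2, p0, p1, p0, p0, m1, p1], nat_lit 1),
    (nat_lit 58, nat_lit 1, [m1, p0, m1, p0, p1, p0, p0], nat_lit 1),
    (nat_lit 60, nat_lit 0, [m2, p0, p1, p0, m1, p1, p0], nat_lit 1),
    (nat_lit 59, nat_lit 0, [m2, p0, p1, m1, p1, p0, p0], nat_lit 1),
    (nat_lit 57, nat_lit 0, [m2, m1, p0, p1, p0, p0, p0], nat_lit 1),
    (nat_lit 0, nat_lit 999, [m2, p1, p0, p0, p0, p0, p0], nat_lit 1)]

theorem chk_w1 : chkW 7 rt [p0, p1, p0, p0, p0, p0, p0] w1 = true := by decide +kernel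

theorem enum_w1 : enum (fun I n => n.beq 0 || ((fun n => 2 * n + 1) n).ble (cnt I w1)) rt 0 0 0 = true := by
  decide +kernel

/-- weights in the orbit of [p0, p0, p1, p0, p0, p0, p0] -/
def w2 : List WE :=
  [
    (nat_lit 62, nat_lit 2, [p0, m2, m1, p1, p0, p0, p2], nat_lit 1),
    (nat_lit 61, nat_lit 2, [m1, p0, m1, p0, p1, m1, p1], nat_lit 1),
    (nat_lit 60, nat_lit 2, [p0, p2, m1, m1, p2, m2, p0], nat_lit 1),
    (nat_lit 61, nat_lit 2, [p0, m2, m1, p1, p0, p2, m2], nat_lit 1),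
    (nat_lit 58, nat_lit 36, [m1, p0, m1, p0, p0, p1, p0], nat_lit 1),
    (nat_lit 57, nat_lit 1, [p0, p2, m1, p1, m2, p0, p0], nat_lit 1),
    (nat_lit 60, nat_lit 0, [p0, m2, m1, p1, p2, m2, p0], nat_lit 1),
    (nat_lit 52, nat_lit 0, [p0, m2, m1, p3, m2, p0, p0], nat_lit 1),
    (nat_lit 58, nat_lit 42, [p2, p0, m3, p1, p0, p0, p0], nat_lit 1),
    (nat_lit 59, nat_lit 0, [m3, p0, p0, p1, p0, p0, p0], nat_lit 1),
    (nat_lit 60, nat_lit 0, [m3, p1, p1, m1, p1, p0, p0], nat_lit 1),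
    (nat_lit 61, nat_lit 1, [m3, p1, p1, p0, m1, p1, p0], nat_lit 1),
    (nat_lit 60, nat_lit 1, [m3, m1, p1, p0, p1, p0, p0], nat_lit 1),
    (nat_lit 62, nat_lit 1, [m3, p1, p1, p0, p0, m1, p1], nat_lit 1),
    (nat_lit 61, nat_lit 1, [m3, m1, p1, p1, m1, p1, p0], nat_lit 1),
    (nat_lit 57, nat_lit 2, [m3, p1, p1, p0, p0, p0, m1], nat_lit 1),
    (nat_lit 62, nat_lit 1, [m3, m1, p1, p1, p0, m1, p1], nat_lit 1),
    (nat_lit 61, nat_lit 1, [m3, p0, p2, m1, p0, p1, p0], nat_lit 1),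
    (nat_lit 59, nat_lit 2, [m3, m1, p1, p1, p0, p0, m1], nat_lit 1),
    (nat_lit 62, nat_lit 1, [m3, p0, p2, m1, p1, m1, p1], nat_lit 1),
    (nat_lit 61, nat_lit 2, [m1, p0, m1, p0, p0, p2, p0], nat_lit 1),
    (nat_lit 60, nat_lit 3, [m3, p0, p2, m1, p1, p0, m1], nat_lit 1),
    (nat_lit 62, nat_lit 2, [m3, p0, p2, p0, m1, p0, p1], nat_lit 1),
    (nat_lit 62, nat_lit 2, [m1, p0, m1, p0, p2, m2, p2], nat_lit 1),
    (nat_lit 61, nat_lit 3, [m2, p0, p1, p0, p0, m1, p0], nat_lit 1),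
    (nat_lit 1, nat_lit 2, [m3, p0, p2, p0, m1, p1, m1], nat_lit 1),
    (nat_lit 60, nat_lit 3, [m1, p0, m1, p0, p2, p0, m2], nat_lit 1),
    (nat_lit 62, nat_lit 2, [m1, p0, m1, p2, m2, p0, p2], nat_lit 1),
    (nat_lit 62, nat_lit 3, [m2, p0, p1, p0, m1, p1, m1], nat_lit 1),
    (nat_lit 22, nat_lit 24, [m3, p0, p2, p0, p0, m1, p0], nat_lit 1),
    (nat_lit 61, nat_lit 3, [m1, p0, m1, p2, m2, p2, m2], nat_lit 1),
    (nat_lit 62, nat_lit 3, [m1, p2, p1, m2, p0, p0, p2], nat_lit 1),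
    (nat_lit 60, nat_lit 4, [m2, p0, p1, p0, m1, p0, p1], nat_lit 1),
    (nat_lit 62, nat_lit 3, [m2, p0, p1, m1, p1, p0, m1], nat_lit 1),
    (nat_lit 59, nat_lit 4, [m1, p0, m1, p2, p0, m2, p0], nat_lit 1),
    (nat_lit 61, nat_lit 3, [m1, p2, p1, m2, p0, p2, m2], nat_lit 1),
    (nat_lit 62, nat_lit 3, [m1, m2, p1, p0, p0, p0, p2], nat_lit 1),
    (nat_lit 61, nat_lit 3, [m2, p0, p1, m1, p1, m1, p1], nat_lit 1),
    (nat_lit 62, nat_lit 3, [m2, m1, p0, p1, p0, p0, m1], nat_lit 1),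
    (nat_lit 60, nat_lit 4, [m1, p2, p1, m2, p2, m2, p0], nat_lit 1),
    (nat_lit 61, nat_lit 4, [m1, m2, p1, p0, p0, p2, m2], nat_lit 1),
    (nat_lit 59, nat_lit 4, [m2, p0, p1, m1, p0, p1, p0], nat_lit 1),
    (nat_lit 61, nat_lit 3, [m2, m1, p0, p1, p0, m1, p1], nat_lit 1),
    (nat_lit 62, nat_lit 3, [m2, p1, p0, p0, p0, p0, m1], nat_lit 1),
    (nat_lit 57, nat_lit 3, [m1, p2, p1, p0, m2, p0, p0], nat_lit 1),
    (nat_lit 60, nat_lit 2, [m1, m2, p1, p0, p2, m2, p0], nat_lit 1),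
    (nat_lit 60, nat_lit 2, [m2, m1, p0, p1, m1, p1, p0], nat_lit 1),
    (nat_lit 61, nat_lit 2, [m2, p1, p0, p0, p0, m1, p1], nat_lit 1),
    (nat_lit 59, nat_lit 2, [m1, m2, p1, p2, m2, p0, p0], nat_lit 1),
    (nat_lit 57, nat_lit 2, [m2, m1, p0, p0, p1, p0, p0], nat_lit 1),
    (nat_lit 60, nat_lit 1, [m2, p1, p0, p0, m1, p1, p0], nat_lit 1),
    (nat_lit 50, nat_lit 2, [m1, p0, p3, m2, p0, p0, p0], nat_lit 1),
    (nat_lit 59, nat_lit 0, [m2, p1, p0, m1, p1, p0, p0], nat_lit 1),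
    (nat_lit 58, nat_lit 0, [m2, p0, m1, p1, p0, p0, p0], nat_lit 1),
    (nat_lit 0, nat_lit 999, [m3, p0, p1, p0, p0, p0, p0], nat_lit 1)]

theorem chk_w2 : chkW 7 rt [p0, p0, p1, p0, p0, p0, p0] w2 = true := by decide +kernel

theorem enum_w2 : enum (fun I n => n.beq 0 || ((fun n => 2 * n + 1) n).ble (cnt I w2)) rt 0 0 0 = true := by
  decide +kernel

/-- weights in the orbit of [p0, p0, p0, p1, p0, p0, p0] -/
def w3 : List WE :=
  [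
    (nat_lit 59, nat_lit 45, [m3, p0, p0, m1, p2, p0, p0], nat_lit 1),
    (nat_lit 59, nat_lit 45, [m4, p0, p2, m1, p0, p1, p0], nat_lit 1),
    (nat_lit 59, nat_lit 45, [m3, p2, p0, m1, p0, p1, p0], nat_lit 1),
    (nat_lit 59, nat_lit 41, [m1, p1, p4, m4, p1, p0, p0], nat_lit 1),
    (nat_lit 60, nat_lit 0, [m4, p1, p0, p0, p1, p0, p0], nat_lit 1),
    (nat_lit 61, nat_lit 1, [m4, p1, p0, p1, m1, p1, p0], nat_lit 1),
    (nat_lit 60, nat_lit 1, [m4, m1, p0, p1, p1, p0, p0], nat_lit 1),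
    (nat_lit 62, nat_lit 1, [m4, p1, p0, p1, p0, m1, p1], nat_lit 1),
    (nat_lit 61, nat_lit 1, [m4, m1, p0, p2, m1, p1, p0], nat_lit 1),
    (nat_lit 57, nat_lit 2, [m4, p1, p0, p1, p0, p0, m1], nat_lit 1),
    (nat_lit 62, nat_lit 1, [m4, m1, p0, p2, p0, m1, p1], nat_lit 1),
    (nat_lit 61, nat_lit 1, [m4, p0, p2, m1, p0, p2, p0], nat_lit 1),
    (nat_lit 1, nat_lit 19, [m4, m1, p0, p2, p0, p0, m1], nat_lit 1),
    (nat_lit 62, nat_lit 1, [m4, p0, p2, m1, p2, m2, p2], nat_lit 1),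
    (nat_lit 61, nat_lit 2, [m2, p0, m2, p1, p0, p2, p0], nat_lit 1),
    (nat_lit 60, nat_lit 3, [m4, p0, p2, m1, p2, p0, m2], nat_lit 1),
    (nat_lit 62, nat_lit 2, [m4, p0, p2, p1, m2, p0, p2], nat_lit 1),
    (nat_lit 62, nat_lit 2, [m2, p0, m2, p1, p2, m2, p2], nat_lit 1),
    (nat_lit 61, nat_lit 3, [m2, p0, p0, p1, p0, m2, p0], nat_lit 1),
    (nat_lit 1, nat_lit 2, [m4, p0, p2, p1, m2, p2, m2], nat_lit 1),
    (nat_lit 60, nat_lit 3, [m2, p0, m2, p1, p2, p0, m2], nat_lit 1),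
    (nat_lit 62, nat_lit 2, [m2, p0, m2, p3, m2, p0, p2], nat_lit 1),
    (nat_lit 2, nat_lit 1, [m2, p0, p0, p1, m2, p2, m2], nat_lit 1),
    (nat_lit 58, nat_lit 4, [m4, p0, p2, p1, p0, m2, p0], nat_lit 1),
    (nat_lit 61, nat_lit 3, [m2, p0, m2, p3, m2, p2, m2], nat_lit 1),
    (nat_lit 62, nat_lit 3, [m1, p3, p0, m2, p0, p0, p3], nat_lit 1),
    (nat_lit 60, nat_lit 4, [m2, p0, p0, p1, m2, p0, p2], nat_lit 1),
    (nat_lit 62, nat_lit 3, [m2, p0, p0, m1, p2, p0, m2], nat_lit 1),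
    (nat_lit 27, nat_lit 25, [m2, p0, m2, p3, p0, m2, p0], nat_lit 1),
    (nat_lit 61, nat_lit 3, [m1, p3, p0, m2, p0, p3, m3], nat_lit 1),
    (nat_lit 62, nat_lit 3, [m1, m3, p0, p1, p0, p0, p3], nat_lit 1),
    (nat_lit 61, nat_lit 3, [m2, p0, p0, m1, p2, m2, p2], nat_lit 1),
    (nat_lit 62, nat_lit 3, [m3, m1, m1, p2, p0, p0, m1], nat_lit 1),
    (nat_lit 60, nat_lit 5, [m1, p3, p0, m2, p3, m3, p0], nat_lit 1),
    (nat_lit 61, nat_lit 5, [m1, m3, p0, p1, p0, p3, m3], nat_lit 1),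
    (nat_lit 34, nat_lit 18, [m2, p0, p0, m1, p0, p2, p0], nat_lit 1),
    (nat_lit 61, nat_lit 4, [m3, m1, m1, p2, p0, m1, p1], nat_lit 1),
    (nat_lit 62, nat_lit 4, [m4, m1, p1, p1, p0, p0, m1], nat_lit 1),
    (nat_lit 62, nat_lit 4, [m3, p1, m1, p1, p0, p0, m1], nat_lit 1),
    (nat_lit 57, nat_lit 5, [m1, p3, p0, p1, m3, p0, p0], nat_lit 1),
    (nat_lit 60, nat_lit 4, [m1, m3, p0, p1, p3, m3, p0], nat_lit 1),
    (nat_lit 60, nat_lit 4, [m3, m1, m1, p2, m1, p1, p0], nat_lit 1),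
    (nat_lit 61, nat_lit 4, [m4, m1, p1, p1, p0, m1, p1], nat_lit 1),
    (nat_lit 61, nat_lit 4, [m3, p1, m1, p1, p0, m1, p1], nat_lit 1),
    (nat_lit 62, nat_lit 4, [m4, p1, p1, p0, p0, p0, m1], nat_lit 1),
    (nat_lit 44, nat_lit 8, [m1, m3, p0, p4, m3, p0, p0], nat_lit 1),
    (nat_lit 58, nat_lit 3, [m3, m1, m1, p1, p1, p0, p0], nat_lit 1),
    (nat_lit 60, nat_lit 2, [m4, m1, p1, p1, m1, p1, p0], nat_lit 1),
    (nat_lit 60, nat_lit 2, [m3, p1, m1, p1, m1, p1, p0], nat_lit 1),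
    (nat_lit 61, nat_lit 2, [m4, p1, p1, p0, p0, m1, p1], nat_lit 1),
    (nat_lit 57, nat_lit 2, [m4, m1, p1, p0, p1, p0, p0], nat_lit 1),
    (nat_lit 58, nat_lit 1, [m3, p1, m1, p0, p1, p0, p0], nat_lit 1),
    (nat_lit 60, nat_lit 0, [m4, p1, p1, p0, m1, p1, p0], nat_lit 1),
    (nat_lit 59, nat_lit 0, [m4, p1, p1, m1, p1, p0, p0], nat_lit 1),
    (nat_lit 0, nat_lit 999, [m4, p0, p0, p1, p0, p0, p0], nat_lit 1)]

theorem chk_w3 : chkW 7 rt [p0, p0, p0, p1, p0, p0, p0] w3 = true := by decide +kernel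

theorem enum_w3 : enum (fun I n => n.beq 0 || ((fun n => 2 * n + 1) n).ble (cnt I w3)) rt 0 0 0 = true := by
  decide +kernel

/-- weights in the orbit of [p0, p0, p0, p0, p1, p0, p0] -/
def w4 : List WE :=
  [
    (nat_lit 58, nat_lit 3, [m2, m1, m1, p2, m1, p0, p1], nat_lit 1),
    (nat_lit 62, nat_lit 2, [m3, m1, p1, p1, m1, p1, m1], nat_lit 1),
    (nat_lit 62, nat_lit 2, [m2, p1, m1, p1, m1, p1, m1], nat_lit 1),
    (nat_lit 57, nat_lit 3, [m1, p2, p0, p1, m3, p1, p0], nat_lit 1),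
    (nat_lit 57, nat_lit 3, [m3, m1, p1, p1, m1, p0, p1], nat_lit 1),
    (nat_lit 58, nat_lit 2, [m2, p1, m1, p1, m1, p0, p1], nat_lit 1),
    (nat_lit 62, nat_lit 1, [m3, p1, p1, p0, m1, p1, m1], nat_lit 1),
    (nat_lit 60, nat_lit 34, [m1, m2, p0, p3, m3, p1, p0], nat_lit 1),
    (nat_lit 60, nat_lit 40, [m3, p1, p1, p0, m1, p0, p1], nat_lit 1),
    (nat_lit 61, nat_lit 0, [m3, p1, p0, p0, p0, p1, p0], nat_lit 1),
    (nat_lit 62, nat_lit 1, [m3, p1, p0, p0, p1, m1, p1], nat_lit 1),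
    (nat_lit 61, nat_lit 1, [m3, m1, p0, p1, p0, p1, p0], nat_lit 1),
    (nat_lit 57, nat_lit 2, [m3, p1, p0, p0, p1, p0, m1], nat_lit 1),
    (nat_lit 62, nat_lit 1, [m3, m1, p0, p1, p1, m1, p1], nat_lit 1),
    (nat_lit 61, nat_lit 1, [m3, p0, p1, m1, p1, p1, p0], nat_lit 1),
    (nat_lit 59, nat_lit 2, [m3, m1, p0, p1, p1, p0, m1], nat_lit 1),
    (nat_lit 62, nat_lit 1, [m3, p0, p1, m1, p2, m1, p1], nat_lit 1),
    (nat_lit 61, nat_lit 2, [m2, p0, m1, p0, p1, p1, p0], nat_lit 1),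
    (nat_lit 58, nat_lit 4, [m3, p0, p1, m1, p2, p0, m1], nat_lit 1),
    (nat_lit 62, nat_lit 2, [m3, p0, p2, p0, m1, p0, p2], nat_lit 1),
    (nat_lit 62, nat_lit 2, [m2, p0, m1, p0, p2, m1, p1], nat_lit 1),
    (nat_lit 61, nat_lit 3, [m1, p0, p0, p0, p1, m2, p0], nat_lit 1),
    (nat_lit 1, nat_lit 2, [m3, p0, p2, p0, m1, p2, m2], nat_lit 1),
    (nat_lit 2, nat_lit 6, [m2, p0, m1, p0, p2, p0, m1], nat_lit 1),
    (nat_lit 62, nat_lit 2, [m1, p0, m2, p2, m1, p0, p2], nat_lit 1),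
    (nat_lit 2, nat_lit 1, [m1, p0, p0, p0, m1, p2, m2], nat_lit 1),
    (nat_lit 58, nat_lit 4, [m3, p0, p2, p0, p1, m2, p0], nat_lit 1),
    (nat_lit 61, nat_lit 3, [m1, p0, m2, p2, m1, p2, m2], nat_lit 1),
    (nat_lit 3, nat_lit 0, [m1, p2, p0, m2, p1, p0, p2], nat_lit 1),
    (nat_lit 5, nat_lit 3, [m1, p0, p0, p0, m1, p0, p2], nat_lit 1),
    (nat_lit 62, nat_lit 3, [m2, p0, p0, m1, p2, p0, m1], nat_lit 1),
    (nat_lit 59, nat_lit 4, [m1, p0, m2, p2, p1, m2, p0], nat_lit 1),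
    (nat_lit 61, nat_lit 3, [m1, p2, p0, m2, p1, p2, m2], nat_lit 1),
    (nat_lit 62, nat_lit 3, [m1, m2, p0, p0, p1, p0, p2], nat_lit 1),
    (nat_lit 61, nat_lit 3, [m2, p0, p0, m1, p2, m1, p1], nat_lit 1),
    (nat_lit 62, nat_lit 3, [m2, m1, m1, p1, p1, p0, m1], nat_lit 1),
    (nat_lit 57, nat_lit 5, [m1, p2, p0, m2, p3, m2, p0], nat_lit 1),
    (nat_lit 61, nat_lit 4, [m1, m2, p0, p0, p1, p2, m2], nat_lit 1),
    (nat_lit 59, nat_lit 4, [m2, p0, p0, m1, p1, p1, p0], nat_lit 1),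
    (nat_lit 61, nat_lit 3, [m2, m1, m1, p1, p1, m1, p1], nat_lit 1),
    (nat_lit 62, nat_lit 3, [m3, m1, p1, p0, p1, p0, m1], nat_lit 1),
    (nat_lit 62, nat_lit 3, [m2, p1, m1, p0, p1, p0, m1], nat_lit 1),
    (nat_lit 39, nat_lit 11, [m1, m2, p0, p0, p3, m2, p0], nat_lit 1),
    (nat_lit 58, nat_lit 3, [m2, m1, m1, p1, p0, p1, p0], nat_lit 1),
    (nat_lit 61, nat_lit 2, [m3, m1, p1, p0, p1, m1, p1], nat_lit 1),
    (nat_lit 61, nat_lit 2, [m2, p1, m1, p0, p1, m1, p1], nat_lit 1),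
    (nat_lit 62, nat_lit 2, [m3, p1, p1, m1, p1, p0, m1], nat_lit 1),
    (nat_lit 57, nat_lit 3, [m3, m1, p1, p0, p0, p1, p0], nat_lit 1),
    (nat_lit 58, nat_lit 2, [m2, p1, m1, p0, p0, p1, p0], nat_lit 1),
    (nat_lit 61, nat_lit 1, [m3, p1, p1, m1, p1, m1, p1], nat_lit 1),
    (nat_lit 62, nat_lit 1, [m3, p0, p0, p1, p0, p0, m1], nat_lit 1),
    (nat_lit 59, nat_lit 1, [m3, p1, p1, m1, p0, p1, p0], nat_lit 1),
    (nat_lit 61, nat_lit 0, [m3, p0, p0, p1, p0, m1, p1], nat_lit 1),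
    (nat_lit 60, nat_lit 0, [m3, p0, p0, p1, m1, p1, p0], nat_lit 1),
    (nat_lit 0, nat_lit 999, [m3, p0, p0, p0, p1, p0, p0], nat_lit 1)]

theorem chk_w4 : chkW 7 rt [p0, p0, p0, p0, p1, p0, p0] w4 = true := by decide +kernel

theorem enum_w4 : enum (fun I n => n.beq 0 || ((fun n => 2 * n + 1) n).ble (cnt I w4)) rt 0 0 0 = true := by
  decide +kernel

/-- weights in the orbit of [p0, p0, p0, p0, p0, p1, p0] -/
def w5 : List WE :=
  [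
    (nat_lit 57, nat_lit 0, [m2, p1, p0, p0, p1, m1, p0], nat_lit 1),
    (nat_lit 59, nat_lit 0, [m2, m1, p0, p1, p1, m1, p0], nat_lit 1),
    (nat_lit 58, nat_lit 2, [m2, p0, p1, m1, p2, m1, p0], nat_lit 1),
    (nat_lit 58, nat_lit 2, [m2, p0, p1, p0, p0, m1, p2], nat_lit 1),
    (nat_lit 1, nat_lit 3, [m1, p0, p0, p0, p1, m2, p1], nat_lit 1),
    (nat_lit 2, nat_lit 5, [m1, p0, m1, p0, p2, m1, p0], nat_lit 1),
    (nat_lit 59, nat_lit 2, [m1, p0, m1, p1, p0, m1, p2], nat_lit 1),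
    (nat_lit 61, nat_lit 21, [p0, p0, p0, p0, m1, p1, m1], nat_lit 1),
    (nat_lit 58, nat_lit 3, [m2, p0, p1, p0, p1, m2, p1], nat_lit 1),
    (nat_lit 3, nat_lit 0, [m1, p1, p0, m1, p1, m1, p2], nat_lit 1),
    (nat_lit 5, nat_lit 2, [m1, p0, p0, p0, p0, m1, p2], nat_lit 1),
    (nat_lit 59, nat_lit 2, [m1, p0, p0, m1, p2, m1, p0], nat_lit 1),
    (nat_lit 6, nat_lit 1, [m1, p0, m1, p1, p1, m2, p1], nat_lit 1),
    (nat_lit 55, nat_lit 4, [m1, m1, p0, p0, p1, m1, p2], nat_lit 1),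
    (nat_lit 58, nat_lit 1, [m1, m1, m1, p1, p1, m1, p0], nat_lit 1),
    (nat_lit 12, nat_lit 1, [m1, p1, p0, m1, p2, m2, p1], nat_lit 1),
    (nat_lit 16, nat_lit 1, [m2, m1, p1, p0, p1, m1, p0], nat_lit 1),
    (nat_lit 58, nat_lit 1, [m1, p1, m1, p0, p1, m1, p0], nat_lit 1),
    (nat_lit 61, nat_lit 23, [m1, m1, p0, p0, p2, m2, p1], nat_lit 1),
    (nat_lit 59, nat_lit 0, [m2, p1, p1, m1, p1, m1, p0], nat_lit 1),
    (nat_lit 61, nat_lit 29, [m2, p0, p0, p1, p0, m1, p0], nat_lit 1),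
    (nat_lit 62, nat_lit 0, [m2, p1, p0, p0, p0, p0, p1], nat_lit 1),
    (nat_lit 57, nat_lit 1, [m2, p1, p0, p0, p0, p1, m1], nat_lit 1),
    (nat_lit 62, nat_lit 0, [m2, m1, p0, p1, p0, p0, p1], nat_lit 1),
    (nat_lit 59, nat_lit 1, [m2, m1, p0, p1, p0, p1, m1], nat_lit 1),
    (nat_lit 62, nat_lit 0, [m2, p0, p1, m1, p1, p0, p1], nat_lit 1),
    (nat_lit 60, nat_lit 3, [m2, p0, p1, m1, p1, p1, m1], nat_lit 1),
    (nat_lit 62, nat_lit 2, [m2, p0, p1, p0, m1, p1, p1], nat_lit 1),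
    (nat_lit 62, nat_lit 2, [m1, p0, m1, p0, p1, p0, p1], nat_lit 1),
    (nat_lit 17, nat_lit 24, [p0, p0, p0, p0, p0, m1, p0], nat_lit 1),
    (nat_lit 1, nat_lit 2, [m2, p0, p1, p0, m1, p2, m1], nat_lit 1),
    (nat_lit 60, nat_lit 2, [m1, p0, m1, p0, p1, p1, m1], nat_lit 1),
    (nat_lit 62, nat_lit 1, [m1, p0, m1, p1, m1, p1, p1], nat_lit 1),
    (nat_lit 2, nat_lit 0, [m1, p0, p0, p0, m1, p2, m1], nat_lit 1),
    (nat_lit 59, nat_lit 3, [m1, p0, m1, p1, m1, p2, m1], nat_lit 1),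
    (nat_lit 3, nat_lit 0, [m1, p1, p0, m1, p0, p1, p1], nat_lit 1),
    (nat_lit 5, nat_lit 2, [m1, p0, p0, p0, m1, p1, p1], nat_lit 1),
    (nat_lit 4, nat_lit 0, [m1, p0, p0, m1, p1, p1, m1], nat_lit 1),
    (nat_lit 57, nat_lit 3, [m1, p1, p0, m1, p0, p2, m1], nat_lit 1),
    (nat_lit 7, nat_lit 0, [m1, m1, p0, p0, p0, p1, p1], nat_lit 1),
    (nat_lit 59, nat_lit 2, [m1, p0, p0, m1, p1, p0, p1], nat_lit 1),
    (nat_lit 10, nat_lit 0, [m1, m1, m1, p1, p0, p1, m1], nat_lit 1),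
    (nat_lit 13, nat_lit 1, [m1, m1, p0, p0, p0, p2, m1], nat_lit 1),
    (nat_lit 58, nat_lit 2, [m1, m1, m1, p1, p0, p0, p1], nat_lit 1),
    (nat_lit 62, nat_lit 1, [m2, m1, p1, p0, p0, p1, m1], nat_lit 1),
    (nat_lit 62, nat_lit 1, [m1, p1, m1, p0, p0, p1, m1], nat_lit 1),
    (nat_lit 57, nat_lit 2, [m2, m1, p1, p0, p0, p0, p1], nat_lit 1),
    (nat_lit 58, nat_lit 1, [m1, p1, m1, p0, p0, p0, p1], nat_lit 1),
    (nat_lit 62, nat_lit 0, [m2, p1, p1, m1, p0, p1, m1], nat_lit 1),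
    (nat_lit 59, nat_lit 1, [m2, p1, p1, m1, p0, p0, p1], nat_lit 1),
    (nat_lit 62, nat_lit 0, [m2, p0, p0, p1, m1, p1, m1], nat_lit 1),
    (nat_lit 60, nat_lit 1, [m2, p0, p0, p1, m1, p0, p1], nat_lit 1),
    (nat_lit 62, nat_lit 0, [m2, p0, p0, p0, p1, p0, m1], nat_lit 1),
    (nat_lit 61, nat_lit 0, [m2, p0, p0, p0, p1, m1, p1], nat_lit 1),
    (nat_lit 0, nat_lit 999, [m2, p0, p0, p0, p0, p1, p0], nat_lit 1)]

theorem chk_w5 : chkW 7 rt [p0, p0, p0, p0, p0, p1, p0] w5 = true := by decide +kernel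

theorem enum_w5 : enum (fun I n => n.beq 0 || ((fun n => 2 * n + 1) n).ble (cnt I w5)) rt 0 0 0 = true := by
  decide +kernel

/-- weights in the orbit of [p0, p0, p0, p0, p0, p0, p1] -/
def w6 : List WE :=
  [
    (nat_lit 57, nat_lit 1, [p1, m1, p0, p0, p0, p0, p0], nat_lit 2),
    (nat_lit 61, nat_lit 1, [p0, p0, p0, p0, p0, p1, m1], nat_lit 4611686018427387904),
    (nat_lit 1, nat_lit 4, [p1, p1, p0, m1, p0, p0, p0], nat_lit 2),
    (nat_lit 22, nat_lit 0, [p0, p0, p0, p0, p1, m1, p0], nat_lit 36028797018963968),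
    (nat_lit 45, nat_lit 1, [p0, p0, m1, p0, p1, p0, p0], nat_lit 32768),
    (nat_lit 44, nat_lit 0, [p0, p0, p0, p1, m1, p0, p0], nat_lit 562949953421312),
    (nat_lit 50, nat_lit 0, [m1, p1, p0, p0, p0, p0, p0], nat_lit 536870912),
    (nat_lit 58, nat_lit 0, [p0, p1, p1, m1, p0, p0, p0], nat_lit 8796093022208),
    (nat_lit 51, nat_lit 2, [p1, p1, m1, p0, p0, p0, p0], nat_lit 137438953472),
    (nat_lit 44, nat_lit 0, [p0, m1, p1, p0, p0, p0, p0], nat_lit 68719476736),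
    (nat_lit 56, nat_lit 0, [m1, p0, p1, m1, p1, p0, p0], nat_lit 1048576),
    (nat_lit 59, nat_lit 1, [p1, p0, p0, m1, p1, p0, p0], nat_lit 67108864),
    (nat_lit 56, nat_lit 0, [m1, m1, p0, p1, p0, p0, p0], nat_lit 16777216),
    (nat_lit 43, nat_lit 1, [p1, m1, m1, p1, p0, p0, p0], nat_lit 2147483648),
    (nat_lit 56, nat_lit 0, [m1, p0, p1, p0, p0, p0, m1], nat_lit 8192),
    (nat_lit 55, nat_lit 1, [p1, p0, p0, p0, p0, p0, m1], nat_lit 131072),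
    (nat_lit 56, nat_lit 0, [m1, p0, p1, p0, m1, p1, p0], nat_lit 65536),
    (nat_lit 61, nat_lit 1, [p1, p0, p0, p0, m1, p1, p0], nat_lit 2097152),
    (nat_lit 56, nat_lit 0, [m1, p0, p1, p0, p0, m1, p1], nat_lit 8192),
    (nat_lit 12, nat_lit 0, [p1, p0, p0, p0, p0, m1, p1], nat_lit 131072),
    (nat_lit 58, nat_lit 0, [p1, p0, m1, p1, m1, p0, p0], nat_lit 2),
    (nat_lit 60, nat_lit 1, [p0, p0, p1, p0, m1, p0, p0], nat_lit 4),
    (nat_lit 58, nat_lit 0, [p1, p0, m1, p0, p1, m1, p0], nat_lit 2),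
    (nat_lit 59, nat_lit 2, [p0, p0, p1, m1, p1, m1, p0], nat_lit 4),
    (nat_lit 26, nat_lit 0, [p1, p0, m1, p0, p0, p1, m1], nat_lit 2),
    (nat_lit 30, nat_lit 2, [p0, p0, m1, p1, m1, p1, p0], nat_lit 4096),
    (nat_lit 41, nat_lit 3, [p0, m1, p0, p1, p0, m1, p0], nat_lit 8),
    (nat_lit 36, nat_lit 1, [p0, p0, p1, m1, p0, p1, m1], nat_lit 4),
    (nat_lit 35, nat_lit 0, [p1, p0, m1, p0, p0, p0, p1], nat_lit 2),
    (nat_lit 57, nat_lit 3, [p0, p1, p0, m1, p0, p1, p0], nat_lit 512),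
    (nat_lit 62, nat_lit 0, [p0, p0, m1, p1, p0, p0, m1], nat_lit 1024),
    (nat_lit 43, nat_lit 0, [p0, p0, m1, p1, p0, m1, p1], nat_lit 1024),
    (nat_lit 54, nat_lit 3, [p0, p1, p0, p0, p0, m1, p0], nat_lit 32),
    (nat_lit 49, nat_lit 0, [p0, m1, p0, p0, p0, p1, p0], nat_lit 64),
    (nat_lit 57, nat_lit 3, [p0, m1, p0, p1, m1, p1, m1], nat_lit 8),
    (nat_lit 46, nat_lit 1, [p0, p0, p1, m1, p0, p0, p1], nat_lit 4),
    (nat_lit 62, nat_lit 0, [p0, p1, p0, m1, p1, p0, m1], nat_lit 128),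
    (nat_lit 60, nat_lit 1, [p0, p1, p0, m1, p1, m1, p1], nat_lit 128),
    (nat_lit 62, nat_lit 0, [p0, p1, p0, p0, m1, p1, m1], nat_lit 32),
    (nat_lit 57, nat_lit 1, [p0, p1, p0, p0, m1, p0, p1], nat_lit 32),
    (nat_lit 62, nat_lit 1, [p0, m1, p0, p0, p1, p0, m1], nat_lit 16),
    (nat_lit 60, nat_lit 0, [p0, m1, p0, p1, m1, p0, p1], nat_lit 8),
    (nat_lit 5, nat_lit 1, [p0, m1, p0, p0, p1, m1, p1], nat_lit 16),
    (nat_lit 62, nat_lit 0, [p0, p0, p0, p0, p0, p0, m1], nat_lit 1),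
    (nat_lit 61, nat_lit 0, [p0, p0, p0, p0, p0, m1, p1], nat_lit 1),
    (nat_lit 60, nat_lit 0, [p0, p0, p0, p0, m1, p1, p0], nat_lit 1),
    (nat_lit 59, nat_lit 0, [p0, p0, p0, m1, p1, p0, p0], nat_lit 1),
    (nat_lit 58, nat_lit 0, [p0, m1, m1, p1, p0, p0, p0], nat_lit 1),
    (nat_lit 57, nat_lit 1, [m1, m1, p1, p0, p0, p0, p0], nat_lit 1),
    (nat_lit 58, nat_lit 0, [p0, p1, m1, p0, p0, p0, p0], nat_lit 1),
    (nat_lit 59, nat_lit 0, [m1, p1, p1, m1, p0, p0, p0], nat_lit 1),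
    (nat_lit 60, nat_lit 0, [m1, p0, p0, p1, m1, p0, p0], nat_lit 1),
    (nat_lit 61, nat_lit 0, [m1, p0, p0, p0, p1, m1, p0], nat_lit 1),
    (nat_lit 62, nat_lit 0, [m1, p0, p0, p0, p0, p1, m1], nat_lit 1),
    (nat_lit 0, nat_lit 999, [m1, p0, p0, p0, p0, p0, p1], nat_lit 1)]

theorem chk_w6 : chkW 7 rt [p0, p0, p0, p0, p0, p0, p1] w6 = true := by decide +kernel

theorem enum_w6 : enum (fun I n => n.beq 0 || ((fun n => 2 * n + 1) n).ble (cnt I w6)) rt 0 0 0 = true := by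
  decide +kernel

end Cfsg.Agent.TwoF.DC.TE.E7
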