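import Cfsg.Agent.TwoF.DC.TE.Chk

/-!
# TwoF, defining characteristic, exceptional types: the tables for `E8` (generated; helper37)
-/

set_option autoImplicit false
set_option maxRecDepth 100000

namespace Cfsg.Agent.TwoF.DC.TE.E8

/-- the Cartan matrix -/
def cm : List (List ℤ) :=
  [[p2, p0, m1, p0, p0, p0, p0, p0],
   [p0, p2, p0, m1, p0, p0, p0, p0],
   [m1, p0, p2, m1, p0, p0, p0, p0],
   [p0, m1, m1, p2, m1, p0, p0, p0],
   [p0, p0, p0, m1, p2, m1, p0, p0],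
   [p0, p0, p0, p0, m1, p2, m1, p0],
   [p0, p0, p0, p0, p0, m1, p2, m1],
   [p0, p0, p0, p0, p0, p0, m1, p2]]

/-- the positive roots -/
def rt : List RE :=
  [
    ([p2, p3, p4, p6, p5, p4, p3, p2], [p0, p0, p0, p0, p0, p0, p0, p1], nat_lit 0, nat_lit 0),
    ([p2, p3, p4, p6, p5, p4, p3, p1], [p0, p0, p0, p0, p0, p0, p1, m1], nat_lit 1, nat_lit 0),
    ([p2, p3, p4, p6, p5, p4, p2, p1], [p0, p0, p0, p0, p0, p1, m1, p0], nat_lit 2, nat_lit 0),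
    ([p2, p3, p4, p6, p5, p3, p2, p1], [p0, p0, p0, p0, p1, m1, p0, p0], nat_lit 4, nat_lit 0),
    ([p2, p3, p4, p6, p4, p3, p2, p1], [p0, p0, p0, p1, m1, p0, p0, p0], nat_lit 8, nat_lit 0),
    ([p2, p3, p4, p5, p4, p3, p2, p1], [p0, p1, p1, m1, p0, p0, p0, p0], nat_lit 16, nat_lit 0),
    ([p2, p3, p3, p5, p4, p3, p2, p1], [p1, p1, m1, p0, p0, p0, p0, p0], nat_lit 32, nat_lit 0),
    ([p2, p2, p4, p5, p4, p3, p2, p1], [p0, m1, p1, p0, p0, p0, p0, p0], nat_lit 32, nat_lit 0),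
    ([p2, p2, p3, p5, p4, p3, p2, p1], [p1, m1, m1, p1, p0, p0, p0, p0], nat_lit 192, nat_lit 0),
    ([p1, p3, p3, p5, p4, p3, p2, p1], [m1, p1, p0, p0, p0, p0, p0, p0], nat_lit 64, nat_lit 0),
    ([p2, p2, p3, p4, p4, p3, p2, p1], [p1, p0, p0, m1, p1, p0, p0, p0], nat_lit 256, nat_lit 0),
    ([p1, p2, p3, p5, p4, p3, p2, p1], [m1, m1, p0, p1, p0, p0, p0, p0], nat_lit 768, nat_lit 0),
    ([p2, p2, p3, p4, p3, p3, p2, p1], [p1, p0, p0, p0, m1, p1, p0, p0], nat_lit 1024, nat_lit 0),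
    ([p1, p2, p3, p4, p4, p3, p2, p1], [m1, p0, p1, m1, p1, p0, p0, p0], nat_lit 3072, nat_lit 0),
    ([p2, p2, p3, p4, p3, p2, p2, p1], [p1, p0, p0, p0, p0, m1, p1, p0], nat_lit 4096, nat_lit 0),
    ([p1, p2, p3, p4, p3, p3, p2, p1], [m1, p0, p1, p0, m1, p1, p0, p0], nat_lit 12288, nat_lit 0),
    ([p1, p2, p2, p4, p4, p3, p2, p1], [p0, p0, m1, p0, p1, p0, p0, p0], nat_lit 8192, nat_lit 0),
    ([p2, p2, p3, p4, p3, p2, p1, p1], [p1, p0, p0, p0, p0, p0, m1, p1], nat_lit 16384, nat_lit 0),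
    ([p1, p2, p3, p4, p3, p2, p2, p1], [m1, p0, p1, p0, p0, m1, p1, p0], nat_lit 49152, nat_lit 0),
    ([p1, p2, p2, p4, p3, p3, p2, p1], [p0, p0, m1, p1, m1, p1, p0, p0], nat_lit 98304, nat_lit 0),
    ([p2, p2, p3, p4, p3, p2, p1, p0], [p1, p0, p0, p0, p0, p0, p0, m1], nat_lit 131072, nat_lit 0),
    ([p1, p2, p3, p4, p3, p2, p1, p1], [m1, p0, p1, p0, p0, p0, m1, p1], nat_lit 393216, nat_lit 0),
    ([p1, p2, p2, p4, p3, p2, p2, p1], [p0, p0, m1, p1, p0, m1, p1, p0], nat_lit 786432, nat_lit 0),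
    ([p1, p2, p2, p3, p3, p3, p2, p1], [p0, p1, p0, m1, p0, p1, p0, p0], nat_lit 524288, nat_lit 0),
    ([p1, p2, p3, p4, p3, p2, p1, p0], [m1, p0, p1, p0, p0, p0, p0, m1], nat_lit 3145728, nat_lit 0),
    ([p1, p2, p2, p4, p3, p2, p1, p1], [p0, p0, m1, p1, p0, p0, m1, p1], nat_lit 6291456, nat_lit 0),
    ([p1, p2, p2, p3, p3, p2, p2, p1], [p0, p1, p0, m1, p1, m1, p1, p0], nat_lit 12582912, nat_lit 0),
    ([p1, p1, p2, p3, p3, p3, p2, p1], [p0, m1, p0, p0, p0, p1, p0, p0], nat_lit 8388608, nat_lit 0),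
    ([p1, p2, p2, p4, p3, p2, p1, p0], [p0, p0, m1, p1, p0, p0, p0, m1], nat_lit 50331648, nat_lit 0),
    ([p1, p2, p2, p3, p3, p2, p1, p1], [p0, p1, p0, m1, p1, p0, m1, p1], nat_lit 100663296, nat_lit 0),
    ([p1, p2, p2, p3, p2, p2, p2, p1], [p0, p1, p0, p0, m1, p0, p1, p0], nat_lit 67108864, nat_lit 0),
    ([p1, p1, p2, p3, p3, p2, p2, p1], [p0, m1, p0, p0, p1, m1, p1, p0], nat_lit 201326592, nat_lit 0),
    ([p1, p2, p2, p3, p3, p2, p1, p0], [p0, p1, p0, m1, p1, p0, p0, m1], nat_lit 805306368, nat_lit 0),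
    ([p1, p2, p2, p3, p2, p2, p1, p1], [p0, p1, p0, p0, m1, p1, m1, p1], nat_lit 1610612736, nat_lit 2147483648),
    ([p1, p1, p2, p3, p3, p2, p1, p1], [p0, m1, p0, p0, p1, p0, m1, p1], nat_lit 2684354560, nat_lit 1073741824),
    ([p1, p1, p2, p3, p2, p2, p2, p1], [p0, m1, p0, p1, m1, p0, p1, p0], nat_lit 3221225472, nat_lit 4831838208),
    ([p1, p2, p2, p3, p2, p2, p1, p0], [p0, p1, p0, p0, m1, p1, p0, m1], nat_lit 12884901888, nat_lit 19327352832),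
    ([p1, p2, p2, p3, p2, p1, p1, p1], [p0, p1, p0, p0, p0, m1, p0, p1], nat_lit 8589934592, nat_lit 134217728),
    ([p1, p1, p2, p3, p3, p2, p1, p0], [p0, m1, p0, p0, p1, p0, p0, m1], nat_lit 21474836480, nat_lit 147102629888),
    ([p1, p1, p2, p3, p2, p2, p1, p1], [p0, m1, p0, p1, m1, p1, m1, p1], nat_lit 60129542144, nat_lit 4362076160),
    ([p1, p1, p2, p2, p2, p2, p2, p1], [p0, p0, p1, m1, p0, p0, p1, p0], nat_lit 34359738368, nat_lit 301989888),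
    ([p1, p2, p2, p3, p2, p1, p1, p0], [p0, p1, p0, p0, p0, m1, p1, m1], nat_lit 206158430208, nat_lit 17314086912),
    ([p1, p1, p2, p3, p2, p2, p1, p0], [p0, m1, p0, p1, m1, p1, p0, m1], nat_lit 893353197568, nat_lit 138042933248),
    ([p1, p1, p2, p3, p2, p1, p1, p1], [p0, m1, p0, p1, p0, m1, p0, p1], nat_lit 687194767360, nat_lit 73022832640),
    ([p1, p1, p2, p2, p2, p2, p1, p1], [p0, p0, p1, m1, p0, p1, m1, p1], nat_lit 1649267441664, nat_lit 2199295885312),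
    ([p1, p1, p1, p2, p2, p2, p2, p1], [p1, p0, m1, p0, p0, p0, p1, p0], nat_lit 1099511627776, nat_lit 18874368),
    ([p1, p2, p2, p3, p2, p1, p0, p0], [p0, p1, p0, p0, p0, p0, m1, p0], nat_lit 2199023255552, nat_lit 36320525156352),
    ([p1, p1, p2, p3, p2, p1, p1, p0], [p0, m1, p0, p1, p0, m1, p1, m1], nat_lit 15393162788864, nat_lit 9135194112),
    ([p1, p1, p2, p2, p2, p2, p1, p0], [p0, p0, p1, m1, p0, p1, p0, m1], nat_lit 21990232555520, nat_lit 137476702208),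
    ([p1, p1, p2, p2, p2, p1, p1, p1], [p0, p0, p1, m1, p1, m1, p0, p1], nat_lit 26388279066624, nat_lit 68988436480),
    ([p1, p1, p1, p2, p2, p2, p1, p1], [p1, p0, m1, p0, p0, p1, m1, p1], nat_lit 52776558133248, nat_lit 2199040294912),
    ([p0, p1, p1, p2, p2, p2, p2, p1], [m1, p0, p0, p0, p0, p0, p1, p0], nat_lit 35184372088832, nat_lit 70368745357312),
    ([p1, p1, p2, p3, p2, p1, p0, p0], [p0, m1, p0, p1, p0, p0, m1, p0], nat_lit 211106232532992, nat_lit 2288084846641152),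
    ([p1, p1, p2, p2, p2, p1, p1, p0], [p0, p0, p1, m1, p1, m1, p1, m1], nat_lit 985162418487296, nat_lit 8624013312),
    ([p1, p1, p2, p2, p1, p1, p1, p1], [p0, p0, p1, p0, m1, p0, p0, p1], nat_lit 562949953421312, nat_lit 279441375232),
    ([p1, p1, p1, p2, p2, p2, p1, p0], [p1, p0, m1, p0, p0, p1, p0, m1], nat_lit 1407374883553280, nat_lit 137441312768),
    ([p1, p1, p1, p2, p2, p1, p1, p1], [p1, p0, m1, p0, p1, m1, p0, p1], nat_lit 1688849860263936, nat_lit 68736286720),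
    ([p0, p1, p1, p2, p2, p2, p1, p1], [m1, p0, p0, p0, p0, p1, m1, p1], nat_lit 3377699720527872, nat_lit 2199024320512),
    ([p1, p1, p2, p2, p2, p1, p0, p0], [p0, p0, p1, m1, p1, p0, m1, p0], nat_lit 13510798882111488, nat_lit 2287019623972864),
    ([p1, p1, p2, p2, p1, p1, p1, p0], [p0, p0, p1, p0, m1, p0, p1, m1], nat_lit 27021597764222976, nat_lit 17750360064),
    ([p1, p1, p1, p2, p2, p1, p1, p0], [p1, p0, m1, p0, p1, m1, p1, m1], nat_lit 117093590311632896, nat_lit 8592064512),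
    ([p1, p1, p1, p2, p1, p1, p1, p1], [p1, p0, m1, p1, m1, p0, p0, p1], nat_lit 90071992547409920, nat_lit 279189659648),
    ([p0, p1, p1, p2, p2, p2, p1, p0], [m1, p0, p0, p0, p0, p1, p0, m1], nat_lit 180143985094819840, nat_lit 137439100928),
    ([p0, p1, p1, p2, p2, p1, p1, p1], [m1, p0, p0, p0, p1, m1, p0, p1], nat_lit 216172782113783808, nat_lit 68720529408),
    ([p1, p1, p2, p2, p1, p1, p0, p0], [p0, p0, p1, p0, m1, p1, m1, p0], nat_lit 864691128455135232, nat_lit 2286986404626432),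
    ([p1, p1, p1, p2, p2, p1, p0, p0], [p1, p0, m1, p0, p1, p0, m1, p0], nat_lit 1441151880758558720, nat_lit 2252934759088128),
    ([p1, p1, p1, p2, p1, p1, p1, p0], [p1, p0, m1, p1, m1, p0, p1, m1], nat_lit 4035225266123964416, nat_lit 17718845440),
    ([p1, p1, p1, p1, p1, p1, p1, p1], [p1, p1, p0, m1, p0, p0, p0, p1], nat_lit 2305843009213693952, nat_lit 275163121664),
    ([p0, p1, p1, p2, p2, p1, p1, p0], [m1, p0, p0, p0, p1, m1, p1, m1], nat_lit 14987979559889010688, nat_lit 8590069760),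
    ([p0, p1, p1, p2, p1, p1, p1, p1], [m1, p0, p0, p1, m1, p0, p0, p1], nat_lit 11529215046068469760, nat_lit 279173923840),
    ([p1, p1, p2, p2, p1, p0, p0, p0], [p0, p0, p1, p0, p0, m1, p0, p0], nat_lit 18446744073709551616, nat_lit 2286984328970240),
    ([p1, p1, p1, p2, p1, p1, p0, p0], [p1, p0, m1, p1, m1, p1, m1, p0], nat_lit 129127208515966861312, nat_lit 2252901540175872),
    ([p1, p1, p1, p1, p1, p1, p1, p0], [p1, p1, p0, m1, p0, p0, p1, m1], nat_lit 221360928884514619392, nat_lit 17215522816),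
    ([p1, p0, p1, p1, p1, p1, p1, p1], [p1, m1, p0, p0, p0, p0, p0, p1], nat_lit 147573952589676412928, nat_lit 72641067090432),
    ([p0, p1, p1, p2, p2, p1, p0, p0], [m1, p0, p0, p0, p1, p0, m1, p0], nat_lit 332041393326771929088, nat_lit 36319317217280),
    ([p0, p1, p1, p2, p1, p1, p1, p0], [m1, p0, p0, p1, m1, p0, p1, m1], nat_lit 959230691832896684032, nat_lit 17716872192),
    ([p0, p1, p1, p1, p1, p1, p1, p1], [m1, p1, p1, m1, p0, p0, p0, p1], nat_lit 737869762948382064640, nat_lit 275147391232),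
    ([p1, p1, p1, p2, p1, p0, p0, p0], [p1, p0, m1, p1, p0, m1, p0, p0], nat_lit 3541774862152233910272, nat_lit 2252899467960320),
    ([p1, p1, p1, p1, p1, p1, p0, p0], [p1, p1, p0, m1, p0, p1, m1, p0], nat_lit 7083549724304467820544, nat_lit 2251836325365760),
    ([p1, p0, p1, p1, p1, p1, p1, p0], [p1, m1, p0, p0, p0, p0, p1, m1], nat_lit 14167099448608935641088, nat_lit 70515345588736),
    ([p0, p1, p1, p2, p1, p1, p0, p0], [m1, p0, p0, p1, m1, p1, m1, p0], nat_lit 59029581035870565171200, nat_lit 36286098326528),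
    ([p0, p1, p1, p1, p1, p1, p1, p0], [m1, p1, p1, m1, p0, p0, p1, m1], nat_lit 118059162071741130342400, nat_lit 17213554944),
    ([p0, p1, p0, p1, p1, p1, p1, p1], [p0, p1, m1, p0, p0, p0, p0, p1], nat_lit 75557863725914323419136, nat_lit 274895732864),
    ([p0, p0, p1, p1, p1, p1, p1, p1], [m1, m1, p1, p0, p0, p0, p0, p1], nat_lit 85002596691653613846528, nat_lit 72641051361344),
    ([p1, p1, p1, p1, p1, p0, p0, p0], [p1, p1, p0, m1, p1, m1, p0, p0], nat_lit 453347182355485940514816, nat_lit 2251834308200448),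
    ([p1, p0, p1, p1, p1, p1, p0, p0], [p1, m1, p0, p0, p0, p1, m1, p0], nat_lit 906694364710971881029632, nat_lit 2254137421201920),
    ([p0, p1, p1, p2, p1, p0, p0, p0], [m1, p0, p0, p1, p0, m1, p0, p0], nat_lit 1360041547066457821544448, nat_lit 36284026328064),
    ([p0, p1, p1, p1, p1, p1, p0, p0], [m1, p1, p1, m1, p0, p1, m1, p0], nat_lit 3929008913747544817795072, nat_lit 35220883521792),
    ([p0, p1, p0, p1, p1, p1, p1, p0], [p0, p1, m1, p0, p0, p0, p1, m1], nat_lit 7253554917687775048237056, nat_lit 17182097536),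
    ([p0, p0, p1, p1, p1, p1, p1, p0], [m1, m1, p1, p0, p0, p0, p1, m1], nat_lit 12693721105953606334414848, nat_lit 70515343622208),
    ([p0, p0, p0, p1, p1, p1, p1, p1], [p0, m1, m1, p1, p0, p0, p0, p1], nat_lit 14507109835375550096474112, nat_lit 72640799703072),
    ([p1, p1, p1, p1, p0, p0, p0, p0], [p1, p1, p0, p0, m1, p0, p0, p0], nat_lit 19342813113834066795298816, nat_lit 2252094153238528),
    ([p1, p0, p1, p1, p1, p0, p0, p0], [p1, m1, p0, p0, p1, m1, p0, p0], nat_lit 58028439341502200385896448, nat_lit 2251878205784576),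
    ([p0, p1, p1, p1, p1, p0, p0, p0], [m1, p1, p1, m1, p1, m1, p0, p0], nat_lit 251456570479842868338884608, nat_lit 35218866573568),
    ([p0, p1, p0, p1, p1, p1, p0, p0], [p0, p1, m1, p0, p0, p1, m1, p0], nat_lit 464227514732017603087171584, nat_lit 1136019128448),
    ([p0, p0, p1, p1, p1, p1, p0, p0], [m1, m1, p1, p0, p0, p1, m1, p0], nat_lit 812398150781030805402550272, nat_lit 37521979359296),
    ([p0, p0, p0, p1, p1, p1, p1, p0], [p0, m1, m1, p1, p0, p0, p1, m1], nat_lit 2166395068749415481073467392, nat_lit 70515312164896),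
    ([p0, p0, p0, p0, p1, p1, p1, p1], [p0, p0, p0, m1, p1, p0, p0, p1], nat_lit 1237940039285380274899124224, nat_lit 72636773171216),
    ([p1, p0, p1, p1, p0, p0, p0, p0], [p1, m1, p0, p1, m1, p0, p0, p0], nat_lit 7427640235712281649394745344, nat_lit 2251804721095168),
    ([p0, p1, p1, p1, p0, p0, p0, p0], [m1, p1, p1, p0, m1, p0, p0, p0], nat_lit 12379400392853802748991242240, nat_lit 35478711633152),
    ([p0, p1, p0, p1, p1, p0, p0, p0], [p0, p1, m1, p0, p1, m1, p0, p0], nat_lit 29710560942849126597578981376, nat_lit 1134005620864),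
    ([p0, p0, p1, p1, p1, p0, p0, p0], [m1, m1, p1, p0, p1, m1, p0, p0], nat_lit 54469361728556732095561465856, nat_lit 35262764159040),
    ([p0, p0, p0, p1, p1, p1, p0, p0], [p0, m1, m1, p1, p0, p1, m1, p0], nat_lit 138649284399962590788701913088, nat_lit 3437114966048),
    ([p0, p0, p0, p0, p1, p1, p1, p0], [p0, p0, p0, m1, p1, p0, p1, m1], nat_lit 237684487542793012780631851008, nat_lit 70514808848400),
    ([p0, p0, p0, p0, p0, p1, p1, p1], [p0, p0, p0, p0, m1, p1, p0, p1], nat_lit 158456325028528675187087900672, nat_lit 72847226568712),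
    ([p1, p0, p1, p0, p0, p0, p0, p0], [p1, p0, p1, m1, p0, p0, p0, p0], nat_lit 316912650057057350374175801344, nat_lit 2251800120461824),
    ([p0, p1, p0, p1, p0, p0, p0, p0], [p0, p1, m1, p1, m1, p0, p0, p0], nat_lit 1901475900342344102245054808064, nat_lit 1393851114624),
    ([p0, p0, p1, p1, p0, p0, p0, p0], [m1, m1, p1, p1, m1, p0, p0, p0], nat_lit 3486039150627630854115933814784, nat_lit 35189279491136),
    ([p0, p0, p0, p1, p1, p0, p0, p0], [p0, m1, m1, p1, p1, m1, p0, p0], nat_lit 8873554201597605810476922437632, nat_lit 1177903206432),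
    ([p0, p0, p0, p0, p1, p1, p0, p0], [p0, p0, p0, m1, p1, p1, m1, p0], nat_lit 15211807202738752817960438464512, nat_lit 2371900162064),
    ([p0, p0, p0, p0, p0, p1, p1, p0], [p0, p0, p0, p0, m1, p1, p1, m1], nat_lit 30423614405477505635920876929024, nat_lit 70523935653896),
    ([p0, p0, p0, p0, p0, p0, p1, p1], [p0, p0, p0, p0, p0, m1, p1, p1], nat_lit 20282409603651670423947251286016, nat_lit 70716922789892),
    ([p1, p0, p0, p0, p0, p0, p0, p0], [p2, p0, m1, p0, p0, p0, p0, p0], nat_lit 40564819207303340847894502572032, nat_lit 2251799832865280),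
    ([p0, p1, p0, p0, p0, p0, p0, p0], [p0, p2, p0, m1, p0, p0, p0, p0], nat_lit 81129638414606681695789005144064, nat_lit 328699218304),
    ([p0, p0, p1, p0, p0, p0, p0, p0], [m1, p0, p2, m1, p0, p0, p0, p0], nat_lit 202824096036516704239472512860160, nat_lit 35184678863168),
    ([p0, p0, p0, p1, p0, p0, p0, p0], [p0, m1, m1, p2, m1, p0, p0, p0], nat_lit 567907468902246771870523036008448, nat_lit 1104418972704),
    ([p0, p0, p0, p0, p1, p0, p0, p0], [p0, p0, p0, m1, p2, m1, p0, p0], nat_lit 973555660975280180349468061728768, nat_lit 112743452688),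
    ([p0, p0, p0, p0, p0, p1, p0, p0], [p0, p0, p0, p0, m1, p2, m1, p0], nat_lit 1947111321950560360698936123457536, nat_lit 2338681274376),
    ([p0, p0, p0, p0, p0, p0, p1, p0], [p0, p0, p0, p0, p0, m1, p2, m1], nat_lit 3894222643901120721397872246915072, nat_lit 70395086635012),
    ([p0, p0, p0, p0, p0, p0, p0, p1], [p0, p0, p0, p0, p0, p0, m1, p2], nat_lit 2596148429267413814265248164610048, nat_lit 2547201867778)]

theorem chk_rt : chkR 8 cm rt = true := by decide +kernel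

/-- weights in the orbit of [p1, p0, p0, p0, p0, p0, p0, p0] -/
def w0 : List WE :=
  [
    (nat_lit 18, nat_lit 0, [m1, p0, p0, p0, p1, p0, m1, m1], nat_lit 1),
    (nat_lit 21, nat_lit 0, [m2, p0, p1, p0, p1, m1, p0, m1], nat_lit 1),
    (nat_lit 117, nat_lit 1, [m1, p0, p0, p0, p1, m1, p1, m2], nat_lit 1),
    (nat_lit 115, nat_lit 1, [m2, p0, p1, p1, m1, p0, p0, m1], nat_lit 1),
    (nat_lit 112, nat_lit 53, [m1, p0, p0, p0, p0, p1, p0, m2], nat_lit 1),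
    (nat_lit 113, nat_lit 0, [m2, p1, p2, m1, p0, p0, p0, m1], nat_lit 1),
    (nat_lit 112, nat_lit 54, [m2, m1, p2, p0, p0, p0, p0, m1], nat_lit 1),
    (nat_lit 113, nat_lit 0, [p0, p1, p0, p0, p0, p0, p0, m2], nat_lit 1),
    (nat_lit 115, nat_lit 0, [p0, m1, p0, p1, p0, p0, p0, m2], nat_lit 1),
    (nat_lit 116, nat_lit 0, [p0, p0, p1, m1, p1, p0, p0, m2], nat_lit 1),
    (nat_lit 117, nat_lit 1, [p0, p0, p1, p0, m1, p1, p0, m2], nat_lit 1),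
    (nat_lit 116, nat_lit 1, [p1, p0, m1, p0, p1, p0, p0, m2], nat_lit 1),
    (nat_lit 118, nat_lit 2, [p0, p0, p1, p0, p0, m1, p1, m2], nat_lit 1),
    (nat_lit 117, nat_lit 2, [p1, p0, m1, p1, m1, p1, p0, m2], nat_lit 1),
    (nat_lit 20, nat_lit 57, [m1, p0, p0, p0, p0, p0, p0, p0], nat_lit 1),
    (nat_lit 114, nat_lit 3, [p0, p0, p1, p0, p0, p0, m1, m1], nat_lit 1),
    (nat_lit 118, nat_lit 2, [p1, p0, m1, p1, p0, m1, p1, m2], nat_lit 1),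
    (nat_lit 117, nat_lit 2, [p1, p1, p0, m1, p0, p1, p0, m2], nat_lit 1),
    (nat_lit 114, nat_lit 3, [p2, p0, m1, p0, p0, p0, p0, m1], nat_lit 1),
    (nat_lit 115, nat_lit 3, [p1, p0, m1, p1, p0, p0, m1, m1], nat_lit 1),
    (nat_lit 118, nat_lit 2, [p1, p1, p0, m1, p1, m1, p1, m2], nat_lit 1),
    (nat_lit 117, nat_lit 3, [p1, m1, p0, p0, p0, p1, p0, m2], nat_lit 1),
    (nat_lit 115, nat_lit 3, [p1, p0, p1, m1, p0, p0, p0, m1], nat_lit 1),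
    (nat_lit 116, nat_lit 3, [p1, p1, p0, m1, p1, p0, m1, m1], nat_lit 1),
    (nat_lit 118, nat_lit 2, [p1, p1, p0, p0, m1, p0, p1, m2], nat_lit 1),
    (nat_lit 118, nat_lit 2, [p1, m1, p0, p0, p1, m1, p1, m2], nat_lit 1),
    (nat_lit 1, nat_lit 2, [p1, m1, p0, p1, m1, p0, p0, m1], nat_lit 1),
    (nat_lit 117, nat_lit 3, [p1, p1, p0, p0, m1, p1, m1, m1], nat_lit 1),
    (nat_lit 2, nat_lit 1, [p1, m1, p0, p0, p1, p0, m1, m1], nat_lit 1),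
    (nat_lit 118, nat_lit 3, [p1, m1, p0, p1, m1, p0, p1, m2], nat_lit 1),
    (nat_lit 117, nat_lit 4, [p1, m1, p0, p0, p1, m1, p0, m1], nat_lit 1),
    (nat_lit 3, nat_lit 0, [p1, p1, p0, p0, p0, m1, p0, m1], nat_lit 1),
    (nat_lit 116, nat_lit 3, [p1, p1, p0, p0, m1, p0, p0, m1], nat_lit 1),
    (nat_lit 4, nat_lit 1, [p1, m1, p0, p1, m1, p1, m1, m1], nat_lit 1),
    (nat_lit 118, nat_lit 3, [p1, p0, p1, m1, p0, p0, p1, m2], nat_lit 1),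
    (nat_lit 5, nat_lit 2, [p1, m1, p0, p0, p0, p1, m1, m1], nat_lit 1),
    (nat_lit 117, nat_lit 4, [p1, p1, p0, m1, p1, m1, p0, m1], nat_lit 1),
    (nat_lit 7, nat_lit 4, [p1, m1, p0, p1, p0, m1, p0, m1], nat_lit 1),
    (nat_lit 7, nat_lit 2, [p1, p0, p1, m1, p0, p1, m1, m1], nat_lit 1),
    (nat_lit 6, nat_lit 0, [p2, p0, m1, p0, p0, p0, p1, m2], nat_lit 1),
    (nat_lit 113, nat_lit 4, [p1, m1, p0, p0, p0, p0, p1, m2], nat_lit 1),
    (nat_lit 8, nat_lit 2, [p1, p1, p0, m1, p0, p1, m1, m1], nat_lit 1),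
    (nat_lit 117, nat_lit 3, [p1, p0, m1, p1, p0, m1, p0, m1], nat_lit 1),
    (nat_lit 116, nat_lit 3, [p1, p0, p1, m1, p1, m1, p0, m1], nat_lit 1),
    (nat_lit 10, nat_lit 1, [p2, p0, m1, p0, p0, p1, m1, m1], nat_lit 1),
    (nat_lit 115, nat_lit 4, [p1, p1, p0, m1, p0, p0, p1, m2], nat_lit 1),
    (nat_lit 118, nat_lit 3, [p1, p0, m1, p1, m1, p1, m1, m1], nat_lit 1),
    (nat_lit 12, nat_lit 0, [p1, p0, p1, p0, m1, p0, p0, m1], nat_lit 1),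
    (nat_lit 117, nat_lit 3, [p0, p0, p1, p0, p0, m1, p0, m1], nat_lit 1),
    (nat_lit 14, nat_lit 1, [p2, p0, m1, p0, p1, m1, p0, m1], nat_lit 1),
    (nat_lit 17, nat_lit 2, [p1, p0, m1, p1, m1, p0, p1, m2], nat_lit 1),
    (nat_lit 118, nat_lit 2, [p1, p0, m1, p0, p1, p0, m1, m1], nat_lit 1),
    (nat_lit 118, nat_lit 2, [p0, p0, p1, p0, m1, p1, m1, m1], nat_lit 1),
    (nat_lit 115, nat_lit 3, [p2, p0, m1, p1, m1, p0, p0, m1], nat_lit 1),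
    (nat_lit 117, nat_lit 3, [p1, p0, m1, p0, p1, m1, p1, m2], nat_lit 1),
    (nat_lit 116, nat_lit 3, [p0, p0, p1, p0, m1, p0, p1, m2], nat_lit 1),
    (nat_lit 118, nat_lit 2, [p0, p0, p1, m1, p1, p0, m1, m1], nat_lit 1),
    (nat_lit 113, nat_lit 3, [p2, p1, p0, m1, p0, p0, p0, m1], nat_lit 1),
    (nat_lit 114, nat_lit 3, [p1, p0, m1, p0, p0, p1, p0, m2], nat_lit 1),
    (nat_lit 117, nat_lit 2, [p0, p0, p1, m1, p1, m1, p1, m2], nat_lit 1),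
    (nat_lit 118, nat_lit 2, [p0, m1, p0, p1, p0, p0, m1, m1], nat_lit 1),
    (nat_lit 73, nat_lit 10, [p2, m1, p0, p0, p0, p0, p0, m1], nat_lit 1),
    (nat_lit 115, nat_lit 2, [p0, p0, p1, m1, p0, p1, p0, m2], nat_lit 1),
    (nat_lit 117, nat_lit 1, [p0, m1, p0, p1, p0, m1, p1, m2], nat_lit 1),
    (nat_lit 118, nat_lit 1, [p0, p1, p0, p0, p0, p0, m1, m1], nat_lit 1),
    (nat_lit 116, nat_lit 1, [p0, m1, p0, p1, m1, p1, p0, m2], nat_lit 1),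
    (nat_lit 117, nat_lit 1, [p0, p1, p0, p0, p0, m1, p1, m2], nat_lit 1),
    (nat_lit 113, nat_lit 1, [p0, m1, p0, p0, p1, p0, p0, m2], nat_lit 1),
    (nat_lit 116, nat_lit 0, [p0, p1, p0, p0, m1, p1, p0, m2], nat_lit 1),
    (nat_lit 115, nat_lit 0, [p0, p1, p0, m1, p1, p0, p0, m2], nat_lit 1),
    (nat_lit 114, nat_lit 0, [p0, p0, m1, p1, p0, p0, p0, m2], nat_lit 1),
    (nat_lit 112, nat_lit 0, [m1, p0, p1, p0, p0, p0, p0, m2], nat_lit 1),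
    (nat_lit 0, nat_lit 999, [p1, p0, p0, p0, p0, p0, p0, m2], nat_lit 1)]

theorem chk_w0 : chkW 8 rt [p1, p0, p0, p0, p0, p0, p0, p0] w0 = true := by decide +kernel

theorem enum_w0 : enum (fun I n => n.beq 0 || ((fun n => 2 * n + 1) n).ble (cnt I w0)) rt 0 0 0 = true := by
  decide +kernel

/-- weights in the orbit of [p0, p1, p0, p0, p0, p0, p0, p0] -/
def w1 : List WE :=
  [
    (nat_lit 112, nat_lit 3, [m2, p1, p0, p0, p0, p0, p0, m1], nat_lit 1),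
    (nat_lit 114, nat_lit 3, [m1, p1, p1, p0, p0, p0, m1, m2], nat_lit 1),
    (nat_lit 118, nat_lit 2, [p0, p1, m1, p1, p0, m1, p1, m3], nat_lit 1),
    (nat_lit 117, nat_lit 2, [p0, p2, p0, m1, p0, p1, p0, m3], nat_lit 1),
    (nat_lit 114, nat_lit 3, [p2, p1, m2, p0, p0, p0, p0, m1], nat_lit 1),
    (nat_lit 115, nat_lit 3, [p0, p1, m1, p1, p0, p0, m1, m2], nat_lit 1),
    (nat_lit 118, nat_lit 2, [p0, p2, p0, m1, p1, m1, p1, m3], nat_lit 1),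
    (nat_lit 117, nat_lit 3, [p0, m1, p0, p0, p0, p2, p0, m3], nat_lit 1),
    (nat_lit 115, nat_lit 3, [p0, p1, p2, m2, p0, p0, p0, m1], nat_lit 1),
    (nat_lit 116, nat_lit 3, [p0, p2, p0, m1, p1, p0, m1, m2], nat_lit 1),
    (nat_lit 118, nat_lit 2, [p0, p2, p0, p0, m1, p0, p1, m3], nat_lit 1),
    (nat_lit 118, nat_lit 2, [p0, m1, p0, p0, p2, m2, p2, m3], nat_lit 1),
    (nat_lit 1, nat_lit 2, [p0, m1, p0, p2, m2, p0, p0, m1], nat_lit 1),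
    (nat_lit 117, nat_lit 3, [p0, p2, p0, p0, m1, p1, m1, m2], nat_lit 1),
    (nat_lit 2, nat_lit 1, [p0, m1, p0, p0, p2, p0, m2, m1], nat_lit 1),
    (nat_lit 118, nat_lit 3, [p0, m1, p0, p2, m2, p0, p2, m3], nat_lit 1),
    (nat_lit 117, nat_lit 4, [p0, m1, p0, p0, p2, m2, p0, m1], nat_lit 1),
    (nat_lit 3, nat_lit 0, [p0, p2, p0, p0, p0, m1, p0, m2], nat_lit 1),
    (nat_lit 116, nat_lit 3, [p0, p2, p0, p0, m1, p0, p0, m2], nat_lit 1),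
    (nat_lit 4, nat_lit 1, [p0, m1, p0, p2, m2, p2, m2, m1], nat_lit 1),
    (nat_lit 118, nat_lit 3, [p0, p1, p2, m2, p0, p0, p2, m3], nat_lit 1),
    (nat_lit 5, nat_lit 2, [p0, m1, p0, p0, p0, p2, m2, m1], nat_lit 1),
    (nat_lit 117, nat_lit 4, [p0, p2, p0, m1, p1, m1, p0, m2], nat_lit 1),
    (nat_lit 115, nat_lit 5, [p0, m1, p0, p2, p0, m2, p0, m1], nat_lit 1),
    (nat_lit 117, nat_lit 4, [p0, p1, p2, m2, p0, p2, m2, m1], nat_lit 1),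
    (nat_lit 6, nat_lit 0, [p2, p1, m2, p0, p0, p0, p2, m3], nat_lit 1),
    (nat_lit 9, nat_lit 4, [p0, m1, p0, p0, p0, p0, p2, m3], nat_lit 1),
    (nat_lit 118, nat_lit 4, [p0, p2, p0, m1, p0, p1, m1, m2], nat_lit 1),
    (nat_lit 117, nat_lit 4, [p0, p1, m1, p1, p0, m1, p0, m2], nat_lit 1),
    (nat_lit 116, nat_lit 4, [p0, p1, p2, m2, p2, m2, p0, m1], nat_lit 1),
    (nat_lit 117, nat_lit 5, [p2, p1, m2, p0, p0, p2, m2, m1], nat_lit 1),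
    (nat_lit 118, nat_lit 5, [m2, p1, p0, p0, p0, p0, p2, m3], nat_lit 1),
    (nat_lit 115, nat_lit 5, [p0, p2, p0, m1, p0, p0, p1, m3], nat_lit 1),
    (nat_lit 118, nat_lit 4, [p0, p1, m1, p1, m1, p1, m1, m2], nat_lit 1),
    (nat_lit 114, nat_lit 6, [p0, p1, p2, p0, m2, p0, p0, m1], nat_lit 1),
    (nat_lit 117, nat_lit 4, [m1, p1, p1, p0, p0, m1, p0, m2], nat_lit 1),
    (nat_lit 116, nat_lit 4, [p2, p1, m2, p0, p2, m2, p0, m1], nat_lit 1),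
    (nat_lit 117, nat_lit 5, [m2, p1, p0, p0, p0, p2, m2, m1], nat_lit 1),
    (nat_lit 116, nat_lit 5, [p0, p1, m1, p1, m1, p0, p1, m3], nat_lit 1),
    (nat_lit 118, nat_lit 4, [p0, p1, m1, p0, p1, p0, m1, m2], nat_lit 1),
    (nat_lit 118, nat_lit 4, [m1, p1, p1, p0, m1, p1, m1, m2], nat_lit 1),
    (nat_lit 115, nat_lit 5, [p2, p1, m2, p2, m2, p0, p0, m1], nat_lit 1),
    (nat_lit 117, nat_lit 5, [p1, p1, p0, p0, p0, m1, p0, m2], nat_lit 1),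
    (nat_lit 116, nat_lit 5, [m2, p1, p0, p0, p2, m2, p0, m1], nat_lit 1),
    (nat_lit 117, nat_lit 5, [p0, p1, m1, p0, p1, m1, p1, m3], nat_lit 1),
    (nat_lit 116, nat_lit 5, [m1, p1, p1, p0, m1, p0, p1, m3], nat_lit 1),
    (nat_lit 118, nat_lit 4, [m1, p1, p1, m1, p1, p0, m1, m2], nat_lit 1),
    (nat_lit 112, nat_lit 7, [p2, p3, p0, m2, p0, p0, p0, m1], nat_lit 1),
    (nat_lit 118, nat_lit 4, [p1, p1, p0, p0, m1, p1, m1, m2], nat_lit 1),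
    (nat_lit 115, nat_lit 5, [m2, p1, p0, p2, m2, p0, p0, m1], nat_lit 1),
    (nat_lit 114, nat_lit 5, [p0, p1, m1, p0, p0, p1, p0, m3], nat_lit 1),
    (nat_lit 117, nat_lit 4, [m1, p1, p1, m1, p1, m1, p1, m3], nat_lit 1),
    (nat_lit 118, nat_lit 4, [m1, p0, p0, p1, p0, p0, m1, m2], nat_lit 1),
    (nat_lit 116, nat_lit 4, [p1, p1, p0, p0, m1, p0, p1, m3], nat_lit 1),
    (nat_lit 118, nat_lit 3, [p1, p1, p0, m1, p1, p0, m1, m2], nat_lit 1),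
    (nat_lit 114, nat_lit 4, [m2, p3, p2, m2, p0, p0, p0, m1], nat_lit 1),
    (nat_lit 115, nat_lit 4, [m1, p1, p1, m1, p0, p1, p0, m3], nat_lit 1),
    (nat_lit 117, nat_lit 3, [m1, p0, p0, p1, p0, m1, p1, m3], nat_lit 1),
    (nat_lit 117, nat_lit 3, [p1, p1, p0, m1, p1, m1, p1, m3], nat_lit 1),
    (nat_lit 118, nat_lit 3, [p1, p0, m1, p1, p0, p0, m1, m2], nat_lit 1),
    (nat_lit 82, nat_lit 11, [p0, p3, m2, p0, p0, p0, p0, m1], nat_lit 1),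
    (nat_lit 116, nat_lit 3, [m1, p0, p0, p1, m1, p1, p0, m3], nat_lit 1),
    (nat_lit 115, nat_lit 3, [p1, p1, p0, m1, p0, p1, p0, m3], nat_lit 1),
    (nat_lit 117, nat_lit 2, [p1, p0, m1, p1, p0, m1, p1, m3], nat_lit 1),
    (nat_lit 118, nat_lit 2, [p0, p0, p1, p0, p0, p0, m1, m2], nat_lit 1),
    (nat_lit 112, nat_lit 2, [m1, p0, p0, p0, p1, p0, p0, m3], nat_lit 1),
    (nat_lit 116, nat_lit 1, [p1, p0, m1, p1, m1, p1, p0, m3], nat_lit 1),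
    (nat_lit 117, nat_lit 1, [p0, p0, p1, p0, p0, m1, p1, m3], nat_lit 1),
    (nat_lit 114, nat_lit 1, [p1, p0, m1, p0, p1, p0, p0, m3], nat_lit 1),
    (nat_lit 116, nat_lit 0, [p0, p0, p1, p0, m1, p1, p0, m3], nat_lit 1),
    (nat_lit 115, nat_lit 0, [p0, p0, p1, m1, p1, p0, p0, m3], nat_lit 1),
    (nat_lit 113, nat_lit 0, [p0, m1, p0, p1, p0, p0, p0, m3], nat_lit 1),
    (nat_lit 0, nat_lit 999, [p0, p1, p0, p0, p0, p0, p0, m3], nat_lit 1)]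

theorem chk_w1 : chkW 8 rt [p0, p1, p0, p0, p0, p0, p0, p0] w1 = true := by decide +kernel

theorem enum_w1 : enum (fun I n => n.beq 0 || ((fun n => 2 * n + 1) n).ble (cnt I w1)) rt 0 0 0 = true := by
  decide +kernel

/-- weights in the orbit of [p0, p0, p1, p0, p0, p0, p0, p0] -/
def w2 : List WE :=
  [
    (nat_lit 118, nat_lit 2, [p0, p2, p1, m2, p2, m2, p2, m4], nat_lit 1),
    (nat_lit 117, nat_lit 3, [p0, m2, p1, p0, p0, p2, p0, m4], nat_lit 1),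
    (nat_lit 115, nat_lit 3, [p0, p0, p3, m2, p0, p0, p0, m2], nat_lit 1),
    (nat_lit 116, nat_lit 3, [p0, p2, p1, m2, p2, p0, m2, m2], nat_lit 1),
    (nat_lit 118, nat_lit 2, [p0, p2, p1, p0, m2, p0, p2, m4], nat_lit 1),
    (nat_lit 118, nat_lit 2, [p0, m2, p1, p0, p2, m2, p2, m4], nat_lit 1),
    (nat_lit 1, nat_lit 2, [p0, m2, p1, p2, m2, p0, p0, m2], nat_lit 1),
    (nat_lit 117, nat_lit 3, [p0, p2, p1, p0, m2, p2, m2, m2], nat_lit 1),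
    (nat_lit 2, nat_lit 1, [p0, m2, p1, p0, p2, p0, m2, m2], nat_lit 1),
    (nat_lit 118, nat_lit 3, [p0, m2, p1, p2, m2, p0, p2, m4], nat_lit 1),
    (nat_lit 117, nat_lit 4, [p0, m2, p1, p0, p2, m2, p0, m2], nat_lit 1),
    (nat_lit 3, nat_lit 0, [p0, p2, p1, p0, p0, m2, p0, m2], nat_lit 1),
    (nat_lit 116, nat_lit 3, [p0, p2, p1, p0, m2, p0, p0, m2], nat_lit 1),
    (nat_lit 4, nat_lit 1, [p0, m2, p1, p2, m2, p2, m2, m2], nat_lit 1),
    (nat_lit 118, nat_lit 3, [p0, p0, p3, m2, p0, p0, p2, m4], nat_lit 1),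
    (nat_lit 5, nat_lit 2, [p0, m2, p1, p0, p0, p2, m2, m2], nat_lit 1),
    (nat_lit 117, nat_lit 4, [p0, p2, p1, m2, p2, m2, p0, m2], nat_lit 1),
    (nat_lit 7, nat_lit 4, [p0, m2, p1, p2, p0, m2, p0, m2], nat_lit 1),
    (nat_lit 7, nat_lit 2, [p0, p0, p3, m2, p0, p2, m2, m2], nat_lit 1),
    (nat_lit 118, nat_lit 4, [p3, p0, m2, p0, p0, p0, p3, m4], nat_lit 1),
    (nat_lit 113, nat_lit 5, [p0, m2, p1, p0, p0, p0, p2, m4], nat_lit 1),
    (nat_lit 118, nat_lit 4, [p0, p2, p1, m2, p0, p2, m2, m2], nat_lit 1),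
    (nat_lit 117, nat_lit 4, [p0, p0, m1, p2, p0, m2, p0, m2], nat_lit 1),
    (nat_lit 116, nat_lit 4, [p0, p0, p3, m2, p2, m2, p0, m2], nat_lit 1),
    (nat_lit 117, nat_lit 5, [p3, p0, m2, p0, p0, p3, m3, m1], nat_lit 1),
    (nat_lit 118, nat_lit 5, [m3, p0, p1, p0, p0, p0, p3, m4], nat_lit 1),
    (nat_lit 115, nat_lit 5, [p0, p2, p1, m2, p0, p0, p2, m4], nat_lit 1),
    (nat_lit 118, nat_lit 4, [p0, p0, m1, p2, m2, p2, m2, m2], nat_lit 1),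
    (nat_lit 54, nat_lit 43, [p0, p0, p3, p0, m2, p0, p0, m2], nat_lit 1),
    (nat_lit 117, nat_lit 4, [m1, p0, p2, p0, p0, m1, p0, m3], nat_lit 1),
    (nat_lit 116, nat_lit 4, [p3, p0, m2, p0, p3, m3, p0, m1], nat_lit 1),
    (nat_lit 117, nat_lit 5, [m3, p0, p1, p0, p0, p3, m3, m1], nat_lit 1),
    (nat_lit 116, nat_lit 5, [p0, p0, m1, p2, m2, p0, p2, m4], nat_lit 1),
    (nat_lit 118, nat_lit 4, [p0, p0, m1, p0, p2, p0, m2, m2], nat_lit 1),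
    (nat_lit 118, nat_lit 4, [m1, p0, p2, p0, m1, p1, m1, m3], nat_lit 1),
    (nat_lit 115, nat_lit 5, [p3, p0, m2, p3, m3, p0, p0, m1], nat_lit 1),
    (nat_lit 117, nat_lit 5, [p1, p0, p1, p0, p0, m1, p0, m3], nat_lit 1),
    (nat_lit 116, nat_lit 5, [m3, p0, p1, p0, p3, m3, p0, m1], nat_lit 1),
    (nat_lit 117, nat_lit 5, [p0, p0, m1, p0, p2, m2, p2, m4], nat_lit 1),
    (nat_lit 116, nat_lit 5, [m1, p0, p2, p0, m1, p0, p1, m4], nat_lit 1),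
    (nat_lit 118, nat_lit 4, [m1, p0, p2, m1, p1, p0, m1, m3], nat_lit 1),
    (nat_lit 113, nat_lit 5, [p3, p3, p1, m3, p0, p0, p0, m1], nat_lit 1),
    (nat_lit 118, nat_lit 5, [p1, p0, p1, p0, m1, p1, m1, m3], nat_lit 1),
    (nat_lit 115, nat_lit 6, [m3, p0, p1, p3, m3, p0, p0, m1], nat_lit 1),
    (nat_lit 70, nat_lit 27, [p0, p0, m1, p0, p0, p2, p0, m4], nat_lit 1),
    (nat_lit 117, nat_lit 5, [m1, p0, p2, m1, p1, m1, p1, m4], nat_lit 1),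
    (nat_lit 118, nat_lit 5, [m1, m1, p1, p1, p0, p0, m1, m3], nat_lit 1),
    (nat_lit 112, nat_lit 8, [p3, m3, p1, p0, p0, p0, p0, m1], nat_lit 1),
    (nat_lit 116, nat_lit 5, [p1, p0, p1, p0, m1, p0, p1, m4], nat_lit 1),
    (nat_lit 118, nat_lit 4, [p1, p0, p1, m1, p1, p0, m1, m3], nat_lit 1),
    (nat_lit 113, nat_lit 5, [m3, p3, p4, m3, p0, p0, p0, m1], nat_lit 1),
    (nat_lit 115, nat_lit 5, [m1, p0, p2, m1, p0, p1, p0, m4], nat_lit 1),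
    (nat_lit 117, nat_lit 4, [m1, m1, p1, p1, p0, m1, p1, m4], nat_lit 1),
    (nat_lit 118, nat_lit 4, [m1, p1, p1, p0, p0, p0, m1, m3], nat_lit 1),
    (nat_lit 117, nat_lit 4, [p1, p0, p1, m1, p1, m1, p1, m4], nat_lit 1),
    (nat_lit 118, nat_lit 4, [p1, m1, p0, p1, p0, p0, m1, m3], nat_lit 1),
    (nat_lit 83, nat_lit 15, [m3, m3, p4, p0, p0, p0, p0, m1], nat_lit 1),
    (nat_lit 116, nat_lit 4, [m1, m1, p1, p1, m1, p1, p0, m4], nat_lit 1),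
    (nat_lit 117, nat_lit 4, [m1, p1, p1, p0, p0, m1, p1, m4], nat_lit 1),
    (nat_lit 115, nat_lit 4, [p1, p0, p1, m1, p0, p1, p0, m4], nat_lit 1),
    (nat_lit 117, nat_lit 3, [p1, m1, p0, p1, p0, m1, p1, m4], nat_lit 1),
    (nat_lit 118, nat_lit 3, [p1, p1, p0, p0, p0, p0, m1, m3], nat_lit 1),
    (nat_lit 113, nat_lit 3, [m1, m1, p1, p0, p1, p0, p0, m4], nat_lit 1),
    (nat_lit 116, nat_lit 2, [m1, p1, p1, p0, m1, p1, p0, m4], nat_lit 1),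
    (nat_lit 116, nat_lit 2, [p1, m1, p0, p1, m1, p1, p0, m4], nat_lit 1),
    (nat_lit 117, nat_lit 2, [p1, p1, p0, p0, p0, m1, p1, m4], nat_lit 1),
    (nat_lit 115, nat_lit 2, [m1, p1, p1, m1, p1, p0, p0, m4], nat_lit 1),
    (nat_lit 113, nat_lit 2, [p1, m1, p0, p0, p1, p0, p0, m4], nat_lit 1),
    (nat_lit 116, nat_lit 1, [p1, p1, p0, p0, m1, p1, p0, m4], nat_lit 1),
    (nat_lit 112, nat_lit 1, [m1, p0, p0, p1, p0, p0, p0, m4], nat_lit 1),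
    (nat_lit 115, nat_lit 0, [p1, p1, p0, m1, p1, p0, p0, m4], nat_lit 1),
    (nat_lit 114, nat_lit 0, [p1, p0, m1, p1, p0, p0, p0, m4], nat_lit 1),
    (nat_lit 0, nat_lit 999, [p0, p0, p1, p0, p0, p0, p0, m4], nat_lit 1)]

theorem chk_w2 : chkW 8 rt [p0, p0, p1, p0, p0, p0, p0, p0] w2 = true := by decide +kernel

theorem enum_w2 : enum (fun I n => n.beq 0 || ((fun n => 2 * n + 1) n).ble (cnt I w2)) rt 0 0 0 = true := by
  decide +kernel

/-- weights in the orbit of [p0, p0, p0, p1, p0, p0, p0, p0] -/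
def w3 : List WE :=
  [
    (nat_lit 2, nat_lit 1, [p0, m3, p0, p1, p3, p0, m3, m3], nat_lit 1),
    (nat_lit 118, nat_lit 3, [p0, m3, p0, p4, m3, p0, p3, m6], nat_lit 1),
    (nat_lit 117, nat_lit 4, [p0, m3, p0, p1, p3, m3, p0, m3], nat_lit 1),
    (nat_lit 3, nat_lit 0, [p0, p3, p0, p1, p0, m3, p0, m3], nat_lit 1),
    (nat_lit 116, nat_lit 3, [p0, p3, p0, p1, m3, p0, p0, m3], nat_lit 1),
    (nat_lit 4, nat_lit 1, [p0, m3, p0, p4, m3, p3, m3, m3], nat_lit 1),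
    (nat_lit 118, nat_lit 3, [p0, p0, p4, m3, p0, p0, p4, m6], nat_lit 1),
    (nat_lit 118, nat_lit 4, [p0, m3, p0, p1, p0, p3, m3, m3], nat_lit 1),
    (nat_lit 117, nat_lit 4, [p0, p3, p0, m2, p3, m3, p0, m3], nat_lit 1),
    (nat_lit 43, nat_lit 62, [p0, m3, p0, p4, p0, m3, p0, m3], nat_lit 1),
    (nat_lit 117, nat_lit 4, [p0, p0, p4, m3, p0, p4, m4, m2], nat_lit 1),
    (nat_lit 118, nat_lit 4, [p4, p0, m4, p1, p0, p0, p4, m6], nat_lit 1),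
    (nat_lit 113, nat_lit 5, [p0, m3, p0, p1, p0, p0, p3, m6], nat_lit 1),
    (nat_lit 118, nat_lit 4, [p0, p3, p0, m2, p0, p3, m3, m3], nat_lit 1),
    (nat_lit 117, nat_lit 4, [p0, p0, m2, p3, p0, m2, p0, m4], nat_lit 1),
    (nat_lit 116, nat_lit 4, [p0, p0, p4, m3, p4, m4, p0, m2], nat_lit 1),
    (nat_lit 117, nat_lit 5, [p4, p0, m4, p1, p0, p4, m4, m2], nat_lit 1),
    (nat_lit 118, nat_lit 5, [m4, p0, p0, p1, p0, p0, p4, m6], nat_lit 1),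
    (nat_lit 52, nat_lit 53, [p0, p3, p0, m2, p0, p0, p3, m6], nat_lit 1),
    (nat_lit 118, nat_lit 4, [p0, p0, m2, p3, m2, p2, m2, m4], nat_lit 1),
    (nat_lit 114, nat_lit 6, [p0, p0, p4, p1, m4, p0, p0, m2], nat_lit 1),
    (nat_lit 117, nat_lit 4, [m2, p0, p2, p1, p0, m2, p0, m4], nat_lit 1),
    (nat_lit 116, nat_lit 4, [p4, p0, m4, p1, p4, m4, p0, m2], nat_lit 1),
    (nat_lit 117, nat_lit 5, [m4, p0, p0, p1, p0, p4, m4, m2], nat_lit 1),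
    (nat_lit 116, nat_lit 5, [p0, p0, m2, p3, m2, p0, p2, m6], nat_lit 1),
    (nat_lit 118, nat_lit 4, [p0, p0, m2, p1, p2, p0, m2, m4], nat_lit 1),
    (nat_lit 118, nat_lit 4, [m2, p0, p2, p1, m2, p2, m2, m4], nat_lit 1),
    (nat_lit 112, nat_lit 7, [p4, p0, m4, p5, m4, p0, p0, m2], nat_lit 1),
    (nat_lit 117, nat_lit 5, [p2, p0, p0, p1, p0, m2, p0, m4], nat_lit 1),
    (nat_lit 116, nat_lit 5, [m4, p0, p0, p1, p4, m4, p0, m2], nat_lit 1),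
    (nat_lit 117, nat_lit 5, [p0, p0, m2, p1, p2, m2, p2, m6], nat_lit 1),
    (nat_lit 116, nat_lit 5, [m2, p0, p2, p1, m2, p0, p2, m6], nat_lit 1),
    (nat_lit 118, nat_lit 4, [m2, p0, p2, m1, p2, p0, m2, m4], nat_lit 1),
    (nat_lit 113, nat_lit 5, [p5, p5, p0, m4, p0, p0, p0, m1], nat_lit 1),
    (nat_lit 118, nat_lit 5, [p2, p0, p0, p1, m2, p2, m2, m4], nat_lit 1),
    (nat_lit 69, nat_lit 36, [m4, p0, p0, p5, m4, p0, p0, m2], nat_lit 1),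
    (nat_lit 114, nat_lit 6, [p0, p0, m2, p1, p0, p2, p0, m6], nat_lit 1),
    (nat_lit 117, nat_lit 5, [m2, p0, p2, m1, p2, m2, p2, m6], nat_lit 1),
    (nat_lit 118, nat_lit 5, [m1, m1, p0, p2, p0, p0, m1, m5], nat_lit 1),
    (nat_lit 112, nat_lit 9, [p5, m5, p0, p1, p0, p0, p0, m1], nat_lit 1),
    (nat_lit 116, nat_lit 5, [p2, p0, p0, p1, m2, p0, p2, m6], nat_lit 1),
    (nat_lit 118, nat_lit 4, [p2, p0, p0, m1, p2, p0, m2, m4], nat_lit 1),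
    (nat_lit 114, nat_lit 5, [m5, p5, p5, m4, p0, p0, p0, m1], nat_lit 1),
    (nat_lit 112, nat_lit 8, [m2, p0, p2, m1, p0, p2, p0, m6], nat_lit 1),
    (nat_lit 117, nat_lit 5, [m1, m1, p0, p2, p0, m1, p1, m6], nat_lit 1),
    (nat_lit 118, nat_lit 5, [m1, p1, p0, p1, p0, p0, m1, m5], nat_lit 1),
    (nat_lit 117, nat_lit 5, [p2, p0, p0, m1, p2, m2, p2, m6], nat_lit 1),
    (nat_lit 118, nat_lit 5, [p1, m1, m1, p2, p0, p0, m1, m5], nat_lit 1),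
    (nat_lit 113, nat_lit 7, [p0, p5, m5, p1, p0, p0, p0, m1], nat_lit 1),
    (nat_lit 114, nat_lit 6, [m5, m5, p5, p1, p0, p0, p0, m1], nat_lit 1),
    (nat_lit 116, nat_lit 6, [m1, m1, p0, p2, m1, p1, p0, m6], nat_lit 1),
    (nat_lit 117, nat_lit 6, [m1, p1, p0, p1, p0, m1, p1, m6], nat_lit 1),
    (nat_lit 86, nat_lit 19, [p2, p0, p0, m1, p0, p2, p0, m6], nat_lit 1),
    (nat_lit 117, nat_lit 5, [p1, m1, m1, p2, p0, m1, p1, m6], nat_lit 1),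
    (nat_lit 118, nat_lit 5, [p0, m1, p1, p1, p0, p0, m1, m5], nat_lit 1),
    (nat_lit 118, nat_lit 5, [p1, p1, m1, p1, p0, p0, m1, m5], nat_lit 1),
    (nat_lit 90, nat_lit 15, [p0, m5, m5, p6, p0, p0, p0, m1], nat_lit 1),
    (nat_lit 113, nat_lit 5, [m1, m1, p0, p1, p1, p0, p0, m6], nat_lit 1),
    (nat_lit 116, nat_lit 4, [m1, p1, p0, p1, m1, p1, p0, m6], nat_lit 1),
    (nat_lit 116, nat_lit 4, [p1, m1, m1, p2, m1, p1, p0, m6], nat_lit 1),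
    (nat_lit 117, nat_lit 4, [p0, m1, p1, p1, p0, m1, p1, m6], nat_lit 1),
    (nat_lit 117, nat_lit 4, [p1, p1, m1, p1, p0, m1, p1, m6], nat_lit 1),
    (nat_lit 118, nat_lit 4, [p0, p1, p1, p0, p0, p0, m1, m5], nat_lit 1),
    (nat_lit 112, nat_lit 5, [m1, p1, p0, p0, p1, p0, p0, m6], nat_lit 1),
    (nat_lit 114, nat_lit 3, [p1, m1, m1, p1, p1, p0, p0, m6], nat_lit 1),
    (nat_lit 116, nat_lit 2, [p0, m1, p1, p1, m1, p1, p0, m6], nat_lit 1),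
    (nat_lit 116, nat_lit 2, [p1, p1, m1, p1, m1, p1, p0, m6], nat_lit 1),
    (nat_lit 117, nat_lit 2, [p0, p1, p1, p0, p0, m1, p1, m6], nat_lit 1),
    (nat_lit 113, nat_lit 2, [p0, m1, p1, p0, p1, p0, p0, m6], nat_lit 1),
    (nat_lit 114, nat_lit 1, [p1, p1, m1, p0, p1, p0, p0, m6], nat_lit 1),
    (nat_lit 116, nat_lit 0, [p0, p1, p1, p0, m1, p1, p0, m6], nat_lit 1),
    (nat_lit 115, nat_lit 0, [p0, p1, p1, m1, p1, p0, p0, m6], nat_lit 1),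
    (nat_lit 0, nat_lit 999, [p0, p0, p0, p1, p0, p0, p0, m6], nat_lit 1)]

theorem chk_w3 : chkW 8 rt [p0, p0, p0, p1, p0, p0, p0, p0] w3 = true := by decide +kernel

theorem enum_w3 : enum (fun I n => n.beq 0 || ((fun n => 2 * n + 1) n).ble (cnt I w3)) rt 0 0 0 = true := by
  decide +kernel

/-- weights in the orbit of [p0, p0, p0, p0, p1, p0, p0, p0] -/
def w4 : List WE :=
  [
    (nat_lit 1, nat_lit 2, [p0, m3, p0, p3, m2, p0, p0, m2], nat_lit 1),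
    (nat_lit 117, nat_lit 3, [p0, p3, p0, p0, m2, p3, m3, m2], nat_lit 1),
    (nat_lit 2, nat_lit 1, [p0, m2, p0, p0, p3, p0, m2, m3], nat_lit 1),
    (nat_lit 118, nat_lit 3, [p0, m3, p0, p3, m2, p0, p3, m5], nat_lit 1),
    (nat_lit 117, nat_lit 4, [p0, m2, p0, p0, p3, m2, p0, m3], nat_lit 1),
    (nat_lit 3, nat_lit 0, [p0, p3, p0, p0, p1, m3, p0, m2], nat_lit 1),
    (nat_lit 38, nat_lit 65, [p0, p3, p0, p0, m2, p0, p0, m2], nat_lit 1),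
    (nat_lit 117, nat_lit 3, [p0, m3, p0, p3, m2, p3, m3, m2], nat_lit 1),
    (nat_lit 118, nat_lit 3, [p0, p0, p3, m3, p1, p0, p3, m5], nat_lit 1),
    (nat_lit 118, nat_lit 4, [p0, m2, p0, p0, p1, p2, m2, m3], nat_lit 1),
    (nat_lit 117, nat_lit 4, [p0, p2, p0, m2, p3, m2, p0, m3], nat_lit 1),
    (nat_lit 115, nat_lit 5, [p0, m3, p0, p3, p1, m3, p0, m2], nat_lit 1),
    (nat_lit 117, nat_lit 4, [p0, p0, p3, m3, p1, p3, m3, m2], nat_lit 1),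
    (nat_lit 118, nat_lit 4, [p3, p0, m3, p0, p1, p0, p3, m5], nat_lit 1),
    (nat_lit 113, nat_lit 5, [p0, m2, p0, p0, p1, p0, p2, m5], nat_lit 1),
    (nat_lit 118, nat_lit 4, [p0, p2, p0, m2, p1, p2, m2, m3], nat_lit 1),
    (nat_lit 117, nat_lit 4, [p0, p0, m2, p2, p1, m2, p0, m3], nat_lit 1),
    (nat_lit 114, nat_lit 6, [p0, p0, p3, m3, p4, m3, p0, m2], nat_lit 1),
    (nat_lit 117, nat_lit 5, [p3, p0, m3, p0, p1, p3, m3, m2], nat_lit 1),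
    (nat_lit 118, nat_lit 5, [m3, p0, p0, p0, p1, p0, p3, m5], nat_lit 1),
    (nat_lit 115, nat_lit 5, [p0, p2, p0, m2, p1, p0, p2, m5], nat_lit 1),
    (nat_lit 118, nat_lit 4, [p0, p0, m2, p2, m1, p2, m2, m3], nat_lit 1),
    (nat_lit 114, nat_lit 6, [p0, p0, p4, p0, m3, p0, p0, m1], nat_lit 1),
    (nat_lit 117, nat_lit 4, [m2, p0, p2, p0, p1, m2, p0, m3], nat_lit 1),
    (nat_lit 112, nat_lit 6, [p3, p0, m3, p0, p4, m3, p0, m2], nat_lit 1),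
    (nat_lit 117, nat_lit 5, [m3, p0, p0, p0, p1, p3, m3, m2], nat_lit 1),
    (nat_lit 114, nat_lit 6, [p0, p0, m2, p2, m1, p0, p2, m5], nat_lit 1),
    (nat_lit 118, nat_lit 4, [p0, p0, m1, p0, p2, p0, m1, m4], nat_lit 1),
    (nat_lit 118, nat_lit 4, [m2, p0, p2, p0, m1, p2, m2, m3], nat_lit 1),
    (nat_lit 115, nat_lit 5, [p4, p0, m4, p4, m3, p0, p0, m1], nat_lit 1),
    (nat_lit 117, nat_lit 5, [p2, p0, p0, p0, p1, m2, p0, m3], nat_lit 1),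
    (nat_lit 63, nat_lit 40, [m3, p0, p0, p0, p4, m3, p0, m2], nat_lit 1),
    (nat_lit 117, nat_lit 5, [p0, p0, m1, p0, p2, m1, p1, m5], nat_lit 1),
    (nat_lit 112, nat_lit 8, [m2, p0, p2, p0, m1, p0, p2, m5], nat_lit 1),
    (nat_lit 118, nat_lit 4, [m1, p0, p1, m1, p2, p0, m1, m4], nat_lit 1),
    (nat_lit 113, nat_lit 5, [p4, p4, p0, m4, p1, p0, p0, m1], nat_lit 1),
    (nat_lit 118, nat_lit 5, [p2, p0, p0, p0, m1, p2, m2, m3], nat_lit 1),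
    (nat_lit 115, nat_lit 6, [m4, p0, p0, p4, m3, p0, p0, m1], nat_lit 1),
    (nat_lit 114, nat_lit 6, [p0, p0, m1, p0, p1, p1, p0, m5], nat_lit 1),
    (nat_lit 117, nat_lit 5, [m1, p0, p1, m1, p2, m1, p1, m5], nat_lit 1),
    (nat_lit 118, nat_lit 5, [m1, m1, p0, p1, p1, p0, m1, m4], nat_lit 1),
    (nat_lit 112, nat_lit 9, [p4, m4, p0, p0, p1, p0, p0, m1], nat_lit 1),
    (nat_lit 74, nat_lit 29, [p2, p0, p0, p0, m1, p0, p2, m5], nat_lit 1),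
    (nat_lit 118, nat_lit 4, [p1, p0, p0, m1, p2, p0, m1, m4], nat_lit 1),
    (nat_lit 114, nat_lit 5, [m4, p4, p4, m4, p1, p0, p0, m1], nat_lit 1),
    (nat_lit 115, nat_lit 6, [m1, p0, p1, m1, p1, p1, p0, m5], nat_lit 1),
    (nat_lit 117, nat_lit 5, [m1, m1, p0, p1, p1, m1, p1, m5], nat_lit 1),
    (nat_lit 118, nat_lit 5, [m1, p1, p0, p0, p1, p0, m1, m4], nat_lit 1),
    (nat_lit 117, nat_lit 5, [p1, p0, p0, m1, p2, m1, p1, m5], nat_lit 1),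
    (nat_lit 118, nat_lit 5, [p1, m1, m1, p1, p1, p0, m1, m4], nat_lit 1),
    (nat_lit 113, nat_lit 7, [p0, p4, m4, p0, p1, p0, p0, m1], nat_lit 1),
    (nat_lit 114, nat_lit 6, [m4, m4, p4, p0, p1, p0, p0, m1], nat_lit 1),
    (nat_lit 113, nat_lit 6, [m1, m1, p0, p1, p0, p1, p0, m5], nat_lit 1),
    (nat_lit 117, nat_lit 5, [m1, p1, p0, p0, p1, m1, p1, m5], nat_lit 1),
    (nat_lit 115, nat_lit 5, [p1, p0, p0, m1, p1, p1, p0, m5], nat_lit 1),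
    (nat_lit 117, nat_lit 4, [p1, m1, m1, p1, p1, m1, p1, m5], nat_lit 1),
    (nat_lit 118, nat_lit 4, [p0, m1, p1, p0, p1, p0, m1, m4], nat_lit 1),
    (nat_lit 118, nat_lit 4, [p1, p1, m1, p0, p1, p0, m1, m4], nat_lit 1),
    (nat_lit 115, nat_lit 5, [p0, m4, m4, p4, p1, p0, p0, m1], nat_lit 1),
    (nat_lit 112, nat_lit 6, [m1, p1, p0, p0, p0, p1, p0, m5], nat_lit 1),
    (nat_lit 114, nat_lit 4, [p1, m1, m1, p1, p0, p1, p0, m5], nat_lit 1),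
    (nat_lit 117, nat_lit 3, [p0, m1, p1, p0, p1, m1, p1, m5], nat_lit 1),
    (nat_lit 117, nat_lit 3, [p1, p1, m1, p0, p1, m1, p1, m5], nat_lit 1),
    (nat_lit 118, nat_lit 3, [p0, p1, p1, m1, p1, p0, m1, m4], nat_lit 1),
    (nat_lit 97, nat_lit 7, [p0, p0, p0, m4, p5, p0, p0, m1], nat_lit 1),
    (nat_lit 113, nat_lit 3, [p0, m1, p1, p0, p0, p1, p0, m5], nat_lit 1),
    (nat_lit 114, nat_lit 2, [p1, p1, m1, p0, p0, p1, p0, m5], nat_lit 1),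
    (nat_lit 117, nat_lit 1, [p0, p1, p1, m1, p1, m1, p1, m5], nat_lit 1),
    (nat_lit 118, nat_lit 1, [p0, p0, p0, p1, p0, p0, m1, m4], nat_lit 1),
    (nat_lit 115, nat_lit 1, [p0, p1, p1, m1, p0, p1, p0, m5], nat_lit 1),
    (nat_lit 117, nat_lit 0, [p0, p0, p0, p1, p0, m1, p1, m5], nat_lit 1),
    (nat_lit 116, nat_lit 0, [p0, p0, p0, p1, m1, p1, p0, m5], nat_lit 1),
    (nat_lit 0, nat_lit 999, [p0, p0, p0, p0, p1, p0, p0, m5], nat_lit 1)]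

theorem chk_w4 : chkW 8 rt [p0, p0, p0, p0, p1, p0, p0, p0] w4 = true := by decide +kernel

theorem enum_w4 : enum (fun I n => n.beq 0 || ((fun n => 2 * n + 1) n).ble (cnt I w4)) rt 0 0 0 = true := by
  decide +kernel

/-- weights in the orbit of [p0, p0, p0, p0, p0, p1, p0, p0] -/
def w5 : List WE :=
  [
    (nat_lit 115, nat_lit 3, [p0, p0, m2, p2, p0, p1, m2, m2], nat_lit 1),
    (nat_lit 118, nat_lit 2, [p0, p2, p0, m2, p2, m1, p2, m4], nat_lit 1),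
    (nat_lit 1, nat_lit 13, [p0, m1, p0, p0, p0, p2, p0, m4], nat_lit 1),
    (nat_lit 115, nat_lit 3, [p0, p0, p2, m2, p0, p1, p0, m2], nat_lit 1),
    (nat_lit 116, nat_lit 3, [p0, p2, p0, m2, p2, p1, m2, m2], nat_lit 1),
    (nat_lit 118, nat_lit 2, [p0, p2, p0, p0, m2, p1, p2, m4], nat_lit 1),
    (nat_lit 118, nat_lit 2, [p0, m2, p0, p0, p2, m1, p2, m4], nat_lit 1),
    (nat_lit 1, nat_lit 2, [p0, m2, p0, p2, m2, p1, p0, m2], nat_lit 1),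
    (nat_lit 2, nat_lit 4, [p0, p2, p0, p0, m2, p3, m2, m2], nat_lit 1),
    (nat_lit 2, nat_lit 1, [p0, m2, p0, p0, p2, p1, m2, m2], nat_lit 1),
    (nat_lit 118, nat_lit 3, [p0, m2, p0, p2, m2, p1, p2, m4], nat_lit 1),
    (nat_lit 113, nat_lit 5, [p0, m2, p0, p0, p2, m1, p0, m2], nat_lit 1),
    (nat_lit 113, nat_lit 5, [p0, p3, p0, p0, p0, m2, p0, m1], nat_lit 1),
    (nat_lit 116, nat_lit 3, [p0, p2, p0, p0, m2, p1, p0, m2], nat_lit 1),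
    (nat_lit 115, nat_lit 4, [p0, m2, p0, p2, m2, p3, m2, m2], nat_lit 1),
    (nat_lit 118, nat_lit 3, [p0, p0, p2, m2, p0, p1, p2, m4], nat_lit 1),
    (nat_lit 118, nat_lit 4, [p0, m1, p0, p0, p0, p2, m1, m3], nat_lit 1),
    (nat_lit 115, nat_lit 5, [p0, p2, p0, m2, p2, m1, p0, m2], nat_lit 1),
    (nat_lit 115, nat_lit 5, [p0, m3, p0, p3, p0, m2, p0, m1], nat_lit 1),
    (nat_lit 114, nat_lit 5, [p0, p0, p2, m2, p0, p3, m2, m2], nat_lit 1),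
    (nat_lit 118, nat_lit 4, [p2, p0, m2, p0, p0, p1, p2, m4], nat_lit 1),
    (nat_lit 113, nat_lit 5, [p0, m1, p0, p0, p0, p1, p1, m4], nat_lit 1),
    (nat_lit 118, nat_lit 4, [p0, p1, p0, m1, p0, p2, m1, m3], nat_lit 1),
    (nat_lit 114, nat_lit 6, [p0, p0, m2, p2, p0, m1, p0, m2], nat_lit 1),
    (nat_lit 116, nat_lit 4, [p0, p0, p3, m3, p3, m2, p0, m1], nat_lit 1),
    (nat_lit 112, nat_lit 6, [p2, p0, m2, p0, p0, p3, m2, m2], nat_lit 1),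
    (nat_lit 118, nat_lit 5, [m2, p0, p0, p0, p0, p1, p2, m4], nat_lit 1),
    (nat_lit 115, nat_lit 5, [p0, p1, p0, m1, p0, p1, p1, m4], nat_lit 1),
    (nat_lit 118, nat_lit 4, [p0, p0, m1, p1, m1, p2, m1, m3], nat_lit 1),
    (nat_lit 114, nat_lit 6, [p0, p0, p3, p0, m3, p1, p0, m1], nat_lit 1),
    (nat_lit 112, nat_lit 6, [m2, p0, p2, p0, p0, m1, p0, m2], nat_lit 1),
    (nat_lit 116, nat_lit 4, [p3, p0, m3, p0, p3, m2, p0, m1], nat_lit 1),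
    (nat_lit 57, nat_lit 39, [m2, p0, p0, p0, p0, p3, m2, m2], nat_lit 1),
    (nat_lit 116, nat_lit 5, [p0, p0, m1, p1, m1, p1, p1, m4], nat_lit 1),
    (nat_lit 118, nat_lit 4, [p0, p0, m1, p0, p1, p1, m1, m3], nat_lit 1),
    (nat_lit 118, nat_lit 4, [m1, p0, p1, p0, m1, p2, m1, m3], nat_lit 1),
    (nat_lit 115, nat_lit 5, [p3, p0, m3, p3, m3, p1, p0, m1], nat_lit 1),
    (nat_lit 62, nat_lit 34, [p2, p0, p0, p0, p0, m1, p0, m2], nat_lit 1),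
    (nat_lit 116, nat_lit 5, [m3, p0, p0, p0, p3, m2, p0, m1], nat_lit 1),
    (nat_lit 114, nat_lit 5, [p0, p0, m1, p0, p1, p0, p1, m4], nat_lit 1),
    (nat_lit 116, nat_lit 4, [m1, p0, p1, p0, m1, p1, p1, m4], nat_lit 1),
    (nat_lit 118, nat_lit 3, [m1, p0, p1, m1, p1, p1, m1, m3], nat_lit 1),
    (nat_lit 113, nat_lit 4, [p3, p3, p0, m3, p0, p1, p0, m1], nat_lit 1),
    (nat_lit 118, nat_lit 4, [p1, p0, p0, p0, m1, p2, m1, m3], nat_lit 1),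
    (nat_lit 115, nat_lit 5, [m3, p0, p0, p3, m3, p1, p0, m1], nat_lit 1),
    (nat_lit 115, nat_lit 5, [m1, p0, p1, m1, p1, p0, p1, m4], nat_lit 1),
    (nat_lit 118, nat_lit 4, [m1, m1, p0, p1, p0, p1, m1, m3], nat_lit 1),
    (nat_lit 112, nat_lit 8, [p3, m3, p0, p0, p0, p1, p0, m1], nat_lit 1),
    (nat_lit 116, nat_lit 4, [p1, p0, p0, p0, m1, p1, p1, m4], nat_lit 1),
    (nat_lit 118, nat_lit 3, [p1, p0, p0, m1, p1, p1, m1, m3], nat_lit 1),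
    (nat_lit 114, nat_lit 4, [m3, p3, p3, m3, p0, p1, p0, m1], nat_lit 1),
    (nat_lit 113, nat_lit 5, [m1, m1, p0, p1, p0, p0, p1, m4], nat_lit 1),
    (nat_lit 118, nat_lit 4, [m1, p1, p0, p0, p0, p1, m1, m3], nat_lit 1),
    (nat_lit 115, nat_lit 4, [p1, p0, p0, m1, p1, p0, p1, m4], nat_lit 1),
    (nat_lit 118, nat_lit 3, [p1, m1, m1, p1, p0, p1, m1, m3], nat_lit 1),
    (nat_lit 113, nat_lit 5, [p0, p3, m3, p0, p0, p1, p0, m1], nat_lit 1),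
    (nat_lit 114, nat_lit 4, [m3, m3, p3, p0, p0, p1, p0, m1], nat_lit 1),
    (nat_lit 112, nat_lit 5, [m1, p1, p0, p0, p0, p0, p1, m4], nat_lit 1),
    (nat_lit 114, nat_lit 3, [p1, m1, m1, p1, p0, p0, p1, m4], nat_lit 1),
    (nat_lit 118, nat_lit 2, [p0, m1, p1, p0, p0, p1, m1, m3], nat_lit 1),
    (nat_lit 118, nat_lit 2, [p1, p1, m1, p0, p0, p1, m1, m3], nat_lit 1),
    (nat_lit 115, nat_lit 3, [p0, m3, m3, p3, p0, p1, p0, m1], nat_lit 1),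
    (nat_lit 113, nat_lit 3, [p0, m1, p1, p0, p0, p0, p1, m4], nat_lit 1),
    (nat_lit 114, nat_lit 2, [p1, p1, m1, p0, p0, p0, p1, m4], nat_lit 1),
    (nat_lit 118, nat_lit 1, [p0, p1, p1, m1, p0, p1, m1, m3], nat_lit 1),
    (nat_lit 116, nat_lit 2, [p0, p0, p0, m3, p3, p1, p0, m1], nat_lit 1),
    (nat_lit 115, nat_lit 2, [p0, p1, p1, m1, p0, p0, p1, m4], nat_lit 1),
    (nat_lit 118, nat_lit 1, [p0, p0, p0, p1, m1, p1, m1, m3], nat_lit 1),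
    (nat_lit 104, nat_lit 3, [p0, p0, p0, p0, m3, p4, p0, m1], nat_lit 1),
    (nat_lit 116, nat_lit 1, [p0, p0, p0, p1, m1, p0, p1, m4], nat_lit 1),
    (nat_lit 118, nat_lit 0, [p0, p0, p0, p0, p1, p0, m1, m3], nat_lit 1),
    (nat_lit 117, nat_lit 0, [p0, p0, p0, p0, p1, m1, p1, m4], nat_lit 1),
    (nat_lit 0, nat_lit 999, [p0, p0, p0, p0, p0, p1, p0, m4], nat_lit 1)]

theorem chk_w5 : chkW 8 rt [p0, p0, p0, p0, p0, p1, p0, p0] w5 = true := by decide +kernel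

theorem enum_w5 : enum (fun I n => n.beq 0 || ((fun n => 2 * n + 1) n).ble (cnt I w5)) rt 0 0 0 = true := by
  decide +kernel

/-- weights in the orbit of [p0, p0, p0, p0, p0, p0, p1, p0] -/
def w6 : List WE :=
  [
    (nat_lit 115, nat_lit 1, [m1, m1, p0, p1, p0, p0, p1, m3], nat_lit 1),
    (nat_lit 117, nat_lit 1, [p1, p0, p0, p0, m1, p1, p1, m3], nat_lit 1),
    (nat_lit 116, nat_lit 1, [m1, p0, p1, m1, p1, p0, p1, m3], nat_lit 1),
    (nat_lit 112, nat_lit 3, [p1, p0, p0, p0, p0, m1, p2, m3], nat_lit 1),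
    (nat_lit 117, nat_lit 2, [m1, p0, p1, p0, m1, p1, p1, m3], nat_lit 1),
    (nat_lit 116, nat_lit 2, [p0, p0, m1, p0, p1, p0, p1, m3], nat_lit 1),
    (nat_lit 112, nat_lit 3, [p2, p0, p0, p0, p0, p0, m1, m1], nat_lit 1),
    (nat_lit 114, nat_lit 3, [m1, p0, p1, p0, p0, m1, p2, m3], nat_lit 1),
    (nat_lit 117, nat_lit 2, [p0, p0, m1, p1, m1, p1, p1, m3], nat_lit 1),
    (nat_lit 112, nat_lit 3, [m1, p0, p0, p0, p0, p0, p1, m2], nat_lit 1),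
    (nat_lit 114, nat_lit 3, [m2, p0, p2, p0, p0, p0, m1, m1], nat_lit 1),
    (nat_lit 115, nat_lit 3, [p0, p0, m1, p1, p0, m1, p2, m3], nat_lit 1),
    (nat_lit 117, nat_lit 2, [p0, p1, p0, m1, p0, p1, p1, m3], nat_lit 1),
    (nat_lit 114, nat_lit 3, [p1, p0, m1, p0, p0, p0, p1, m2], nat_lit 1),
    (nat_lit 115, nat_lit 3, [p0, p0, m2, p2, p0, p0, m1, m1], nat_lit 1),
    (nat_lit 116, nat_lit 3, [p0, p1, p0, m1, p1, m1, p2, m3], nat_lit 1),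
    (nat_lit 117, nat_lit 3, [p0, m1, p0, p0, p0, p1, p1, m3], nat_lit 1),
    (nat_lit 115, nat_lit 3, [p0, p0, p1, m1, p0, p0, p1, m2], nat_lit 1),
    (nat_lit 116, nat_lit 3, [p0, p2, p0, m2, p2, p0, m1, m1], nat_lit 1),
    (nat_lit 113, nat_lit 4, [p0, p1, p0, p0, m1, p0, p2, m3], nat_lit 1),
    (nat_lit 116, nat_lit 3, [p0, m1, p0, p0, p1, m1, p2, m3], nat_lit 1),
    (nat_lit 1, nat_lit 2, [p0, m1, p0, p1, m1, p0, p1, m2], nat_lit 1),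
    (nat_lit 117, nat_lit 3, [p0, p2, p0, p0, m2, p2, m1, m1], nat_lit 1),
    (nat_lit 116, nat_lit 4, [p0, m2, p0, p0, p2, p0, m1, m1], nat_lit 1),
    (nat_lit 115, nat_lit 4, [p0, m1, p0, p1, m1, p0, p2, m3], nat_lit 1),
    (nat_lit 117, nat_lit 4, [p0, m1, p0, p0, p1, m1, p1, m2], nat_lit 1),
    (nat_lit 113, nat_lit 5, [p0, p2, p0, p0, p0, m2, p1, m1], nat_lit 1),
    (nat_lit 116, nat_lit 3, [p0, p1, p0, p0, m1, p0, p1, m2], nat_lit 1),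
    (nat_lit 117, nat_lit 3, [p0, m2, p0, p2, m2, p2, m1, m1], nat_lit 1),
    (nat_lit 114, nat_lit 4, [p0, p0, p1, m1, p0, p0, p2, m3], nat_lit 1),
    (nat_lit 113, nat_lit 4, [p0, m1, p0, p0, p0, p1, p0, m2], nat_lit 1),
    (nat_lit 117, nat_lit 3, [p0, p1, p0, m1, p1, m1, p1, m2], nat_lit 1),
    (nat_lit 115, nat_lit 4, [p0, m2, p0, p2, p0, m2, p1, m1], nat_lit 1),
    (nat_lit 117, nat_lit 3, [p0, p0, p2, m2, p0, p2, m1, m1], nat_lit 1),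
    (nat_lit 112, nat_lit 4, [p1, p0, m1, p0, p0, p0, p2, m3], nat_lit 1),
    (nat_lit 115, nat_lit 4, [p0, p1, p0, m1, p0, p1, p0, m2], nat_lit 1),
    (nat_lit 117, nat_lit 3, [p0, p0, m1, p1, p0, m1, p1, m2], nat_lit 1),
    (nat_lit 116, nat_lit 3, [p0, p0, p2, m2, p2, m2, p1, m1], nat_lit 1),
    (nat_lit 117, nat_lit 4, [p2, p0, m2, p0, p0, p2, m1, m1], nat_lit 1),
    (nat_lit 51, nat_lit 32, [m1, p0, p0, p0, p0, p0, p2, m3], nat_lit 1),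
    (nat_lit 116, nat_lit 4, [p0, p0, m1, p1, m1, p1, p0, m2], nat_lit 1),
    (nat_lit 114, nat_lit 5, [p0, p0, p2, p0, m2, p0, p1, m1], nat_lit 1),
    (nat_lit 117, nat_lit 3, [m1, p0, p1, p0, p0, m1, p1, m2], nat_lit 1),
    (nat_lit 116, nat_lit 3, [p2, p0, m2, p0, p2, m2, p1, m1], nat_lit 1),
    (nat_lit 117, nat_lit 4, [m2, p0, p0, p0, p0, p2, m1, m1], nat_lit 1),
    (nat_lit 114, nat_lit 4, [p0, p0, m1, p0, p1, p0, p0, m2], nat_lit 1),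
    (nat_lit 116, nat_lit 3, [m1, p0, p1, p0, m1, p1, p0, m2], nat_lit 1),
    (nat_lit 115, nat_lit 3, [p2, p0, m2, p2, m2, p0, p1, m1], nat_lit 1),
    (nat_lit 117, nat_lit 3, [p1, p0, p0, p0, p0, m1, p1, m2], nat_lit 1),
    (nat_lit 116, nat_lit 3, [m2, p0, p0, p0, p2, m2, p1, m1], nat_lit 1),
    (nat_lit 115, nat_lit 3, [m1, p0, p1, m1, p1, p0, p0, m2], nat_lit 1),
    (nat_lit 113, nat_lit 3, [p2, p2, p0, m2, p0, p0, p1, m1], nat_lit 1),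
    (nat_lit 116, nat_lit 3, [p1, p0, p0, p0, m1, p1, p0, m2], nat_lit 1),
    (nat_lit 115, nat_lit 3, [m2, p0, p0, p2, m2, p0, p1, m1], nat_lit 1),
    (nat_lit 113, nat_lit 3, [m1, m1, p0, p1, p0, p0, p0, m2], nat_lit 1),
    (nat_lit 112, nat_lit 5, [p2, m2, p0, p0, p0, p0, p1, m1], nat_lit 1),
    (nat_lit 115, nat_lit 2, [p1, p0, p0, m1, p1, p0, p0, m2], nat_lit 1),
    (nat_lit 114, nat_lit 2, [m2, p2, p2, m2, p0, p0, p1, m1], nat_lit 1),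
    (nat_lit 112, nat_lit 4, [m1, p1, p0, p0, p0, p0, p0, m2], nat_lit 1),
    (nat_lit 114, nat_lit 2, [p1, m1, m1, p1, p0, p0, p0, m2], nat_lit 1),
    (nat_lit 113, nat_lit 3, [p0, p2, m2, p0, p0, p0, p1, m1], nat_lit 1),
    (nat_lit 114, nat_lit 2, [m2, m2, p2, p0, p0, p0, p1, m1], nat_lit 1),
    (nat_lit 113, nat_lit 2, [p0, m1, p1, p0, p0, p0, p0, m2], nat_lit 1),
    (nat_lit 114, nat_lit 1, [p1, p1, m1, p0, p0, p0, p0, m2], nat_lit 1),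
    (nat_lit 115, nat_lit 1, [p0, m2, m2, p2, p0, p0, p1, m1], nat_lit 1),
    (nat_lit 115, nat_lit 1, [p0, p1, p1, m1, p0, p0, p0, m2], nat_lit 1),
    (nat_lit 116, nat_lit 1, [p0, p0, p0, m2, p2, p0, p1, m1], nat_lit 1),
    (nat_lit 116, nat_lit 1, [p0, p0, p0, p1, m1, p0, p0, m2], nat_lit 1),
    (nat_lit 117, nat_lit 1, [p0, p0, p0, p0, m2, p2, p1, m1], nat_lit 1),
    (nat_lit 117, nat_lit 1, [p0, p0, p0, p0, p1, m1, p0, m2], nat_lit 1),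
    (nat_lit 111, nat_lit 1, [p0, p0, p0, p0, p0, m2, p3, m1], nat_lit 1),
    (nat_lit 118, nat_lit 0, [p0, p0, p0, p0, p0, p1, m1, m2], nat_lit 1),
    (nat_lit 0, nat_lit 999, [p0, p0, p0, p0, p0, p0, p1, m3], nat_lit 1)]

theorem chk_w6 : chkW 8 rt [p0, p0, p0, p0, p0, p0, p1, p0] w6 = true := by decide +kernel

theorem enum_w6 : enum (fun I n => n.beq 0 || ((fun n => 2 * n + 1) n).ble (cnt I w6)) rt 0 0 0 = true := by
  decide +kernel

/-- weights in the orbit of [p0, p0, p0, p0, p0, p0, p0, p1] -/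
def w7 : List WE :=
  [
    (nat_lit 119, nat_lit 0, [p0, m1, p0, p0, p1, p0, p0, m1], nat_lit 1073741824),
    (nat_lit 118, nat_lit 0, [p0, m1, p0, p0, p1, p0, m1, p1], nat_lit 1073741824),
    (nat_lit 117, nat_lit 0, [p0, m1, p0, p0, p1, m1, p1, p0], nat_lit 8589934592),
    (nat_lit 90, nat_lit 1, [p0, m1, p0, p0, p0, p1, p0, p0], nat_lit 137438953472),
    (nat_lit 104, nat_lit 2, [p0, m1, p0, p1, p0, m1, p1, m1], nat_lit 8388608),
    (nat_lit 111, nat_lit 3, [p0, p0, p1, m1, p0, p1, p0, m1], nat_lit 4194304),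
    (nat_lit 110, nat_lit 2, [p0, p0, p1, m1, p1, m1, p0, p1], nat_lit 524288),
    (nat_lit 115, nat_lit 1, [p0, m1, p0, p1, m1, p0, p1, p0], nat_lit 536870912),
    (nat_lit 118, nat_lit 2, [p1, p0, m1, p0, p0, p1, m1, p1], nat_lit 262144),
    (nat_lit 105, nat_lit 0, [p0, p0, p1, m1, p0, p0, p1, p0], nat_lit 33554432),
    (nat_lit 112, nat_lit 0, [m1, p0, p0, p0, p0, p0, p1, p0], nat_lit 131072),
    (nat_lit 45, nat_lit 23, [p1, p0, m1, p0, p0, p0, p1, p0], nat_lit 2097152),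
    (nat_lit 119, nat_lit 2, [p0, m1, p0, p1, m1, p1, p0, m1], nat_lit 67108864),
    (nat_lit 117, nat_lit 1, [p0, m1, p0, p1, p0, m1, p0, p1], nat_lit 8388608),
    (nat_lit 115, nat_lit 0, [p0, p0, p1, m1, p0, p1, m1, p1], nat_lit 4194304),
    (nat_lit 39, nat_lit 23, [p0, m1, p0, p1, m1, p1, m1, p1], nat_lit 67108864),
    (nat_lit 118, nat_lit 0, [p0, p0, p0, p0, p0, p0, p1, m2], nat_lit 1),
    (nat_lit 117, nat_lit 0, [p0, p0, p0, p0, p0, p1, m1, m1], nat_lit 1),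
    (nat_lit 116, nat_lit 0, [p0, p0, p0, p0, p1, m1, p0, m1], nat_lit 1),
    (nat_lit 115, nat_lit 0, [p0, p0, p0, p1, m1, p0, p0, m1], nat_lit 1),
    (nat_lit 114, nat_lit 0, [p0, p1, p1, m1, p0, p0, p0, m1], nat_lit 1),
    (nat_lit 113, nat_lit 1, [p1, p1, m1, p0, p0, p0, p0, m1], nat_lit 1),
    (nat_lit 114, nat_lit 0, [p0, m1, p1, p0, p0, p0, p0, m1], nat_lit 1),
    (nat_lit 115, nat_lit 1, [p1, m1, m1, p1, p0, p0, p0, m1], nat_lit 1),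
    (nat_lit 113, nat_lit 1, [m1, p1, p0, p0, p0, p0, p0, m1], nat_lit 1),
    (nat_lit 116, nat_lit 1, [p1, p0, p0, m1, p1, p0, p0, m1], nat_lit 1),
    (nat_lit 115, nat_lit 1, [m1, m1, p0, p1, p0, p0, p0, m1], nat_lit 1),
    (nat_lit 117, nat_lit 1, [p1, p0, p0, p0, m1, p1, p0, m1], nat_lit 1),
    (nat_lit 116, nat_lit 1, [m1, p0, p1, m1, p1, p0, p0, m1], nat_lit 1),
    (nat_lit 118, nat_lit 2, [p1, p0, p0, p0, p0, m1, p1, m1], nat_lit 1),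
    (nat_lit 117, nat_lit 2, [m1, p0, p1, p0, m1, p1, p0, m1], nat_lit 1),
    (nat_lit 116, nat_lit 2, [p0, p0, m1, p0, p1, p0, p0, m1], nat_lit 1),
    (nat_lit 112, nat_lit 2, [p1, p0, p0, p0, p0, p0, m1, p0], nat_lit 1),
    (nat_lit 118, nat_lit 1, [m1, p0, p1, p0, p0, m1, p1, m1], nat_lit 1),
    (nat_lit 117, nat_lit 1, [p0, p0, m1, p1, m1, p1, p0, m1], nat_lit 1),
    (nat_lit 114, nat_lit 2, [m1, p0, p1, p0, p0, p0, m1, p0], nat_lit 1),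
    (nat_lit 118, nat_lit 1, [p0, p0, m1, p1, p0, m1, p1, m1], nat_lit 1),
    (nat_lit 117, nat_lit 1, [p0, p1, p0, m1, p0, p1, p0, m1], nat_lit 1),
    (nat_lit 115, nat_lit 2, [p0, p0, m1, p1, p0, p0, m1, p0], nat_lit 1),
    (nat_lit 118, nat_lit 1, [p0, p1, p0, m1, p1, m1, p1, m1], nat_lit 1),
    (nat_lit 117, nat_lit 2, [p0, m1, p0, p0, p0, p1, p0, m1], nat_lit 1),
    (nat_lit 116, nat_lit 2, [p0, p1, p0, m1, p1, p0, m1, p0], nat_lit 1),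
    (nat_lit 118, nat_lit 1, [p0, p1, p0, p0, m1, p0, p1, m1], nat_lit 1),
    (nat_lit 118, nat_lit 1, [p0, m1, p0, p0, p1, m1, p1, m1], nat_lit 1),
    (nat_lit 117, nat_lit 2, [p0, p1, p0, p0, m1, p1, m1, p0], nat_lit 1),
    (nat_lit 116, nat_lit 2, [p0, m1, p0, p0, p1, p0, m1, p0], nat_lit 1),
    (nat_lit 118, nat_lit 1, [p0, m1, p0, p1, m1, p0, p1, m1], nat_lit 1),
    (nat_lit 113, nat_lit 2, [p0, p1, p0, p0, p0, m1, p0, p0], nat_lit 1),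
    (nat_lit 117, nat_lit 1, [p0, m1, p0, p1, m1, p1, m1, p0], nat_lit 1),
    (nat_lit 118, nat_lit 1, [p0, p0, p1, m1, p0, p0, p1, m1], nat_lit 1),
    (nat_lit 115, nat_lit 2, [p0, m1, p0, p1, p0, m1, p0, p0], nat_lit 1),
    (nat_lit 117, nat_lit 1, [p0, p0, p1, m1, p0, p1, m1, p0], nat_lit 1),
    (nat_lit 118, nat_lit 1, [p1, p0, m1, p0, p0, p0, p1, m1], nat_lit 1),
    (nat_lit 116, nat_lit 2, [p0, p0, p1, m1, p1, m1, p0, p0], nat_lit 1),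
    (nat_lit 117, nat_lit 2, [p1, p0, m1, p0, p0, p1, m1, p0], nat_lit 1),
    (nat_lit 118, nat_lit 2, [m1, p0, p0, p0, p0, p0, p1, m1], nat_lit 1),
    (nat_lit 114, nat_lit 2, [p0, p0, p1, p0, m1, p0, p0, p0], nat_lit 1),
    (nat_lit 116, nat_lit 1, [p1, p0, m1, p0, p1, m1, p0, p0], nat_lit 1),
    (nat_lit 117, nat_lit 1, [m1, p0, p0, p0, p0, p1, m1, p0], nat_lit 1),
    (nat_lit 115, nat_lit 1, [p1, p0, m1, p1, m1, p0, p0, p0], nat_lit 1),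
    (nat_lit 116, nat_lit 1, [m1, p0, p0, p0, p1, m1, p0, p0], nat_lit 1),
    (nat_lit 113, nat_lit 1, [p1, p1, p0, m1, p0, p0, p0, p0], nat_lit 1),
    (nat_lit 115, nat_lit 1, [m1, p0, p0, p1, m1, p0, p0, p0], nat_lit 1),
    (nat_lit 112, nat_lit 2, [p1, m1, p0, p0, p0, p0, p0, p0], nat_lit 1),
    (nat_lit 114, nat_lit 0, [m1, p1, p1, m1, p0, p0, p0, p0], nat_lit 1),
    (nat_lit 113, nat_lit 1, [p0, p1, m1, p0, p0, p0, p0, p0], nat_lit 1),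
    (nat_lit 114, nat_lit 0, [m1, m1, p1, p0, p0, p0, p0, p0], nat_lit 1),
    (nat_lit 115, nat_lit 0, [p0, m1, m1, p1, p0, p0, p0, p0], nat_lit 1),
    (nat_lit 116, nat_lit 0, [p0, p0, p0, m1, p1, p0, p0, p0], nat_lit 1),
    (nat_lit 117, nat_lit 0, [p0, p0, p0, p0, m1, p1, p0, p0], nat_lit 1),
    (nat_lit 118, nat_lit 0, [p0, p0, p0, p0, p0, m1, p1, p0], nat_lit 1),
    (nat_lit 119, nat_lit 0, [p0, p0, p0, p0, p0, p0, m1, p1], nat_lit 1),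
    (nat_lit 0, nat_lit 999, [p0, p0, p0, p0, p0, p0, p0, m1], nat_lit 1)]

theorem chk_w7 : chkW 8 rt [p0, p0, p0, p0, p0, p0, p0, p1] w7 = true := by decide +kernel

theorem enum_w7 : enum (fun I n => n.beq 0 || ((fun n => 2 * n + 1) n).ble (cnt I w7)) rt 0 0 0 = true := by
  decide +kernel

end Cfsg.Agent.TwoF.DC.TE.E8
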