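import Cfsg.Agent.TwoF.DC.TE.F6
import Cfsg.Agent.TwoF.DC.TE.F78
import Cfsg.Agent.TwoF.DC.Fin.Defs

/-!
# TwoF, defining characteristic, exceptional types (6): the statements `Tws.Comb` (helper37)
-/

set_option autoImplicit false
set_option linter.unusedSectionVars false
set_option linter.unusedVariables false

namespace Cfsg.Agent.TwoF.DC.TE

open Module

variable {Φ : Type} [Fintype Φ] [DecidableEq Φ] {p : ℕ} [Fact p.Prime] {k : Type} [Field k] [CharP k p]
  [Infinite k] {G : Type} [Group G]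

/-- `Comb` for a type without graph automorphisms all of whose modules are large -/
theorem comb_of_big {ι : Type} [Fintype ι] [DecidableEq ι] {D : RDat p ι Φ k G} (M : Tws D) (i : ι)
    (hG : ∀ γ : M.Gr, γ = 1) (hF : Faith D.R p k fun _ => True)
    (hB : Big D.R p k) : M.Comb fun _ => True where
  ex := ex_true i
  ok_gr := fun _ _ _ => trivial
  faith := hF
  ct := fun F _ _ _ S hS hA hI h => by
    obtain ⟨j⟩ := F.neJ
    have h1 := one_le_val F S j
    have h2 := hB _ (F.H j) S hS hA hI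
    omega
  bg := fun γ h => absurd (hG γ) h
  ctg := fun γ h => absurd (hG γ) h
  ctf := fun _ => ctf_of _ _ _ fun L _ _ H => ⟨by
      obtain ⟨θ, h1, h2⟩ := exists_top D.R p i
      have h3 := hB L H {θ} (Finset.singleton_nonempty θ) h1 h2
      have h4 := H.cL_lt_d {θ}
      rw [Finset.card_singleton] at h3
      omega, fun S hS hA hI => by have := hB L H S hS hA hI; omega⟩
  eight := fun ⟨γ, γ', h⟩ => absurd (by rw [hG γ]; exact Commute.one_left _) h

/-- `Comb` for `E6` and `2E6` -/
theorem comb_E6 {D : RDat p (Fin 6) Φ k G} (M : Tws D) (hC : ∀ i j, D.R.C i j = CartanMatrix.E₆ i j)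
    (hG : ∀ γ : M.Gr, γ ≠ 1 → ∀ i, M.gι γ i = E6.nd i) : M.Comb fun _ => True where
  ex := ex_true 0
  ok_gr := fun _ _ _ => trivial
  faith := (E6.tb hC).faith (E6.conn hC)
  ct := fun F _ _ _ S hS hA hI h => by
    have h1 : ∀ j, (F.H j).lam = Pi.single 0 1 ∨ (F.H j).lam = Pi.single 5 1 := fun j => by
      rcases E6.cls hC (F.H j) with h1 | h1 | h1
      · exact Or.inl h1
      · exact Or.inr h1
      · have h2 := one_le_val F S j
        have h3 := h1 S hS hA hI
        omega
    have h2 : Fintype.card F.J = 1 := by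
      have h3 : ∑ _j : F.J, 2 * (S.card + 1) ≤ ∑ j, 2 * (F.H j).cL S := Finset.sum_le_sum fun j _ => by
        have := E6.lt_cL hC (F.H j) S hS hA hI
        omega
      have h4 := two_cL_le_val F S
      have h5 := Fintype.card_pos (α := F.J)
      rw [Finset.sum_const, Finset.card_univ, smul_eq_mul] at h3
      nlinarith
    have h3 : ∀ j, F.dbl j = false := fun j => by
      by_contra h3
      have h4 := le_trans (Finset.single_le_sum (f := fun j => if F.dbl j then
        (F.H j).cL S * (2 * (F.H j).d - (F.H j).cL S) else 2 * (F.H j).cL S) (fun _ _ => Nat.zero_le _)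
        (Finset.mem_univ j)) h
      rw [if_pos (by simpa using h3)] at h4
      have h5 := E6.lt_cL hC (F.H j) S hS hA hI
      have h6 := (F.H j).cL_lt_d S
      have h7 := Nat.mul_le_mul (show S.card + 1 ≤ (F.H j).cL S by omega)
        (show 4 ≤ 2 * (F.H j).d - (F.H j).cL S by omega)
      omega
    have h4 : M.σ = 1 := by
      by_contra h4
      obtain ⟨j⟩ := F.neJ
      have h5 := F.lam_π j
      rw [Fintype.card_le_one_iff.mp h2.le (F.π j) j] at h5
      have h6 := (E6.lg_of_inv hC _ (hG _ h4) h5.symm).1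
      rcases h1 j with h7 | h7 <;> rw [h7] at h6 <;> exact absurd h6 (by decide)
    refine Or.inl ?_
    rw [show M.gΦ M.σ = 1 by rw [h4, map_one]]
    exact good_E6 hC F h2 h3 h1
  bg := fun γ h _ _ L _ _ H hH => ⟨by have := E6.le_d hC H; omega, fun S hS hA hI => by
    have h1 := (E6.lg_of_inv hC H (hG γ h) hH).2 S hS hA hI
    have h2 := H.cL_lt_d S
    have h3 := hS.card_pos
    have h4 := Nat.mul_le_mul h1 (show 7 ≤ 2 * H.d - H.cL S by omega)
    omega⟩
  ctg := fun γ h _ _ F _ g ⟨j, hj⟩ _ O u _ _ _ _ _ S h1 hA hI h2 h3 => by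
    exfalso
    have h4 := le_trans (Finset.single_le_sum (fun _ _ => Nat.zero_le _) (Finset.mem_univ j)) h3
    rw [dif_pos hj] at h4
    have := (F.H j).fd
    obtain ⟨h5, h6⟩ := E6.lg_of_inv hC _ (hG γ h) hj
    by_cases hS : S.Nonempty
    · have h7 := h6 S hS hA hI
      have h8 := (Submodule.finrank_mono (inf_le_right (a := LinearMap.ker ((g j hj).g.toLinearMap - 1)))).trans (h2 j)
      have h9 := (F.H j).cL_add S
      omega
    · obtain ⟨B, h7, h8⟩ := E6.three hC _ h5
      have h9 := card_le_codim_fix _ (g j hj) (fun ν => 0 < ν 0 ∧ ν 5 < 0) (fun ν h9 h10 => by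
        have h11 : (M.gι γ).symm 0 = 5 := by rw [Equiv.symm_apply_eq, hG γ h]; rfl
        have h12 := h10.1
        rw [Function.comp_apply, h11] at h12
        omega) B h8
      have h10 := Submodule.finrank_mono (inf_le_left (a := LinearMap.ker ((g j hj).g.toLinearMap - 1))
        (b := ⨅ o ∈ O, LinearMap.ker ((F.H j).op (u o))))
      rw [Finset.not_nonempty_iff_eq_empty.mp hS, Finset.card_empty] at h1
      omega
  ctf := fun _ => ctf_of _ _ _ fun L _ _ H => ⟨by have := E6.le_d hC H; omega, fun S hS hA hI => by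
    have := E6.lt_cL hC H S hS hA hI
    omega⟩
  eight := fun ⟨γ, γ', h⟩ => by
    exfalso
    by_cases h1 : γ = 1
    · exact h (h1 ▸ Commute.one_left _)
    by_cases h2 : γ' = 1
    · exact h (h2 ▸ Commute.one_right _)
    exact h (M.gι_inj (Equiv.ext fun i => (hG γ h1 i).trans (hG γ' h2 i).symm) ▸ Commute.refl _)

theorem comb_E7 {D : RDat p (Fin 7) Φ k G} (M : Tws D) (hC : ∀ i j, D.R.C i j = CartanMatrix.E₇ i j)
    (hG : ∀ γ : M.Gr, γ = 1) : M.Comb fun _ => True :=
  comb_of_big M 0 hG ((E7.tb hC).faith (E7.conn hC)) (E7.big hC)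

theorem comb_E8 {D : RDat p (Fin 8) Φ k G} (M : Tws D) (hC : ∀ i j, D.R.C i j = CartanMatrix.E₈ i j)
    (hG : ∀ γ : M.Gr, γ = 1) : M.Comb fun _ => True :=
  comb_of_big M 0 hG ((E8.tb hC).faith (E8.conn hC)) (E8.big hC)

end Cfsg.Agent.TwoF.DC.TE
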