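import Cfsg.Agent.TwoF.DC.TE.Chk

/-!
# TwoF, defining characteristic, exceptional types: the tables for `E6` (generated; helper37)
-/

set_option autoImplicit false
set_option maxRecDepth 100000

namespace Cfsg.Agent.TwoF.DC.TE.E6

/-- the Cartan matrix -/
def cm : List (List ℤ) :=
  [[p2, p0, m1, p0, p0, p0],
   [p0, p2, p0, m1, p0, p0],
   [m1, p0, p2, m1, p0, p0],
   [p0, m1, m1, p2, m1, p0],
   [p0, p0, p0, m1, p2, m1],
   [p0, p0, p0, p0, m1, p2]]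

/-- the positive roots -/
def rt : List RE :=
  [
    ([p1, p2, p2, p3, p2, p1], [p0, p1, p0, p0, p0, p0], nat_lit 0, nat_lit 0),
    ([p1, p1, p2, p3, p2, p1], [p0, m1, p0, p1, p0, p0], nat_lit 1, nat_lit 0),
    ([p1, p1, p2, p2, p2, p1], [p0, p0, p1, m1, p1, p0], nat_lit 2, nat_lit 0),
    ([p1, p1, p2, p2, p1, p1], [p0, p0, p1, p0, m1, p1], nat_lit 4, nat_lit 0),
    ([p1, p1, p1, p2, p2, p1], [p1, p0, m1, p0, p1, p0], nat_lit 4, nat_lit 0),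
    ([p1, p1, p2, p2, p1, p0], [p0, p0, p1, p0, p0, m1], nat_lit 8, nat_lit 0),
    ([p1, p1, p1, p2, p1, p1], [p1, p0, m1, p1, m1, p1], nat_lit 24, nat_lit 0),
    ([p0, p1, p1, p2, p2, p1], [m1, p0, p0, p0, p1, p0], nat_lit 16, nat_lit 0),
    ([p1, p1, p1, p2, p1, p0], [p1, p0, m1, p1, p0, m1], nat_lit 96, nat_lit 0),
    ([p1, p1, p1, p1, p1, p1], [p1, p1, p0, m1, p0, p1], nat_lit 64, nat_lit 0),
    ([p0, p1, p1, p2, p1, p1], [m1, p0, p0, p1, m1, p1], nat_lit 192, nat_lit 0),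
    ([p1, p1, p1, p1, p1, p0], [p1, p1, p0, m1, p1, m1], nat_lit 768, nat_lit 1024),
    ([p1, p0, p1, p1, p1, p1], [p1, m1, p0, p0, p0, p1], nat_lit 512, nat_lit 0),
    ([p0, p1, p1, p2, p1, p0], [m1, p0, p0, p1, p0, m1], nat_lit 1280, nat_lit 4608),
    ([p0, p1, p1, p1, p1, p1], [m1, p1, p1, m1, p0, p1], nat_lit 1536, nat_lit 256),
    ([p1, p1, p1, p1, p0, p0], [p1, p1, p0, p0, m1, p0], nat_lit 2048, nat_lit 128),
    ([p1, p0, p1, p1, p1, p0], [p1, m1, p0, p0, p1, m1], nat_lit 6144, nat_lit 17408),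
    ([p0, p1, p1, p1, p1, p0], [m1, p1, p1, m1, p1, m1], nat_lit 26624, nat_lit 4160),
    ([p0, p1, p0, p1, p1, p1], [p0, p1, m1, p0, p0, p1], nat_lit 16384, nat_lit 65568),
    ([p0, p0, p1, p1, p1, p1], [m1, m1, p1, p0, p0, p1], nat_lit 20480, nat_lit 35072),
    ([p1, p0, p1, p1, p0, p0], [p1, m1, p0, p1, m1, p0], nat_lit 98304, nat_lit 278656),
    ([p0, p1, p1, p1, p0, p0], [m1, p1, p1, p0, m1, p0], nat_lit 163840, nat_lit 69648),
    ([p0, p1, p0, p1, p1, p0], [p0, p1, m1, p0, p1, m1], nat_lit 393216, nat_lit 1576968),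
    ([p0, p0, p1, p1, p1, p0], [m1, m1, p1, p0, p1, m1], nat_lit 720896, nat_lit 295488),
    ([p0, p0, p0, p1, p1, p1], [p0, m1, m1, p1, p0, p1], nat_lit 786432, nat_lit 34848),
    ([p1, p0, p1, p0, p0, p0], [p1, p0, p1, m1, p0, p0], nat_lit 1048576, nat_lit 17048704),
    ([p0, p1, p0, p1, p0, p0], [p0, p1, m1, p1, m1, p0], nat_lit 6291456, nat_lit 34148356),
    ([p0, p0, p1, p1, p0, p0], [m1, m1, p1, p1, m1, p0], nat_lit 11534336, nat_lit 264720),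
    ([p0, p0, p0, p1, p1, p0], [p0, m1, m1, p1, p1, m1], nat_lit 29360128, nat_lit 33604104),
    ([p0, p0, p0, p0, p1, p1], [p0, p0, p0, m1, p1, p1], nat_lit 16777216, nat_lit 1089824),
    ([p1, p0, p0, p0, p0, p0], [p2, p0, m1, p0, p0, p0], nat_lit 33554432, nat_lit 550016),
    ([p0, p1, p0, p0, p0, p0], [p0, p2, p0, m1, p0, p0], nat_lit 67108864, nat_lit 18419714),
    ([p0, p0, p1, p0, p0, p0], [m1, p0, p2, m1, p0, p0], nat_lit 167772160, nat_lit 1090781520),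
    ([p0, p0, p0, p1, p0, p0], [p0, m1, m1, p2, m1, p0], nat_lit 469762048, nat_lit 570444292),
    ([p0, p0, p0, p0, p1, p0], [p0, p0, p0, m1, p2, m1], nat_lit 805306368, nat_lit 1082440),
    ([p0, p0, p0, p0, p0, p1], [p0, p0, p0, p0, m1, p2], nat_lit 536870912, nat_lit 76064)]

theorem chk_rt : chkR 6 cm rt = true := by decide +kernel

/-- weights in the orbit of [p1, p0, p0, p0, p0, p0] -/
def w0 : List WE :=
  [
    (nat_lit 35, nat_lit 0, [p0, p0, p0, p0, p0, m1], nat_lit 34914195167),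
    (nat_lit 34, nat_lit 0, [p0, p0, p0, p0, m1, p1], nat_lit 76215),
    (nat_lit 33, nat_lit 0, [p0, p0, p0, m1, p1, p0], nat_lit 1090923),
    (nat_lit 31, nat_lit 0, [p0, m1, m1, p1, p0, p0], nat_lit 33606189),
    (nat_lit 32, nat_lit 2, [p0, p1, m1, p0, p0, p0], nat_lit 35196974),
    (nat_lit 30, nat_lit 0, [m1, m1, p1, p0, p0, p0], nat_lit 1074039633),
    (nat_lit 31, nat_lit 1, [p1, m1, p0, p0, p0, p0], nat_lit 287873),
    (nat_lit 30, nat_lit 0, [m1, p1, p1, m1, p0, p0], nat_lit 1091637586),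
    (nat_lit 33, nat_lit 1, [p1, p1, p0, m1, p0, p0], nat_lit 17310850),
    (nat_lit 30, nat_lit 0, [m1, p0, p0, p1, m1, p0], nat_lit 1644239380),
    (nat_lit 32, nat_lit 1, [p1, p0, m1, p1, m1, p0], nat_lit 537411716),
    (nat_lit 30, nat_lit 1, [m1, p0, p0, p0, p1, m1], nat_lit 35468120648),
    (nat_lit 34, nat_lit 2, [p0, p0, p1, p0, m1, p0], nat_lit 553910416),
    (nat_lit 32, nat_lit 1, [p1, p0, m1, p0, p1, m1], nat_lit 34360280072),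
    (nat_lit 30, nat_lit 1, [m1, p0, p0, p0, p0, p1], nat_lit 1108445472),
    (nat_lit 33, nat_lit 1, [p0, p0, p1, m1, p1, m1], nat_lit 34376778816),
    (nat_lit 32, nat_lit 1, [p1, p0, m1, p0, p0, p1], nat_lit 8224),
    (nat_lit 31, nat_lit 1, [p0, m1, p0, p1, p0, m1], nat_lit 34896888320),
    (nat_lit 33, nat_lit 1, [p0, p0, p1, m1, p0, p1], nat_lit 8448),
    (nat_lit 35, nat_lit 1, [p0, p1, p0, p0, p0, m1], nat_lit 34913914880),
    (nat_lit 31, nat_lit 0, [p0, m1, p0, p1, m1, p1], nat_lit 2048),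
    (nat_lit 34, nat_lit 1, [p0, p1, p0, p0, m1, p1], nat_lit 65536),
    (nat_lit 31, nat_lit 0, [p0, m1, p0, p0, p1, p0], nat_lit 32768),
    (nat_lit 33, nat_lit 0, [p0, p1, p0, m1, p1, p0], nat_lit 1048576),
    (nat_lit 32, nat_lit 0, [p0, p0, m1, p1, p0, p0], nat_lit 33554432),
    (nat_lit 30, nat_lit 0, [m1, p0, p1, p0, p0, p0], nat_lit 1073741824),
    (nat_lit 999, nat_lit 999, [p1, p0, p0, p0, p0, p0], nat_lit 0)]

theorem chk_w0 : chkW 6 rt [p1, p0, p0, p0, p0, p0] w0 = true := by decide +kernel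

theorem enum_w0 : enum (fun I n => n.beq 0 || ((fun n => max (n + 1) 6) n).ble (cnt I w0)) rt 0 0 0 = true := by
  decide +kernel

/-- weights in the orbit of [p0, p1, p0, p0, p0, p0] -/
def w1 : List WE :=
  [
    (nat_lit 6, nat_lit 1, [p1, p0, m1, p1, p0, m1], nat_lit 0),
    (nat_lit 28, nat_lit 3, [p0, p0, p0, p1, m2, p1], nat_lit 4),
    (nat_lit 29, nat_lit 3, [p0, p0, p0, p0, p1, m2], nat_lit 8),
    (nat_lit 33, nat_lit 3, [p0, p2, p0, m1, p0, p0], nat_lit 2),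
    (nat_lit 33, nat_lit 3, [m1, p0, p2, m1, p0, p0], nat_lit 16),
    (nat_lit 31, nat_lit 1, [p0, m1, m1, p2, m1, p0], nat_lit 4),
    (nat_lit 33, nat_lit 2, [p0, p0, p0, m1, p2, m1], nat_lit 8),
    (nat_lit 23, nat_lit 2, [p0, p1, m1, p1, m1, p0], nat_lit 4),
    (nat_lit 22, nat_lit 1, [m1, m1, p1, p1, m1, p0], nat_lit 16),
    (nat_lit 21, nat_lit 0, [p0, m1, m1, p1, p1, m1], nat_lit 8),
    (nat_lit 28, nat_lit 0, [m1, p0, p0, p1, p0, m1], nat_lit 512),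
    (nat_lit 34, nat_lit 2, [m1, p1, p1, p0, m1, p0], nat_lit 16),
    (nat_lit 32, nat_lit 1, [p0, p1, m1, p0, p1, m1], nat_lit 8),
    (nat_lit 31, nat_lit 0, [m1, m1, p1, p0, p1, m1], nat_lit 64),
    (nat_lit 17, nat_lit 5, [m1, p1, p1, m1, p1, m1], nat_lit 64),
    (nat_lit 33, nat_lit 0, [p0, m2, p0, p1, p0, p0], nat_lit 1),
    (nat_lit 34, nat_lit 0, [p0, m1, p1, m1, p1, p0], nat_lit 1),
    (nat_lit 35, nat_lit 1, [p0, m1, p1, p0, m1, p1], nat_lit 1),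
    (nat_lit 34, nat_lit 1, [p1, m1, m1, p0, p1, p0], nat_lit 1),
    (nat_lit 32, nat_lit 2, [p0, m1, p1, p0, p0, m1], nat_lit 1),
    (nat_lit 35, nat_lit 1, [p1, m1, m1, p1, m1, p1], nat_lit 1),
    (nat_lit 34, nat_lit 2, [m1, m1, p0, p0, p1, p0], nat_lit 1),
    (nat_lit 33, nat_lit 2, [p1, m1, m1, p1, p0, m1], nat_lit 1),
    (nat_lit 35, nat_lit 1, [p1, p0, p0, m1, p0, p1], nat_lit 1),
    (nat_lit 35, nat_lit 1, [m1, m1, p0, p1, m1, p1], nat_lit 1),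
    (nat_lit 34, nat_lit 2, [p1, p0, p0, m1, p1, m1], nat_lit 1),
    (nat_lit 33, nat_lit 2, [m1, m1, p0, p1, p0, m1], nat_lit 1),
    (nat_lit 35, nat_lit 1, [m1, p0, p1, m1, p0, p1], nat_lit 1),
    (nat_lit 30, nat_lit 2, [p1, p0, p0, p0, m1, p0], nat_lit 1),
    (nat_lit 34, nat_lit 1, [m1, p0, p1, m1, p1, m1], nat_lit 1),
    (nat_lit 35, nat_lit 1, [p0, p0, m1, p0, p0, p1], nat_lit 1),
    (nat_lit 32, nat_lit 1, [m1, p0, p1, p0, m1, p0], nat_lit 1),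
    (nat_lit 34, nat_lit 0, [p0, p0, m1, p0, p1, m1], nat_lit 1),
    (nat_lit 33, nat_lit 0, [p0, p0, m1, p1, m1, p0], nat_lit 1),
    (nat_lit 31, nat_lit 0, [p0, p1, p0, m1, p0, p0], nat_lit 1),
    (nat_lit 0, nat_lit 999, [p0, m1, p0, p0, p0, p0], nat_lit 1)]

theorem chk_w1 : chkW 6 rt [p0, p1, p0, p0, p0, p0] w1 = true := by decide +kernel

theorem enum_w1 : enum (fun I n => n.beq 0 || ((fun n => 2 * n + 3) n).ble (cnt I w1)) rt 0 0 0 = true := by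
  decide +kernel

/-- weights in the orbit of [p0, p0, p1, p0, p0, p0] -/
def w2 : List WE :=
  [
    (nat_lit 28, nat_lit 0, [p1, p0, m1, m1, p2, m1], nat_lit 1),
    (nat_lit 33, nat_lit 11, [p1, p1, p0, m2, p1, p0], nat_lit 1),
    (nat_lit 34, nat_lit 1, [p0, m2, m1, p1, p1, p0], nat_lit 1),
    (nat_lit 35, nat_lit 1, [p2, m1, m1, p0, p0, p1], nat_lit 1),
    (nat_lit 35, nat_lit 2, [p0, m2, m1, p2, m1, p1], nat_lit 1),
    (nat_lit 34, nat_lit 2, [p2, m1, m1, p0, p1, m1], nat_lit 1),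
    (nat_lit 1, nat_lit 0, [p0, m1, m1, p1, p0, m1], nat_lit 1),
    (nat_lit 27, nat_lit 4, [p0, m2, m1, p2, p0, m1], nat_lit 1),
    (nat_lit 25, nat_lit 4, [p2, m1, m1, p1, m1, p0], nat_lit 1),
    (nat_lit 4, nat_lit 0, [p0, m1, m1, p1, m1, p1], nat_lit 1),
    (nat_lit 6, nat_lit 0, [p1, m1, m2, p1, p0, p1], nat_lit 1),
    (nat_lit 8, nat_lit 0, [p0, m1, m1, p0, p1, p0], nat_lit 1),
    (nat_lit 34, nat_lit 0, [p1, m1, m2, p1, p1, m1], nat_lit 1),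
    (nat_lit 32, nat_lit 15, [p1, m1, m2, p2, m1, p0], nat_lit 1),
    (nat_lit 34, nat_lit 0, [p1, m2, p0, p0, p1, p0], nat_lit 1),
    (nat_lit 35, nat_lit 1, [p1, m2, p0, p1, m1, p1], nat_lit 1),
    (nat_lit 34, nat_lit 2, [m1, m2, p1, p0, p1, p0], nat_lit 1),
    (nat_lit 33, nat_lit 2, [p1, m2, p0, p1, p0, m1], nat_lit 1),
    (nat_lit 35, nat_lit 1, [p1, m1, p1, m1, p0, p1], nat_lit 1),
    (nat_lit 35, nat_lit 2, [m1, m2, p1, p1, m1, p1], nat_lit 1),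
    (nat_lit 34, nat_lit 3, [p1, m1, p1, m1, p1, m1], nat_lit 1),
    (nat_lit 1, nat_lit 0, [m1, m1, p1, p0, p0, m1], nat_lit 1),
    (nat_lit 33, nat_lit 3, [m1, m2, p1, p1, p0, m1], nat_lit 1),
    (nat_lit 2, nat_lit 1, [m1, m1, p2, m1, p0, p1], nat_lit 1),
    (nat_lit 3, nat_lit 2, [p1, m1, p1, p0, m1, p0], nat_lit 1),
    (nat_lit 34, nat_lit 2, [m1, m1, p1, p0, m1, p1], nat_lit 1),
    (nat_lit 5, nat_lit 1, [m1, m1, p2, m1, p1, m1], nat_lit 1),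
    (nat_lit 35, nat_lit 2, [p1, m1, p0, p0, p0, m1], nat_lit 1),
    (nat_lit 33, nat_lit 2, [m1, m1, p1, m1, p1, p0], nat_lit 1),
    (nat_lit 21, nat_lit 4, [m1, m1, p2, p0, m1, p0], nat_lit 1),
    (nat_lit 34, nat_lit 1, [p1, m1, p0, p0, m1, p1], nat_lit 1),
    (nat_lit 30, nat_lit 1, [m1, m2, p0, p1, p0, p0], nat_lit 1),
    (nat_lit 33, nat_lit 0, [p1, m1, p0, m1, p1, p0], nat_lit 1),
    (nat_lit 32, nat_lit 0, [p1, m2, m1, p1, p0, p0], nat_lit 1),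
    (nat_lit 0, nat_lit 999, [p0, m2, p1, p0, p0, p0], nat_lit 1)]

theorem chk_w2 : chkW 6 rt [p0, p0, p1, p0, p0, p0] w2 = true := by decide +kernel

theorem enum_w2 : enum (fun I n => n.beq 0 || ((fun n => 2 * n + 3) n).ble (cnt I w2)) rt 0 0 0 = true := by
  decide +kernel

/-- weights in the orbit of [p0, p0, p0, p1, p0, p0] -/
def w3 : List WE :=
  [
    (nat_lit 33, nat_lit 17, [m1, m1, p2, m2, p2, m1], nat_lit 1),
    (nat_lit 35, nat_lit 2, [p0, p0, m1, m1, p1, p2], nat_lit 1),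
    (nat_lit 35, nat_lit 2, [p1, m1, p0, m1, p1, m1], nat_lit 1),
    (nat_lit 27, nat_lit 2, [m2, p0, p3, m1, m1, p0], nat_lit 1),
    (nat_lit 28, nat_lit 1, [p0, p0, m1, m1, p3, m2], nat_lit 1),
    (nat_lit 33, nat_lit 22, [p1, m1, p0, m1, p0, p1], nat_lit 1),
    (nat_lit 33, nat_lit 23, [p0, p2, p1, m3, p1, p0], nat_lit 1),
    (nat_lit 34, nat_lit 0, [p0, m3, p1, p0, p1, p0], nat_lit 1),
    (nat_lit 35, nat_lit 1, [p0, m3, p1, p1, m1, p1], nat_lit 1),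
    (nat_lit 34, nat_lit 1, [p1, m3, m1, p1, p1, p0], nat_lit 1),
    (nat_lit 32, nat_lit 2, [p0, m3, p1, p1, p0, m1], nat_lit 1),
    (nat_lit 35, nat_lit 1, [p1, m3, m1, p2, m1, p1], nat_lit 1),
    (nat_lit 34, nat_lit 2, [m1, m3, p0, p1, p1, p0], nat_lit 1),
    (nat_lit 30, nat_lit 4, [p1, m3, m1, p2, p0, m1], nat_lit 1),
    (nat_lit 35, nat_lit 1, [p2, m1, p0, m1, p0, p2], nat_lit 1),
    (nat_lit 35, nat_lit 2, [m1, m3, p0, p2, m1, p1], nat_lit 1),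
    (nat_lit 34, nat_lit 3, [p2, m1, p0, m1, p2, m2], nat_lit 1),
    (nat_lit 1, nat_lit 0, [m1, m2, p0, p1, p0, m1], nat_lit 1),
    (nat_lit 13, nat_lit 15, [m1, m3, p0, p2, p0, m1], nat_lit 1),
    (nat_lit 35, nat_lit 2, [m2, m1, p2, m1, p0, p2], nat_lit 1),
    (nat_lit 30, nat_lit 5, [p2, m1, p0, p1, m2, p0], nat_lit 1),
    (nat_lit 34, nat_lit 3, [m1, m2, p0, p1, m1, p1], nat_lit 1),
    (nat_lit 34, nat_lit 3, [m2, m1, p2, m1, p2, m2], nat_lit 1),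
    (nat_lit 35, nat_lit 3, [p0, m1, m2, p1, p0, p2], nat_lit 1),
    (nat_lit 35, nat_lit 3, [p1, m2, m1, p1, p0, m1], nat_lit 1),
    (nat_lit 30, nat_lit 5, [m1, m2, p0, p0, p1, p0], nat_lit 1),
    (nat_lit 32, nat_lit 3, [m2, m1, p2, p1, m2, p0], nat_lit 1),
    (nat_lit 34, nat_lit 2, [p0, m1, m2, p1, p2, m2], nat_lit 1),
    (nat_lit 34, nat_lit 2, [p1, m2, m1, p1, m1, p1], nat_lit 1),
    (nat_lit 35, nat_lit 2, [p0, m2, p1, p0, p0, m1], nat_lit 1),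
    (nat_lit 26, nat_lit 3, [p0, m1, m2, p3, m2, p0], nat_lit 1),
    (nat_lit 32, nat_lit 1, [p1, m2, m1, p0, p1, p0], nat_lit 1),
    (nat_lit 34, nat_lit 0, [p0, m2, p1, p0, m1, p1], nat_lit 1),
    (nat_lit 33, nat_lit 0, [p0, m2, p1, m1, p1, p0], nat_lit 1),
    (nat_lit 0, nat_lit 999, [p0, m3, p0, p1, p0, p0], nat_lit 1)]

theorem chk_w3 : chkW 6 rt [p0, p0, p0, p1, p0, p0] w3 = true := by decide +kernel

theorem enum_w3 : enum (fun I n => n.beq 0 || ((fun n => 2 * n + 3) n).ble (cnt I w3)) rt 0 0 0 = true := by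
  decide +kernel

/-- weights in the orbit of [p0, p0, p0, p0, p1, p0] -/
def w4 : List WE :=
  [
    (nat_lit 34, nat_lit 0, [p0, m1, m1, p1, p1, m2], nat_lit 1),
    (nat_lit 12, nat_lit 1, [p0, m1, m1, p2, m1, m1], nat_lit 1),
    (nat_lit 32, nat_lit 0, [p0, m2, p1, p1, m1, p0], nat_lit 1),
    (nat_lit 30, nat_lit 2, [p1, m2, m1, p2, m1, p0], nat_lit 1),
    (nat_lit 30, nat_lit 2, [p1, m1, p0, p0, m1, p2], nat_lit 1),
    (nat_lit 1, nat_lit 0, [m1, m1, p0, p1, m1, p0], nat_lit 1),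
    (nat_lit 28, nat_lit 4, [m1, m2, p0, p2, m1, p0], nat_lit 1),
    (nat_lit 32, nat_lit 1, [m1, m1, p1, p0, m1, p2], nat_lit 1),
    (nat_lit 3, nat_lit 1, [p1, m1, p0, p1, m2, p1], nat_lit 1),
    (nat_lit 29, nat_lit 3, [p0, m1, m1, p1, m1, p2], nat_lit 1),
    (nat_lit 32, nat_lit 1, [p1, m1, m1, p1, m1, p0], nat_lit 1),
    (nat_lit 10, nat_lit 0, [m1, m1, p1, p1, m2, p1], nat_lit 1),
    (nat_lit 34, nat_lit 17, [p0, m1, p1, p0, m1, p0], nat_lit 1),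
    (nat_lit 34, nat_lit 14, [p0, m1, m1, p2, m2, p1], nat_lit 1),
    (nat_lit 35, nat_lit 0, [p0, m2, p1, p0, p0, p1], nat_lit 1),
    (nat_lit 32, nat_lit 1, [p0, m2, p1, p0, p1, m1], nat_lit 1),
    (nat_lit 35, nat_lit 0, [p1, m2, m1, p1, p0, p1], nat_lit 1),
    (nat_lit 33, nat_lit 2, [p1, m2, m1, p1, p1, m1], nat_lit 1),
    (nat_lit 35, nat_lit 1, [p1, m1, p0, m1, p1, p1], nat_lit 1),
    (nat_lit 35, nat_lit 2, [m1, m2, p0, p1, p0, p1], nat_lit 1),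
    (nat_lit 30, nat_lit 4, [p1, m1, p0, m1, p2, m1], nat_lit 1),
    (nat_lit 1, nat_lit 0, [m1, m1, p0, p0, p1, m1], nat_lit 1),
    (nat_lit 33, nat_lit 2, [m1, m2, p0, p1, p1, m1], nat_lit 1),
    (nat_lit 2, nat_lit 0, [m1, m1, p1, m1, p1, p1], nat_lit 1),
    (nat_lit 4, nat_lit 1, [m1, m1, p0, p0, p0, p1], nat_lit 1),
    (nat_lit 32, nat_lit 2, [m1, m1, p1, m1, p2, m1], nat_lit 1),
    (nat_lit 35, nat_lit 1, [p0, m1, m1, p0, p1, p1], nat_lit 1),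
    (nat_lit 7, nat_lit 0, [p1, m1, m1, p0, p1, m1], nat_lit 1),
    (nat_lit 22, nat_lit 5, [p0, m1, m1, p0, p2, m1], nat_lit 1),
    (nat_lit 32, nat_lit 1, [p1, m1, m1, p0, p0, p1], nat_lit 1),
    (nat_lit 35, nat_lit 0, [p0, m1, p1, m1, p1, m1], nat_lit 1),
    (nat_lit 33, nat_lit 1, [p0, m1, p1, m1, p0, p1], nat_lit 1),
    (nat_lit 35, nat_lit 0, [p0, m2, p0, p1, p0, m1], nat_lit 1),
    (nat_lit 34, nat_lit 0, [p0, m2, p0, p1, m1, p1], nat_lit 1),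
    (nat_lit 0, nat_lit 999, [p0, m2, p0, p0, p1, p0], nat_lit 1)]

theorem chk_w4 : chkW 6 rt [p0, p0, p0, p0, p1, p0] w4 = true := by decide +kernel

theorem enum_w4 : enum (fun I n => n.beq 0 || ((fun n => 2 * n + 3) n).ble (cnt I w4)) rt 0 0 0 = true := by
  decide +kernel

/-- weights in the orbit of [p0, p0, p0, p0, p0, p1] -/
def w5 : List WE :=
  [
    (nat_lit 30, nat_lit 0, [m1, p0, p0, p0, p0, p0], nat_lit 1108450175),
    (nat_lit 32, nat_lit 0, [p1, p0, m1, p0, p0, p0], nat_lit 550063),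
    (nat_lit 33, nat_lit 0, [p0, p0, p1, m1, p0, p0], nat_lit 17049043),
    (nat_lit 31, nat_lit 0, [p0, m1, p0, p1, m1, p0], nat_lit 537152149),
    (nat_lit 34, nat_lit 1, [p0, p1, p0, p0, m1, p0], nat_lit 554242198),
    (nat_lit 31, nat_lit 0, [p0, m1, p0, p0, p1, m1], nat_lit 34360051273),
    (nat_lit 33, nat_lit 1, [p0, p1, p0, m1, p1, m1], nat_lit 34378093642),
    (nat_lit 31, nat_lit 1, [p0, m1, p0, p0, p0, p1], nat_lit 43297),
    (nat_lit 32, nat_lit 1, [p0, p0, m1, p1, p0, m1], nat_lit 34930709004),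
    (nat_lit 33, nat_lit 1, [p0, p1, p0, m1, p0, p1], nat_lit 1122594),
    (nat_lit 30, nat_lit 1, [m1, p0, p1, p0, p0, m1], nat_lit 35987395152),
    (nat_lit 32, nat_lit 1, [p0, p0, m1, p1, m1, p1], nat_lit 33622052),
    (nat_lit 35, nat_lit 2, [p1, p0, p0, p0, p0, m1], nat_lit 34914190464),
    (nat_lit 30, nat_lit 1, [m1, p0, p1, p0, m1, p1], nat_lit 1073809680),
    (nat_lit 32, nat_lit 1, [p0, p0, m1, p0, p1, p0], nat_lit 34635816),
    (nat_lit 34, nat_lit 1, [p1, p0, p0, p0, m1, p1], nat_lit 8320),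
    (nat_lit 30, nat_lit 0, [m1, p0, p1, m1, p1, p0], nat_lit 1074823488),
    (nat_lit 33, nat_lit 2, [p1, p0, p0, m1, p1, p0], nat_lit 9216),
    (nat_lit 31, nat_lit 0, [m1, m1, p0, p1, p0, p0], nat_lit 1107331584),
    (nat_lit 30, nat_lit 1, [m1, p1, p0, p0, p0, p0], nat_lit 1108414464),
    (nat_lit 31, nat_lit 0, [p1, m1, m1, p1, p0, p0], nat_lit 16384),
    (nat_lit 32, nat_lit 1, [p1, p1, m1, p0, p0, p0], nat_lit 524288),
    (nat_lit 31, nat_lit 0, [p0, m1, p1, p0, p0, p0], nat_lit 262144),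
    (nat_lit 33, nat_lit 0, [p0, p1, p1, m1, p0, p0], nat_lit 16777216),
    (nat_lit 34, nat_lit 0, [p0, p0, p0, p1, m1, p0], nat_lit 536870912),
    (nat_lit 35, nat_lit 0, [p0, p0, p0, p0, p1, m1], nat_lit 34359738368),
    (nat_lit 999, nat_lit 999, [p0, p0, p0, p0, p0, p1], nat_lit 0)]

theorem chk_w5 : chkW 6 rt [p0, p0, p0, p0, p0, p1] w5 = true := by decide +kernel

theorem enum_w5 : enum (fun I n => n.beq 0 || ((fun n => max (n + 1) 6) n).ble (cnt I w5)) rt 0 0 0 = true := by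
  decide +kernel

/-- weights in the orbit of [p1, p0, p0, p0, p0, p1] -/
def w05 : List WE :=
  [
    (nat_lit 33, nat_lit 0, [m2, m2, p1, p1, p0, p0], nat_lit 1),
    (nat_lit 34, nat_lit 2, [m2, m1, p2, m1, p1, p0], nat_lit 1),
    (nat_lit 16, nat_lit 15, [m1, m1, p0, p0, p0, p2], nat_lit 1),
    (nat_lit 23, nat_lit 4, [p1, p0, m1, p0, p0, m1], nat_lit 1),
    (nat_lit 10, nat_lit 0, [m2, m1, p2, p0, m1, p1], nat_lit 1),
    (nat_lit 33, nat_lit 0, [m1, m1, p2, m1, p0, p0], nat_lit 1),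
    (nat_lit 34, nat_lit 9, [m1, m2, p1, p1, m1, p0], nat_lit 1),
    (nat_lit 29, nat_lit 1, [p0, m2, p0, p0, p2, m1], nat_lit 1),
    (nat_lit 1, nat_lit 0, [p0, m1, p0, p0, p1, m2], nat_lit 1),
    (nat_lit 33, nat_lit 2, [p0, m2, p0, p1, p1, m2], nat_lit 1),
    (nat_lit 19, nat_lit 6, [p2, m1, p0, p0, p0, m1], nat_lit 1),
    (nat_lit 35, nat_lit 10, [m1, p0, p0, p0, m1, p1], nat_lit 1),
    (nat_lit 5, nat_lit 0, [p0, m1, p1, m1, p2, m2], nat_lit 1),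
    (nat_lit 8, nat_lit 0, [p0, m1, p0, m1, p2, m1], nat_lit 1),
    (nat_lit 11, nat_lit 0, [p1, m1, m1, p0, p2, m2], nat_lit 1),
    (nat_lit 32, nat_lit 0, [p0, m2, m1, p1, p1, m1], nat_lit 1),
    (nat_lit 35, nat_lit 15, [m1, m2, p1, p0, p1, m1], nat_lit 1),
    (nat_lit 32, nat_lit 1, [p1, m2, p1, p0, p0, p0], nat_lit 1),
    (nat_lit 34, nat_lit 1, [p0, m2, p0, p0, p1, p1], nat_lit 1),
    (nat_lit 33, nat_lit 1, [p2, m2, m1, p1, p0, p0], nat_lit 1),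
    (nat_lit 33, nat_lit 2, [p0, m2, p0, p1, m1, p2], nat_lit 1),
    (nat_lit 34, nat_lit 2, [p2, m1, p0, m1, p1, p0], nat_lit 1),
    (nat_lit 12, nat_lit 11, [m1, p0, p0, p0, p0, m1], nat_lit 1),
    (nat_lit 2, nat_lit 1, [p0, m1, p1, m1, p0, p2], nat_lit 1),
    (nat_lit 3, nat_lit 2, [p2, m1, p0, p0, m1, p1], nat_lit 1),
    (nat_lit 4, nat_lit 0, [p0, m1, p0, p0, m1, p2], nat_lit 1),
    (nat_lit 6, nat_lit 1, [p1, m1, m1, p0, p0, p2], nat_lit 1),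
    (nat_lit 32, nat_lit 1, [p2, m1, m1, p0, p0, p0], nat_lit 1),
    (nat_lit 33, nat_lit 1, [p0, m1, p0, m1, p1, p1], nat_lit 1),
    (nat_lit 33, nat_lit 1, [p1, m1, p1, m1, p0, p0], nat_lit 1),
    (nat_lit 32, nat_lit 1, [p0, m2, m1, p1, p0, p1], nat_lit 1),
    (nat_lit 34, nat_lit 1, [p1, m2, p0, p1, m1, p0], nat_lit 1),
    (nat_lit 30, nat_lit 1, [m1, m2, p1, p0, p0, p1], nat_lit 1),
    (nat_lit 35, nat_lit 0, [p1, m2, p0, p0, p1, m1], nat_lit 1),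
    (nat_lit 0, nat_lit 999, [p1, m2, p0, p0, p0, p1], nat_lit 1)]

theorem chk_w05 : chkW 6 rt [p1, p0, p0, p0, p0, p1] w05 = true := by decide +kernel

theorem enum_w05 : enum (fun I n => n.beq 0 || ((fun n => 2 * n + 3) n).ble (cnt I w05)) rt 0 0 0 = true := by
  decide +kernel

end Cfsg.Agent.TwoF.DC.TE.E6
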