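import Cfsg.Agent.TwoF.DC.TE.Cmb
import Cfsg.Agent.TwoF.DC.TE.T6

/-!
# TwoF, defining characteristic, exceptional types (4): the modules of `E6` (helper37)
-/

set_option autoImplicit false
set_option linter.unusedSectionVars false
set_option linter.unusedVariables false

namespace Cfsg.Agent.TwoF.DC.TE

open Module

namespace E6

/-- the graph automorphism on the nodes -/
def nd : Fin 6 → Fin 6 := ![5, 1, 4, 3, 2, 0]

theorem cl_w0 : chkCl 6 cm [p1, p0, p0, p0, p0, p0] w0 [p4, p3, p5, p6, p4, p2] p6 = true := by decide +kernel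
theorem cl_w5 : chkCl 6 cm [p0, p0, p0, p0, p0, p1] w5 [p4, p3, p5, p6, p4, p2] p6 = true := by decide +kernel
theorem len_w0 : w0.length = 27 := by decide +kernel
theorem len_w5 : w5.length = 27 := by decide +kernel
theorem ends : rt.all (fun e => !isNeg (1 - gz e.1 0) && !isNeg (1 - gz e.1 5)) = true := by decide +kernel
theorem rad : (rt.filter fun e => isNeg (-gz e.1 0)).length = 16 := by decide +kernel

/-- positive at the first node, negative at the last node -/
def pn (e : WE) : Bool := isNeg (-gz e.2.2.1 0) && isNeg (gz e.2.2.1 5)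

theorem pn_w : 3 ≤ (w1.filter pn).length ∧ 3 ≤ (w2.filter pn).length ∧ 3 ≤ (w3.filter pn).length ∧
    3 ≤ (w4.filter pn).length ∧ 3 ≤ (w05.filter pn).length := by decide +kernel

variable {Φ : Type} [Fintype Φ] [DecidableEq Φ] {p : ℕ} [Fact p.Prime] {k : Type} [Field k] [CharP k p]
  {R : RC (Fin 6) Φ} (hC : ∀ i j, R.C i j = CartanMatrix.E₆ i j)
include hC

theorem tb : Tb R cm rt where
  hC := fun i j => by rw [hC]; fin_cases i <;> fin_cases j <;> rfl
  sym := fun i j => by rw [hC, hC]; fin_cases i <;> fin_cases j <;> rfl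
  chk := chk_rt

theorem conn : R.Conn :=
  conn_of_par (tb hC).sym 0 ![0, 3, 1, 2, 3, 4] fun i => by
    simp only [(tb hC).hC]; revert i; decide +kernel

theorem cf_le (b : Φ) : R.cf b 0 ≤ 1 ∧ R.cf b 5 ≤ 1 := by
  obtain ⟨e, h1, h2⟩ := (tb hC).all_rt ends b
  rw [Bool.and_eq_true, Bool.not_eq_true', Bool.not_eq_true', ← Bool.not_eq_true, ← Bool.not_eq_true, isNeg_iff,
    isNeg_iff] at h1
  have h3 : gz e.1 0 = R.cf b 0 := (congrFun h2 0).trans (R.vec_true b 0)
  have h4 : gz e.1 5 = R.cf b 5 := (congrFun h2 5).trans (R.vec_true b 5)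
  omega

variable {L : Type} [AddCommGroup L] [Module k L] (H : HW R p k L)

theorem pair_lz (b : Φ) : R.pair H.lz (true, b) = ∑ i, (R.cf b i : ℤ) * H.lam i := by
  rw [RC.pair, cov_eq (tb hC).sym]
  exact Finset.sum_congr rfl fun i _ => by rw [R.vec_true]; rfl

/-- a multiple of a minuscule weight -/
theorem mult {j j' : Fin 6} (hj : (j = 0 ∧ j' = 2) ∨ (j = 5 ∧ j' = 4)) (h1 : ∀ i, i ≠ j → H.lam i = 0) (h2 : 2 ≤ H.lam j)
    {W : List WE} (hW : chkW 6 rt (uv 6 j') W = true) {bd : ℕ → ℕ}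
    (hP : enum (fun I n => n.beq 0 || (bd n).ble (cnt I W)) rt 0 0 0 = true) {S : Finset Φ} (hS : S.Nonempty)
    (hA : R.Ab p S) (hI : R.Idl p S) : bd S.card ≤ H.cL S := by
  obtain ⟨A, h3, h4⟩ := (tb hC).count (Fact.out : p.Prime).ne_one (length_uv 6 j') hW hP hS hA hI
  rw [tv_uv] at h4
  refine h3.trans (card_le_cL_wt H (M := H.lam j) (fun b => ?_) (by exact_mod_cast H.lam_lt j) S (HW.dom_single j')
    (μ' := ((H.lam j : ℤ) - 2) • Pi.single j 1) (fun i => ?_) ?_ A h4)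
  · rw [pair_lz hC, Finset.sum_eq_single j (fun i _ hi => by rw [h1 i hi]; simp) (by simp)]
    have h5 := cf_le hC b
    have h6 : (R.cf b j : ℤ) ≤ 1 := by rcases hj with ⟨rfl, _⟩ | ⟨rfl, _⟩ <;> omega
    nlinarith
  · exact mul_nonneg (by omega) (HW.dom_single j i)
  · have h5 := ((tb hC).x H).isWt_sub H.ext_lz (x := (true, R.zi j)) (by rw [R.pair_zi, H.lz_apply]; omega)
    convert h5 using 1
    funext i
    rw [Pi.sub_apply, R.wt_zi, hC, H.lz_apply]
    rcases hj with ⟨rfl, rfl⟩ | ⟨rfl, rfl⟩ <;> fin_cases i <;>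
      simp [h1, CartanMatrix.E₆]

/-- large modules -/
def Lg (H : HW R p k L) : Prop := ∀ S : Finset Φ, S.Nonempty → R.Ab p S → R.Idl p S → 2 * S.card + 3 ≤ H.cL S

theorem dom05 : Dom (tv 6 [p1, p0, p0, p0, p0, p1]) := by unfold Dom; decide

theorem le05 (h0 : H.lam 0 ≠ 0) (h5 : H.lam 5 ≠ 0) (i : Fin 6) : tv 6 [p1, p0, p0, p0, p0, p1] i ≤ H.lam i := by
  fin_cases i
  · change (1 : ℤ) ≤ H.lam 0; omega
  · exact Int.natCast_nonneg _
  · exact Int.natCast_nonneg _
  · exact Int.natCast_nonneg _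
  · exact Int.natCast_nonneg _
  · change (1 : ℤ) ≤ H.lam 5; omega

theorem cls : H.lam = Pi.single 0 1 ∨ H.lam = Pi.single 5 1 ∨ Lg H := by
  by_cases h1 : H.lam 1 = 0
  swap
  · exact Or.inr (Or.inr fun S hS hA hI => (tb hC).le_cL_single H 1 h1 chk_w1 enum_w1 hS hA hI)
  by_cases h2 : H.lam 2 = 0
  swap
  · exact Or.inr (Or.inr fun S hS hA hI => (tb hC).le_cL_single H 2 h2 chk_w2 enum_w2 hS hA hI)
  by_cases h3 : H.lam 3 = 0
  swap
  · exact Or.inr (Or.inr fun S hS hA hI => (tb hC).le_cL_single H 3 h3 chk_w3 enum_w3 hS hA hI)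
  by_cases h4 : H.lam 4 = 0
  swap
  · exact Or.inr (Or.inr fun S hS hA hI => (tb hC).le_cL_single H 4 h4 chk_w4 enum_w4 hS hA hI)
  by_cases h0 : H.lam 0 = 0
  · have h6 : ∀ i, i ≠ 5 → H.lam i = 0 := fun i hi => by fin_cases i <;> first | assumption | exact absurd rfl hi
    rcases Nat.lt_or_ge (H.lam 5) 2 with h5 | h5
    · obtain ⟨i, hi⟩ := H.exists_lam_pos
      have h7 : i = 5 := by by_contra h7; rw [h6 i h7] at hi; omega
      rw [h7] at hi
      refine Or.inr (Or.inl (funext fun i => ?_))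
      by_cases h8 : i = 5
      · rw [h8, Pi.single_eq_same]; omega
      · rw [h6 i h8, Pi.single_eq_of_ne h8]
    · exact Or.inr (Or.inr fun S hS hA hI => mult hC H (Or.inr ⟨rfl, rfl⟩) h6 h5 chk_w4 enum_w4 hS hA hI)
  by_cases h5 : H.lam 5 = 0
  · have h6 : ∀ i, i ≠ 0 → H.lam i = 0 := fun i hi => by fin_cases i <;> first | assumption | exact absurd rfl hi
    rcases Nat.lt_or_ge (H.lam 0) 2 with h7 | h7
    · refine Or.inl (funext fun i => ?_)
      by_cases h8 : i = 0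
      · rw [h8, Pi.single_eq_same]; omega
      · rw [h6 i h8, Pi.single_eq_of_ne h8]
    · exact Or.inr (Or.inr fun S hS hA hI => mult hC H (Or.inl ⟨rfl, rfl⟩) h6 h7 chk_w2 enum_w2 hS hA hI)
  · exact Or.inr (Or.inr fun S hS hA hI =>
      (tb hC).le_cL H rfl (dom05 hC) (le05 hC H h0 h5) chk_w05 enum_w05 hS hA hI)

/-- the bound for all modules -/
theorem lt_cL (S : Finset Φ) (hS : S.Nonempty) (hA : R.Ab p S) (hI : R.Idl p S) : max (S.card + 1) 5 ≤ H.cL S := by
  have h0 := hS.card_pos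
  rcases cls hC H with h | h | h
  · have := (tb hC).le_cL_single H 0 (by rw [h]; simp) chk_w0 enum_w0 hS hA hI
    omega
  · have := (tb hC).le_cL_single H 5 (by rw [h]; simp) chk_w5 enum_w5 hS hA hI
    omega
  · have := h S hS hA hI
    omega

theorem le_d : 6 ≤ H.d := by
  obtain ⟨θ, h1, h2⟩ := exists_top R p 0
  have h3 := lt_cL hC H {θ} (Finset.singleton_nonempty θ) h1 h2
  have h4 := H.cL_lt_d {θ}
  omega

theorem lg_of_inv {γ : Equiv.Perm (Fin 6)} (hγ : ∀ i, γ i = nd i) (h : H.lam ∘ γ.symm = H.lam) :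
    H.lam 0 = H.lam 5 ∧ Lg H := by
  have h1 : H.lam 0 = H.lam 5 := by
    have h2 := congrFun h (γ 0)
    rw [Function.comp_apply, Equiv.symm_apply_apply, hγ] at h2
    exact h2
  refine ⟨h1, ?_⟩
  rcases cls hC H with h2 | h2 | h2
  · rw [h2] at h1; exact absurd h1 (by decide)
  · rw [h2] at h1; exact absurd h1 (by decide)
  · exact h2

/-- the minuscule modules -/
theorem min27 (h : H.lam = Pi.single 0 1 ∨ H.lam = Pi.single 5 1) : H.d ≤ 27 ∧ ∀ μ, H.IsWt μ → H.dep μ 0 < 3 := by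
  have hm : H.Min := fun b => by
    have h1 := cf_le hC b
    rw [pair_lz hC]
    rcases h with h | h <;> rw [h] <;> simp [Pi.single_apply] <;> omega
  have key : H.d ≤ 27 ∧ ∀ ν, H.IsWt ν →
      hd (tv 6 [p4, p3, p5, p6, p4, p2]) H.lz - hd (tv 6 [p4, p3, p5, p6, p4, p2]) ν ≤ p6 := by
    rcases h with h | h
    · exact len_w0 ▸ (tb hC).minus H hm rfl (by funext i; rw [H.lz_apply, h]; revert i; decide) chk_w0 cl_w0
    · exact len_w5 ▸ (tb hC).minus H hm rfl (by funext i; rw [H.lz_apply, h]; revert i; decide) chk_w5 cl_w5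
  refine ⟨key.1, fun μ hμ => ?_⟩
  have h1 := key.2 μ hμ
  have h2 : H.lz - μ = R.toWt (H.dep μ) := by
    conv_lhs => rw [H.dep_spec hμ]
    rw [sub_sub_cancel]
  rw [← hd_sub, h2] at h1
  have h3 : ∀ c, hd (tv 6 [p4, p3, p5, p6, p4, p2]) (R.toWt c) = 3 * c 0 := fun c => by
    have h4 : tv 6 [p4, p3, p5, p6, p4, p2] = ![4, 3, 5, 6, 4, 2] := by decide
    simp [h4, hd, RC.toWt, hC, Fin.sum_univ_six, CartanMatrix.E₆]
    ring
  rw [h3] at h1
  change _ ≤ (6 : ℤ) at h1
  omega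

/-- three weights which are moved by the graph automorphism -/
theorem three (h05 : H.lam 0 = H.lam 5) :
    ∃ B : Finset (Fin 6 → ℤ), 3 ≤ B.card ∧ ∀ ν ∈ B, H.IsWt ν ∧ 0 < ν 0 ∧ ν 5 < 0 := by
  have key : ∀ (μ : List ℤ) (W : List WE), μ.length = 6 → Dom (tv 6 μ) → (∀ i, tv 6 μ i ≤ H.lam i) →
      chkW 6 rt μ W = true → 3 ≤ (W.filter pn).length →
      ∃ B : Finset (Fin 6 → ℤ), 3 ≤ B.card ∧ ∀ ν ∈ B, H.IsWt ν ∧ 0 < ν 0 ∧ ν 5 < 0 := fun μ W h1 h2 h3 h4 h5 => by
    obtain ⟨A, h6, h7⟩ := (tb hC).wts_filter h1 h4 pn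
    obtain ⟨B, h8, h9⟩ := exists_ext H h2 h3 A fun ν hν => by
      obtain ⟨e, he, _, rfl⟩ := h7 ν hν
      exact (((tb hC).wts h1 h4).2 e he).2.1
    refine ⟨B, by omega, fun ν hν => ?_⟩
    obtain ⟨h10, ν', hν', h11⟩ := h9 ν hν
    obtain ⟨e, he, h12, rfl⟩ := h7 ν' hν'
    rw [pn, Bool.and_eq_true, isNeg_iff, isNeg_iff] at h12
    have h13 := h11 (false, R.zi 0) (by rw [R.pair_false, R.pair_zi]; exact h12.1)
    have h14 := h11 (true, R.zi 5) (by rw [R.pair_zi]; exact h12.2)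
    rw [R.pair_false, R.pair_zi] at h13
    rw [R.pair_zi] at h14
    exact ⟨h10.isWt, by omega, h14⟩
  have ks : ∀ (j : Fin 6) (W : List WE), H.lam j ≠ 0 → chkW 6 rt (uv 6 j) W = true → 3 ≤ (W.filter pn).length →
      ∃ B : Finset (Fin 6 → ℤ), 3 ≤ B.card ∧ ∀ ν ∈ B, H.IsWt ν ∧ 0 < ν 0 ∧ ν 5 < 0 := fun j W hj =>
    key _ W (length_uv 6 j) (by rw [tv_uv]; exact HW.dom_single j) (by rw [tv_uv]; exact H.single_le hj)
  obtain ⟨j, hj⟩ := H.exists_lam_pos
  fin_cases j
  · exact key _ _ rfl (dom05 hC) (le05 hC H hj.ne' (h05 ▸ hj.ne')) chk_w05 pn_w.2.2.2.2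
  · exact ks _ _ hj.ne' chk_w1 pn_w.1
  · exact ks _ _ hj.ne' chk_w2 pn_w.2.1
  · exact ks _ _ hj.ne' chk_w3 pn_w.2.2.1
  · exact ks _ _ hj.ne' chk_w4 pn_w.2.2.2.1
  · exact key _ _ rfl (dom05 hC) (le05 hC H (h05.symm ▸ hj.ne') hj.ne') chk_w05 pn_w.2.2.2.2

end E6

variable {Φ : Type} [Fintype Φ] [DecidableEq Φ] {p : ℕ} [Fact p.Prime] {k : Type} [Field k] [CharP k p]
  {G T S : Type} [Group G] [Infinite k] [Group T] [Finite T] [Group S] {D : RDat p (Fin 6) Φ k G}

/-- the radical of the first parabolic subgroup is a cubic offender on a module of dimension 27 -/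
theorem good_E6 (hC : ∀ i j, D.R.C i j = CartanMatrix.E₆ i j) {σ : Equiv.Perm (Fin 6)} (F : Fam D σ)
    (h1 : Fintype.card F.J = 1) (h2 : ∀ j, F.dbl j = false)
    (h3 : ∀ j, (F.H j).lam = Pi.single 0 1 ∨ (F.H j).lam = Pi.single 5 1) : F.Good 1 := by
  have h4 : 16 ≤ (Finset.univ.filter fun b => 0 < D.R.cf b 0).card :=
    E6.rad ▸ (E6.tb hC).card_filter _ _ fun e b hb he => by
      have h5 : gz e.1 0 = D.R.cf b 0 := (congrFun hb 0).trans (D.R.vec_true b 0)
      rw [isNeg_iff] at he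
      omega
  refine ⟨Finset.univ.filter fun b => 0 < D.R.cf b 0, Finset.card_pos.mp (by omega), fun b hb => hb,
    fun b hb b' hb' s t => ?_, fun j _ => ?_, fun j hj => absurd hj (by rw [h2]; simp), ?_⟩
  · have h5 := D.cm b b' s t
    rw [show {g | ∃ a u, (∃ m n : ℕ, 0 < m ∧ 0 < n ∧ D.R.cf a = m • D.R.cf b + n • D.R.cf b') ∧ g = D.z a u} = ∅ from ?_,
      Subgroup.closure_empty, Subgroup.mem_bot] at h5
    · exact commutatorElement_eq_one_iff_commute.mp h5
    · refine Set.eq_empty_of_forall_notMem ?_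
      rintro g ⟨a, u, ⟨m, n, hm, hn, h6⟩, _⟩
      have h7 := congrFun h6 0
      have h8 := (E6.cf_le hC a).1
      have h9 := (Finset.mem_filter.mp hb).2
      have h10 := (Finset.mem_filter.mp hb').2
      simp only [Pi.add_apply, Pi.smul_apply, smul_eq_mul] at h7
      nlinarith [Nat.mul_le_mul hm h9, Nat.mul_le_mul hn h10]
  · refine (F.H j).cubic_of_lev _ (Pi.single 0 1) (t := 1) (lo := 0) (fun b hb => ?_) fun μ hμ => ?_
    · rw [D.R.hv_single]; exact_mod_cast (Finset.mem_filter.mp hb).2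
    · rw [(F.H j).lev_single]
      exact ⟨(F.H j).dep_nonneg hμ 0, by have := (E6.min27 hC _ (h3 j)).2 μ hμ; omega⟩
  · have h5 : F.valG (Finset.univ.filter fun b => 0 < D.R.cf b 0) ≤ ∑ _j : F.J, 54 :=
      Finset.sum_le_sum fun j _ => by
        rw [h2 j, if_neg (by simp)]
        have h6 := (F.H j).cG_le_d (Finset.univ.filter fun b => 0 < D.R.cf b 0)
        have h7 := (E6.min27 hC _ (h3 j)).1
        omega
    rw [Finset.sum_const, Finset.card_univ, h1] at h5
    simp only [smul_eq_mul] at h5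
    omega

/-- `Full` for `E6` and `2E6` -/
theorem full_E6 (M : Std D T S) (hC : ∀ i j, D.R.C i j = CartanMatrix.E₆ i j)
    (hG : ∀ γ : M.Gr, γ ≠ 1 → ∀ i, M.gι γ i = E6.nd i) (ha : M.AutFact) : M.Full fun _ => True where
  aut := ha
  ex := ex_true 0
  ok_gr := fun _ _ _ => trivial
  faith := (E6.tb hC).faith (E6.conn hC)
  ct := fun F _ _ _ S hS hA hI h => by
    have h1 : ∀ j, (F.H j).lam = Pi.single 0 1 ∨ (F.H j).lam = Pi.single 5 1 := fun j => by
      rcases E6.cls hC (F.H j) with h1 | h1 | h1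
      · exact Or.inl h1
      · exact Or.inr h1
      · have h2 := one_le_val F S j
        have h3 := h1 S hS hA hI
        omega
    have h2 : Fintype.card F.J = 1 := by
      have h3 : ∑ _j : F.J, 2 * (S.card + 1) ≤ ∑ j, 2 * (F.H j).cL S := Finset.sum_le_sum fun j _ => by
        have := E6.lt_cL hC (F.H j) S hS hA hI
        omega
      have h4 := two_cL_le_val F S
      have h5 := Fintype.card_pos (α := F.J)
      rw [Finset.sum_const, Finset.card_univ, smul_eq_mul] at h3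
      nlinarith
    have h3 : ∀ j, F.dbl j = false := fun j => by
      by_contra h3
      have h4 := le_trans (Finset.single_le_sum (f := fun j => if F.dbl j then
        (F.H j).cL S * (2 * (F.H j).d - (F.H j).cL S) else 2 * (F.H j).cL S) (fun _ _ => Nat.zero_le _)
        (Finset.mem_univ j)) h
      rw [if_pos (by simpa using h3)] at h4
      have h5 := E6.lt_cL hC (F.H j) S hS hA hI
      have h6 := (F.H j).cL_lt_d S
      have h7 := Nat.mul_le_mul (show S.card + 1 ≤ (F.H j).cL S by omega)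
        (show 4 ≤ 2 * (F.H j).d - (F.H j).cL S by omega)
      omega
    have h4 : M.σ = 1 := by
      by_contra h4
      obtain ⟨j⟩ := F.neJ
      have h5 := F.lam_π j
      rw [Fintype.card_le_one_iff.mp h2.le (F.π j) j] at h5
      have h6 := (E6.lg_of_inv hC _ (hG _ h4) h5.symm).1
      rcases h1 j with h7 | h7 <;> rw [h7] at h6 <;> exact absurd h6 (by decide)
    refine Or.inl ?_
    rw [show M.gΦ M.σ = 1 by rw [h4, map_one]]
    exact good_E6 hC F h2 h3 h1
  bg := fun γ h _ _ L _ _ H hH => ⟨by have := E6.le_d hC H; omega, fun S hS hA hI => by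
    have h1 := (E6.lg_of_inv hC H (hG γ h) hH).2 S hS hA hI
    have h2 := H.cL_lt_d S
    have h3 := hS.card_pos
    have h4 := Nat.mul_le_mul h1 (show 7 ≤ 2 * H.d - H.cL S by omega)
    omega⟩
  ctg := fun γ h _ _ F _ g ⟨j, hj⟩ _ O u _ _ _ _ _ S h1 hA hI h2 h3 => by
    exfalso
    have h4 := le_trans (Finset.single_le_sum (fun _ _ => Nat.zero_le _) (Finset.mem_univ j)) h3
    rw [dif_pos hj] at h4
    have := (F.H j).fd
    obtain ⟨h5, h6⟩ := E6.lg_of_inv hC _ (hG γ h) hj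
    by_cases hS : S.Nonempty
    · have h7 := h6 S hS hA hI
      have h8 := (Submodule.finrank_mono (inf_le_right (a := LinearMap.ker ((g j hj).g.toLinearMap - 1)))).trans (h2 j)
      have h9 := (F.H j).cL_add S
      omega
    · obtain ⟨B, h7, h8⟩ := E6.three hC _ h5
      have h9 := card_le_codim_fix _ (g j hj) (fun ν => 0 < ν 0 ∧ ν 5 < 0) (fun ν h9 h10 => by
        have h11 : (M.gι γ).symm 0 = 5 := by rw [Equiv.symm_apply_eq, hG γ h]; rfl
        have h12 := h10.1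
        rw [Function.comp_apply, h11] at h12
        omega) B h8
      have h10 := Submodule.finrank_mono (inf_le_left (a := LinearMap.ker ((g j hj).g.toLinearMap - 1))
        (b := ⨅ o ∈ O, LinearMap.ker ((F.H j).op (u o))))
      rw [Finset.not_nonempty_iff_eq_empty.mp hS, Finset.card_empty] at h1
      omega
  ctf := fun _ => ctf_of _ _ _ fun L _ _ H => ⟨by have := E6.le_d hC H; omega, fun S hS hA hI => by
    have := E6.lt_cL hC H S hS hA hI
    omega⟩
  eight := fun ⟨γ, γ', h⟩ => by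
    exfalso
    by_cases h1 : γ = 1
    · exact h (h1 ▸ Commute.one_left _)
    by_cases h2 : γ' = 1
    · exact h (h2 ▸ Commute.one_right _)
    exact h (M.gι_inj (Equiv.ext fun i => (hG γ h1 i).trans (hG γ' h2 i).symm) ▸ Commute.refl _)

end Cfsg.Agent.TwoF.DC.TE
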