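import Cfsg.Agent.TwoF.DC.TE.St
import Cfsg.Agent.TwoF.DC.TE.Cb
import Cfsg.Agent.ChevalleyStructure.StEmbed
import Cfsg.Agent.ChevalleyStructure.StCenter
import Cfsg.Agent.S1054

/-!
# TwoF, defining characteristic, exceptional types (7): the Steinberg groups of `E6`, `E7`, `E8` inside `E8` (helper37)
-/

set_option autoImplicit false
set_option linter.unusedSectionVars false
set_option linter.unusedVariables false

namespace Cfsg.Agent.TwoF.DC.TE

open Cfsg Cfsg.Lie Cfsg.Lie.ChevalleyDatum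
open Cfsg.Agent.ChevalleyStructure Cfsg.Agent.ChevalleyStructure.Elts Cfsg.Agent.ChevalleyStructure.RootVec
  Cfsg.Agent.Nodes.RGDChev Cfsg.Agent.KFacts.RgdChevCoord Cfsg.Agent.H129.TorusChar Cfsg.Agent.Tits.Roots
  Cfsg.Agent.ChevalleyStructure.CoxeterGeom Cfsg.Agent.ChevalleyStructure.CoxeterGeomTypes Cfsg.Agent.H45.UniE
  Cfsg.Agent.H405.UE Cfsg.Agent.TwoF.DC.RD
open Cfsg.Agent.H564.U (zz zz_inv zz_zero)
open Cfsg.Agent.ChevalleyStructure.StBasic (sth)
open Cfsg.Agent.ChevalleyStructure.StTheta (theta theta_surjective)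
open Cfsg.Agent.ChevalleyStructure.StEmbed (ι67 ι78 emb67 emb78 hom hom_stGen)

section inj

variable {D D' : ChevalleyDatum} {l l' : ℕ} {M : CoxeterMatrix (Fin l)} {M' : CoxeterMatrix (Fin l')}
  {L : Lv D D' l l'} {hp' : IsType D' l' M'} {k : Type} [Field k] {j : D.SteinbergGroup k →* ↥(D'.group k)}

theorem exists_sq_ne (k : Type) [Field k] [Infinite k] : ∃ c : kˣ, (c : k) ^ 2 ≠ 1 := by
  classical
  obtain ⟨c, hc⟩ := Infinite.exists_notMem_finset ({0, 1, -1} : Finset k)
  simp only [Finset.mem_insert, Finset.mem_singleton, not_or] at hc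
  exact ⟨Units.mk0 c hc.1, fun h => (sq_eq_one_iff.mp h).elim hc.2.1 hc.2.2⟩

/-- the homomorphism is injective -/
theorem Up.inj' (U : Up L hp' j) (hp : IsType D l M) (Φ : (Fin D.rank → kˣ) →* D.SteinbergGroup k)
    (h1 : ∀ (i : Fin D.rank) (x : kˣ), Φ (Pi.mulSingle i x) = sth D (D.simple i) (x : k))
    (h2 : Subgroup.center (D.SteinbergGroup k) ≤ Φ.range) [Infinite k]
    (Fu : Fund hp' k) (hs : IsSimpleGroup ↥(D.group k)) (i : Fin l) : Function.Injective j := by
  obtain rfl := hp.rank_eq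
  have hk := H129.StCover.ker_theta hp.inList (K := k)
  have hn : (j.ker.map (theta hp.inList k)).Normal := Subgroup.Normal.map inferInstance _ (theta_surjective _)
  rcases hn.eq_bot_or_eq_top with h | h
  · rw [injective_iff_map_eq_one]
    intro g hg
    have h3 : g ∈ (theta hp.inList k).ker := (Subgroup.map_eq_bot_iff _).mp h hg
    rw [hk] at h3
    obtain ⟨a, rfl⟩ := h2 h3
    have h4 : j (Φ a) ∈ TT D' k ∧ ∀ i, cX hp' (j (Φ a)) (Fu.ω (L.f i)) = a i := by
      clear hg h3
      induction a using Pi.mulSingle_induction with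
      | one => rw [map_one, map_one]; exact ⟨one_mem _, fun i => cX_one hp' _⟩
      | mul a b ha hb =>
        rw [map_mul, map_mul]
        exact ⟨mul_mem ha.1 hb.1, fun i => by rw [cX_mul hp' ha.1 hb.1, ha.2, hb.2, Pi.mul_apply, Units.val_mul]⟩
      | mulSingle i' c =>
        rw [h1, U.j_h hp]
        refine ⟨hc_mem hp' _ c.ne_zero, fun i => ?_⟩
        rw [cX_hc, Fu.pair]
        by_cases h : i = i'
        · rw [if_pos (congrArg L.f h), zpow_one, h, Pi.mulSingle_eq_same]
        · rw [if_neg fun e => h (L.f_inj e), zpow_zero, Pi.mulSingle_eq_of_ne h]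
    rw [show a = 1 from funext fun i => Units.ext (by rw [← h4.2 i, hg, cX_one]; rfl), map_one]
  · exfalso
    have h3 : ∀ a b, j a * j b = j b * j a := fun a b => by
      obtain ⟨n, hn, e⟩ : theta hp.inList k a ∈ j.ker.map (theta hp.inList k) := h ▸ Subgroup.mem_top _
      have h4 : n⁻¹ * a ∈ (theta hp.inList k).ker := by
        rw [MonoidHom.mem_ker, map_mul, map_inv, e, inv_mul_cancel]
      rw [hk] at h4
      have h5 := congrArg j (Subgroup.mem_center_iff.mp h4 b)
      simp only [map_mul, map_inv, MonoidHom.mem_ker.mp hn, inv_one, one_mul] at h5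
      exact h5.symm
    obtain ⟨c, hc⟩ := exists_sq_ne k
    have h4 := h3 (sth D (D.simple i) (c : k)) (D.stGen k (D.simple i) 1)
    rw [U.j_h hp, U.j_x hp, TT_zz hp' (hc_mem hp' _ c.ne_zero) (simple_lt hp'.checked (lt_rank hp' _)), cX_hc,
      mul_left_inj, ← zz_simple, ← zz_simple, ← vec_simple hp'] at h4
    have h5 := xc_inj hp' (simple_lt hp'.checked (lt_rank hp' _)) h4
    rw [pairing_vec hp' _ (simple_lt hp'.checked (lt_rank hp' _)), cartan_simple_self hp'.checked (lt_rank hp' _),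
      mul_one] at h5
    exact hc (by rw [← h5, Units.val_zpow_eq_zpow_val, zpow_ofNat])

theorem Up.inj (U : Up L hp' j) (hp : IsType D l M) (hD : D ∈ [chevG2, chevF4, chevE6, chevE7, chevE8]) [Infinite k]
    (Fu : Fund hp' k) (hs : IsSimpleGroup ↥(D.group k)) (i : Fin l) : Function.Injective j := by
  obtain ⟨Φ, h1, h2, -⟩ := StCenter.exists_Phi k D hD
  exact U.inj' hp Φ h1 h2 Fu hs i

end inj

/-! ### the three types -/

theorem hp6 : IsType chevE6 6 CoxeterMatrix.E₆ := by simp [IsType, typeList]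
theorem hp7 : IsType chevE7 7 CoxeterMatrix.E₇ := by simp [IsType, typeList]
theorem hp8 : IsType chevE8 8 CoxeterMatrix.E₈ := by simp [IsType, typeList]

theorem car6' : ∀ i j : Fin 6, cartanOf chevE6 6 i j = gz (E6.cm.getD i []) j := by decide +kernel
theorem car7' : ∀ i j : Fin 7, cartanOf chevE7 7 i j = gz (E7.cm.getD i []) j := by decide +kernel
theorem car8' : ∀ i j : Fin 8, cartanOf chevE8 8 i j = gz (E8.cm.getD i []) j := by decide +kernel

theorem car6 (i j : Fin 6) : cartanOf chevE6 6 i j = CartanMatrix.E₆ i j := by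
  rw [car6']; fin_cases i <;> fin_cases j <;> rfl
theorem car7 (i j : Fin 7) : cartanOf chevE7 7 i j = CartanMatrix.E₇ i j := by
  rw [car7']; fin_cases i <;> fin_cases j <;> rfl
theorem car8 (i j : Fin 8) : cartanOf chevE8 8 i j = CartanMatrix.E₈ i j := by
  rw [car8']; fin_cases i <;> fin_cases j <;> rfl

theorem sl6 : Sl chevE6 6 where
  sym := by decide +kernel
  inj c h := by
    have h0 := h 0; have h1 := h 1; have h2 := h 2; have h3 := h 3; have h4 := h 4; have h5 := h 5
    simp [car6, Fin.sum_univ_six, CartanMatrix.E₆] at h0 h1 h2 h3 h4 h5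
    funext i
    fin_cases i <;> simp <;> omega
  pos := ⟨![8, 11, 15, 21, 15, 8], by decide +kernel, by decide +kernel⟩

theorem sl7 : Sl chevE7 7 where
  sym := by decide +kernel
  inj c h := by
    have h0 := h 0; have h1 := h 1; have h2 := h 2; have h3 := h 3; have h4 := h 4; have h5 := h 5; have h6 := h 6
    simp [car7, Fin.sum_univ_seven, CartanMatrix.E₇] at h0 h1 h2 h3 h4 h5 h6
    funext i
    fin_cases i <;> simp <;> omega
  pos := ⟨![34, 49, 66, 96, 75, 52, 27], by decide +kernel, by decide +kernel⟩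

theorem sl8 : Sl chevE8 8 where
  sym := by decide +kernel
  inj c h := by
    have h0 := h 0; have h1 := h 1; have h2 := h 2; have h3 := h 3; have h4 := h 4; have h5 := h 5; have h6 := h 6
    have h7 := h 7
    simp [car8, Fin.sum_univ_eight, CartanMatrix.E₈] at h0 h1 h2 h3 h4 h5 h6 h7
    funext i
    fin_cases i <;> simp <;> omega
  pos := ⟨![46, 68, 91, 135, 110, 84, 57, 29], by decide +kernel, by decide +kernel⟩

/-- `E6` in `E8` -/
def lv6 : Lv chevE6 chevE8 6 8 where
  ι r := ι78 (ι67 r)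
  f := ![0, 1, 2, 3, 4, 5]
  c := ![8, 11, 15, 21, 15, 8, 0, 0]
  hw _ := 1
  f_inj := by decide +kernel
  lt := by decide +kernel
  on := by decide +kernel
  off := by decide +kernel
  car := by decide +kernel
  c_off := by decide +kernel
  hw_pos _ := Nat.one_pos
  c_eq := by decide +kernel

/-- `E7` in `E8` -/
def lv7 : Lv chevE7 chevE8 7 8 where
  ι := ι78
  f := ![0, 1, 2, 3, 4, 5, 6]
  c := ![34, 49, 66, 96, 75, 52, 27, 0]
  hw _ := 2
  f_inj := by decide +kernel
  lt := by decide +kernel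
  on := by decide +kernel
  off := by decide +kernel
  car := by decide +kernel
  c_off := by decide +kernel
  hw_pos _ := Nat.two_pos
  c_eq := by decide +kernel

/-- `E8` in `E8` -/
def lv8 : Lv chevE8 chevE8 8 8 where
  ι r := r
  f i := i
  c := ![46, 68, 91, 135, 110, 84, 57, 29]
  hw _ := 1
  f_inj _ _ h := h
  lt _ h := h
  on _ _ _ := rfl
  off _ _ i h := absurd rfl (h i)
  car _ _ := rfl
  c_off i h := absurd rfl (h i)
  hw_pos _ := Nat.one_pos
  c_eq := by decide +kernel

variable (k : Type) [Field k]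

theorem up8 : Up lv8 hp8 (theta hp8.inList k) :=
  ⟨fun r _ t => (theta_zz hp8 r t).trans (congrArg _ (by rw [show lv8.ε r = 1 from rfl, Int.cast_one, one_mul]))⟩

theorem up7 : Up lv7 hp8 ((theta hp8.inList k).comp (hom emb78 k)) :=
  ⟨fun r hr t => by rw [MonoidHom.comp_apply, hom_stGen emb78 hr]; exact (up8 k).gen _ (emb78.lt r hr) t⟩

theorem up6 : Up lv6 hp8 (((theta hp8.inList k).comp (hom emb78 k)).comp (hom emb67 k)) :=
  ⟨fun r hr t => by rw [MonoidHom.comp_apply, hom_stGen emb67 hr]; exact (up7 k).gen _ (emb67.lt r hr) t⟩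

variable [Infinite k] (p : ℕ) [CharP k p]

/-- the fundamental functions of `E8` -/
noncomputable def fu8 : Fund hp8 k := (fund_E8 hp8 k).some

/-- the datum of `E6` -/
noncomputable def d6 : RDat p (Fin 6) (PR chevE6) k (chevE6.SteinbergGroup k) :=
  (up6 k).rdat hp6 ((up6 k).inj hp6 (by simp) (fu8 k) (S1054.result _ (by simp)).1 0) (tab_rc hp6 sl6) (fu8 k) p

/-- the datum of `E7` -/
noncomputable def d7 : RDat p (Fin 7) (PR chevE7) k (chevE7.SteinbergGroup k) :=
  (up7 k).rdat hp7 ((up7 k).inj hp7 (by simp) (fu8 k) (S1054.result _ (by simp)).1 0) (tab_rc hp7 sl7) (fu8 k) p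

/-- the datum of `E8` -/
noncomputable def d8 : RDat p (Fin 8) (PR chevE8) k (chevE8.SteinbergGroup k) :=
  (up8 k).rdat hp8 ((up8 k).inj hp8 (by simp) (fu8 k) (S1054.result _ (by simp)).1 0) (tab_rc hp8 sl8) (fu8 k) p

end Cfsg.Agent.TwoF.DC.TE
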