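import Cfsg.Agent.TwoF.DC.TFG.RD
import Cfsg.Agent.TwoF.DC.HW.Root
import Cfsg.Agent.H129.StCover

/-!
# TwoF, defining characteristic, exceptional types (5): the datum `RDat` of a Steinberg group (helper37)

* `rc` : the root combinatorics of a simply laced tabulated datum;
* `Up` : an embedding of the Steinberg group of `D` in the Chevalley group of `D'` as a Levi subgroup;
* `Up.rdat` : the datum `RDat` on the Steinberg group; the fundamental functions are pulled back.
-/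

set_option autoImplicit false
set_option linter.unusedSectionVars false
set_option linter.unusedVariables false

namespace Cfsg.Agent.TwoF.DC.TE

open Cfsg Cfsg.Lie Cfsg.Lie.ChevalleyDatum Polynomial
open Cfsg.Agent.ChevalleyStructure Cfsg.Agent.ChevalleyStructure.Elts Cfsg.Agent.ChevalleyStructure.RootVec
  Cfsg.Agent.Nodes.RGDChev Cfsg.Agent.KFacts.RgdChevCoord Cfsg.Agent.H129.TorusChar Cfsg.Agent.Tits.Roots
  Cfsg.Agent.ChevalleyStructure.CoxeterGeom Cfsg.Agent.ChevalleyStructure.CoxeterGeomTypes Cfsg.Agent.H45.UniE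
  Cfsg.Agent.H405.UE Cfsg.Agent.TwoF.DC.RD
open Cfsg.Agent.H564.U (zz zz_inv zz_zero lamc lamc_mem alg_lamc cX_lamc IsW IsCell Ent Alg IsPol)
open Cfsg.Agent.ChevalleyStructure.StBasic (wd stn sth stn_eq sth_eq stGen_mul stGen_zero stGen_neg closure_stGen
  stGen_comm map_wd sth_mul)
open Cfsg.Agent.ChevalleyStructure.StTheta (theta theta_surjective coe_theta thetaGL_stGen)

variable {D D' : ChevalleyDatum} {l l' : ℕ} {M : CoxeterMatrix (Fin l)} {M' : CoxeterMatrix (Fin l')}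

/-! ### the root combinatorics -/

instance instFinitePR : Finite (PR D) :=
  Finite.of_injective (fun b : PR D => (⟨b.1, b.2.1⟩ : Fin D.nroots)) fun _ _ h => Subtype.ext (congrArg Fin.val h)

noncomputable instance instFintypePR : Fintype (PR D) := Fintype.ofFinite _

section rc

variable (hp : IsType D l M)
include hp

theorem toNat_rt (b : PR D) (i : Fin l) : ((rt D b.1 i).toNat : ℤ) = rt D b.1 i :=
  Int.toNat_of_nonneg (vec_nonneg hp b i)

theorem eq_psr {b : PR D} {i : Fin l} (h : ∀ j : Fin l, j ≠ i → rt D b.1 j = 0) : b = psr hp i := by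
  have h1 : vec D l b.1 = rt D b.1 i • vec D l (D.simple i) := funext fun j => by
    rw [vec_simple hp, Pi.smul_apply, vec_apply, smul_eq_mul]
    by_cases hj : j = i
    · rw [hj, sr_self, mul_one]
    · rw [sr_ne hj, mul_zero, h j hj]
  have h2 := Int.isUnit_iff.mp (unit_of_smul hp b.2.1 _ h1)
  have h3 : 0 ≤ rt D b.1 i := vec_nonneg hp b i
  rw [h2.resolve_right (by omega), one_smul] at h1
  exact Subtype.ext (vec_inj hp b.2.1 (psr hp i).2.1 h1)

theorem refl_pos (i : Fin l) {b : PR D} (hb : b ≠ psr hp i) : D.IsPosRoot (D.reflectRoot i b.1) := by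
  obtain ⟨h1, h2⟩ := reflectRoot_rt hp.checked (lt_rank hp i) b.2.1
  refine (pos_or_neg hp.checked h1).resolve_right fun h => hb (eq_psr hp fun j hj => ?_)
  have h3 := ((isNegRoot_iff hp.checked _).mp h).2 j (lt_rank hp j)
  rw [h2, if_neg (fun e => hj (Fin.ext e)), mul_zero, sub_zero] at h3
  exact le_antisymm h3 (vec_nonneg hp b j)

theorem rt_refl (i : Fin l) (b : PR D) (j : Fin l) : rt D (D.reflectRoot i b.1) j =
    rt D b.1 j - if j = i then ∑ m, cartanOf D l i m * (rt D b.1 m).toNat else 0 := by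
  rw [(reflectRoot_rt hp.checked (lt_rank hp i) b.2.1).2, ← pairing_vec hp i b.2.1]
  by_cases hj : j = i
  · rw [if_pos hj, if_pos (congrArg Fin.val hj), mul_one]
    congr 1
    exact Finset.sum_congr rfl fun m _ => by rw [toNat_rt hp]; rfl
  · rw [if_neg hj, if_neg (fun e => hj (Fin.ext e)), mul_zero]

/-- what is needed about the Cartan matrix -/
structure Sl (D : ChevalleyDatum) (l : ℕ) : Prop where
  sym : ∀ i j, cartanOf D l i j = cartanOf D l j i
  inj : ∀ c : Fin l → ℤ, (∀ i, ∑ j, cartanOf D l i j * c j = 0) → c = 0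
  pos : ∃ c : Fin l → ℤ, (∀ j, 0 ≤ c j) ∧ ∀ i, 0 < ∑ j, c j * cartanOf D l j i

open Classical in
/-- the root combinatorics of a simply laced datum -/
noncomputable def rc (h : Sl D l) : RC (Fin l) (PR D) where
  zi := psr hp
  cf b i := (rt D b.1 i).toNat
  co b i := (rt D b.1 i).toNat
  C := cartanOf D l
  s i b := if h : b ≠ psr hp i then ⟨_, refl_pos hp i h⟩ else b
  cf_zi i := funext fun j => by
    change (rt D (D.simple i) j).toNat = _
    rw [rt_simple hp.checked (lt_rank hp i), Pi.single_apply]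
    by_cases hj : j = i
    · rw [if_pos hj, if_pos (congrArg Fin.val hj)]; rfl
    · rw [if_neg hj, if_neg (fun e => hj (Fin.ext e))]; rfl
  co_zi i := funext fun j => by
    change (rt D (D.simple i) j).toNat = _
    rw [rt_simple hp.checked (lt_rank hp i), Pi.single_apply]
    by_cases hj : j = i
    · rw [if_pos hj, if_pos (congrArg Fin.val hj)]; rfl
    · rw [if_neg hj, if_neg (fun e => hj (Fin.ext e))]; rfl
  C_self i := cartan_simple_self hp.checked (lt_rank hp i)
  C_inj := h.inj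
  cf_inj b b' e := Subtype.ext (vec_inj hp b.2.1 b'.2.1 (funext fun i => by
    rw [vec_apply, vec_apply, ← toNat_rt hp b, ← toNat_rt hp b']
    exact congrArg _ (congrFun e i)))
  red b i n e := eq_psr hp fun j hj => by
    have h1 := congrFun e j
    rw [Pi.single_eq_of_ne hj] at h1
    rw [← toNat_rt hp b, h1]; rfl
  cf_s i b hb j := by
    rw [dif_pos hb, toNat_rt hp ⟨_, refl_pos hp i hb⟩, toNat_rt hp b]
    exact rt_refl hp i b j
  co_s i b hb j := by
    rw [dif_pos hb, toNat_rt hp ⟨_, refl_pos hp i hb⟩, toNat_rt hp b]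
    refine (rt_refl hp i b j).trans ?_
    rw [Finset.sum_congr rfl fun m _ => (by rw [h.sym i m, mul_comm] :
      cartanOf D l i m * (rt D b.1 m).toNat = (rt D b.1 m).toNat * cartanOf D l m i)]
  desc b _ := by
    obtain ⟨c, h1, h2⟩ := h.pos
    by_contra h3
    push Not at h3
    have h4 : ∑ j, c j * ∑ m, cartanOf D l j m * (rt D b.1 m).toNat ≤ 0 :=
      Finset.sum_nonpos fun j _ => mul_nonpos_of_nonneg_of_nonpos (h1 j) (h3 j)
    have h5 : ∑ j, c j * ∑ m, cartanOf D l j m * (rt D b.1 m).toNat =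
        ∑ m, (∑ j, c j * cartanOf D l j m) * (rt D b.1 m).toNat := by
      simp only [Finset.mul_sum, Finset.sum_mul]
      rw [Finset.sum_comm]
      exact Finset.sum_congr rfl fun _ _ => Finset.sum_congr rfl fun _ _ => by ring
    obtain ⟨m, hm⟩ := exists_vec_pos hp b
    have h6 : 0 < ∑ m, (∑ j, c j * cartanOf D l j m) * ((rt D b.1 m).toNat : ℤ) :=
      Finset.sum_pos' (fun m _ => mul_nonneg (h2 m).le (Int.natCast_nonneg _))
        ⟨m, Finset.mem_univ _, mul_pos (h2 m) (by rw [toNat_rt hp]; exact hm)⟩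
    omega

theorem tab_rc (h : Sl D l) : Tab D l (rc hp h) Subtype.val where
  lt b := b.2.1
  cf b i := (toNat_rt hp b i).symm
  C _ _ := rfl
  surj r hr h1 := ⟨⟨r, (isPosRoot_iff_index hp.checked hr).mpr h1⟩, rfl⟩

end rc

/-! ### the commutator relations in the Steinberg group -/

section rel

variable {k : Type} [Field k]

theorem conj_st {r s : ℕ} (hr : r < D.nroots) (hs : s < D.nroots) (hrs : s ≠ r) (hneg : s ≠ D.neg r) (t u : k) :
    D.stGen k r (-t) * D.stGen k s u * D.stGen k r t =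
      D.stGen k s u * ((D.commWord k r s t u).map fun c => D.stGen k c.1 c.2).prod := by
  have h1 := stGen_comm D hr hs hrs hneg t u
  rw [← MonoidHom.id_apply (D.SteinbergGroup k) (wd D _), map_wd] at h1
  simp only [MonoidHom.id_apply] at h1
  rw [← h1, stGen_neg]
  group

theorem comm_st {r s : ℕ} (hr : r < D.nroots) (hs : s < D.nroots) (hrs : s ≠ r) (hneg : s ≠ D.neg r) (t u : k) :
    D.stGen k s u * D.stGen k r t * (D.stGen k s u)⁻¹ * (D.stGen k r t)⁻¹ =
      ((D.commWord k r s (-t) (-u)).map fun c => D.stGen k c.1 c.2).prod := by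
  have h1 := conj_st hr hs hrs hneg (-t) (-u)
  rw [_root_.neg_neg, stGen_neg, stGen_neg] at h1
  rw [mul_assoc, mul_assoc, ← mul_assoc (D.stGen k r t), h1, mul_inv_cancel_left]

variable {Φ : Type} [DecidableEq Φ] {R : RC (Fin l) Φ} {ix : Φ → ℕ} (T : Tab D l R ix) (hp : IsType D l M)
include T hp

theorem st_conj {b b' : Φ} (hb : b' ≠ b) : ∃ f : ℕ × ℤ × ℕ × ℕ → Φ,
    (∀ c ∈ D.commTerms (ix b) (ix b'), R.cf (f c) = c.2.2.1 • R.cf b + c.2.2.2 • R.cf b') ∧ ∀ s t : k,
      D.stGen k (ix b) (-s) * D.stGen k (ix b') t * D.stGen k (ix b) s =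
        (((b', (1 : k), 1) :: (D.commTerms (ix b) (ix b')).map fun c =>
          (f c, (c.2.1 : k) * (-s) ^ c.2.2.1, c.2.2.2)).map fun e => D.stGen k (ix e.1) (e.2.1 * t ^ e.2.2)).prod := by
  classical
  have h1 : ∀ c : ℕ × ℤ × ℕ × ℕ, ∃ a, c ∈ D.commTerms (ix b) (ix b') →
      ix a = c.1 ∧ R.cf a = c.2.2.1 • R.cf b + c.2.2.2 • R.cf b' := by
    intro c
    by_cases hc : c ∈ D.commTerms (ix b) (ix b')
    · obtain ⟨a, ha⟩ := T.term_ix hp hc
      exact ⟨a, fun _ => ha⟩
    · exact ⟨b, fun h => (hc h).elim⟩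
  choose f hf using h1
  refine ⟨f, fun c hc => (hf c hc).2, fun s t => ?_⟩
  rw [conj_st (T.lt b) (T.lt b') (fun h => hb (T.inj h)) (T.ne_neg hp b' b), List.map_cons, List.prod_cons,
    one_mul, pow_one]
  congr 2
  unfold ChevalleyDatum.commWord
  rw [List.map_map, List.map_map]
  refine List.map_congr_left fun c hc => ?_
  show D.stGen k c.1 _ = D.stGen k (ix (f c)) _
  rw [(hf c hc).1]

theorem st_cm (b b' : Φ) (s t : k) :
    D.stGen k (ix b) s * D.stGen k (ix b') t * (D.stGen k (ix b) s)⁻¹ * (D.stGen k (ix b') t)⁻¹ ∈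
    Subgroup.closure {g | ∃ a u, (∃ m n : ℕ, 0 < m ∧ 0 < n ∧ R.cf a = m • R.cf b + n • R.cf b') ∧
      g = D.stGen k (ix a) u} := by
  by_cases hb : b = b'
  · subst hb
    rw [← stGen_neg, ← stGen_neg, stGen_mul, stGen_mul, stGen_mul, show s + t + -s + -t = 0 by ring, stGen_zero]
    exact one_mem _
  rw [comm_st (T.lt b') (T.lt b) (fun h => hb (T.inj h)) (T.ne_neg hp b b')]
  refine Subgroup.list_prod_mem _ fun g hg => ?_
  obtain ⟨e, he, rfl⟩ := List.mem_map.1 hg
  unfold ChevalleyDatum.commWord at he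
  obtain ⟨c, hc, rfl⟩ := List.mem_map.1 he
  obtain ⟨a, ha, ha'⟩ := T.term_ix hp hc
  obtain ⟨-, h1, h2, -⟩ := vec_term hp hc
  exact Subgroup.subset_closure ⟨a, _, ⟨c.2.2.2, c.2.2.1, h2, h1, by rw [ha', add_comm]⟩, by rw [ha]⟩

theorem st_nz {p : ℕ} [CharP k p] (i : Fin l) (b a : Φ) (ha : R.cf a = R.cf (R.zi i) + R.cf b)
    (hn : R.NZ p (true, R.zi i) (true, b)) :
    ∃ L : List (Φ × k × ℕ), (∀ e ∈ L, 0 < e.2.2) ∧
      (∀ t, D.stGen k (ix (R.zi i)) (-1) * D.stGen k (ix b) t * D.stGen k (ix (R.zi i)) 1 =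
        (L.map fun e => D.stGen k (ix e.1) (e.2.1 * t ^ e.2.2)).prod) ∧
      ((L.filter fun e => e.1 = a ∧ e.2.2 = 1).map fun e => e.2.1).sum ≠ 0 := by
  have hv : vec D l (ix a) = vec D l (ix (R.zi i)) + vec D l (ix b) := by
    rw [T.vec_ix, T.vec_ix, T.vec_ix, ha]
    funext j
    simp
  have hb : b ≠ R.zi i := by
    rintro rfl
    exact absurd (unit_of_smul hp (T.lt a) (v := ix (R.zi i)) 2 (by rw [hv, two_smul])) (by decide)
  have hba : b ≠ a := by
    rintro rfl
    exact T.cf_ne_zero hp (R.zi i) (by simpa using ha)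
  obtain ⟨f, hf, hf2⟩ := st_conj (k := k) T hp hb
  obtain ⟨-, m, h1, h2, h3⟩ := hn
  have hch := chainRoot_of_vec hp (T.lt _) (T.lt _) (T.lt _) hv
  have hM := chainM_eq hp (T.lt _) (T.lt _) (T.lt _) hv (m := m)
    (fun j hj => by rw [← T.isRt_iff hp, T.vec_ix', T.vec_ix']; exact h1 j hj)
    (by rw [← T.isRt_iff hp, T.vec_ix', T.vec_ix']; exact h2)
  refine ⟨_, ?_, hf2 1, ?_⟩
  · intro e he
    rcases List.mem_cons.1 he with rfl | he
    · exact Nat.one_pos
    · obtain ⟨c, hc, rfl⟩ := List.mem_map.1 he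
      exact (vec_term hp hc).2.2.1
  obtain ⟨Rs, e1, e2⟩ := commTerms_cons hch
  have hfa : f (ix a, D.chainM (ix (R.zi i)) (ix b) 1, 1, 1) = a := by
    refine R.cf_inj ?_
    rw [hf _ (by rw [e1]; exact List.mem_cons_self), one_smul, one_smul, ha]
  have hnil : ((Rs.map fun c => (f c, (c.2.1 : k) * (-1) ^ c.2.2.1, c.2.2.2)).filter
      fun e : Φ × k × ℕ => e.1 = a ∧ e.2.2 = 1) = [] := by
    rw [List.filter_eq_nil_iff]
    intro e he
    obtain ⟨c, hc, rfl⟩ := List.mem_map.1 he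
    rw [decide_eq_true_eq]
    rintro ⟨h4, h5⟩
    have h6 := hf c (by rw [e1]; exact List.mem_cons_of_mem _ hc)
    have h7 := e2 c hc
    have h8 : f c = a := h4
    have h9 : c.2.2.2 = 1 := h5
    rw [h8, h9, ha, one_smul] at h6
    have h10 := congrFun (add_right_cancel h6) i
    rw [R.cf_zi, Pi.smul_apply, Pi.single_eq_same, smul_eq_mul, mul_one] at h10
    omega
  rw [e1, List.map_cons, List.filter_cons_of_neg (by simp [hba]), List.filter_cons_of_pos (by simp [hfa]), hnil]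
  simp only [List.map_cons, List.map_nil, List.sum_cons, List.sum_nil, add_zero, pow_one]
  have h4 : ((m : k) + 1) ≠ 0 := by
    intro h
    refine h3 ((CharP.cast_eq_zero_iff k p _).1 ?_)
    push_cast
    exact h
  refine mul_ne_zero ?_ (neg_ne_zero.2 one_ne_zero)
  rcases hM with h | h <;> rw [h] <;> push_cast
  · exact h4
  · exact neg_ne_zero.2 h4

end rel

/-! ### Levi subsystems -/

/-- `ι` embeds the roots of `D` in the roots of `D'`, `f` the nodes; `c` is a cocharacter of the Levi subgroup with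
values `hw` on the simple roots -/
structure Lv (D D' : ChevalleyDatum) (l l' : ℕ) where
  ι : ℕ → ℕ
  f : Fin l → Fin l'
  c : Fin l' → ℤ
  hw : Fin l → ℕ
  f_inj : Function.Injective f
  lt : ∀ r < D.nroots, ι r < D'.nroots
  on : ∀ r < D.nroots, ∀ i : Fin l, rt D' (ι r) (f i) = rt D r i
  off : ∀ r < D.nroots, ∀ i' : Fin l', (∀ i, f i ≠ i') → rt D' (ι r) i' = 0
  car : ∀ i j, cartanOf D' l' (f i) (f j) = cartanOf D l i j
  c_off : ∀ i', (∀ i, f i ≠ i') → c i' = 0
  hw_pos : ∀ i, 0 < hw i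
  c_eq : ∀ i, ∑ j, c j * cartanOf D' l' j (f i) = hw i
  /-- the signs -/
  ε : ℕ → ℤ := fun _ => 1
  ε_sq : ∀ r < D.nroots, ε r * ε r = 1 := by intros; rfl
  ε_simple : ∀ i : Fin l, ε (D.simple i) = 1 := by intros; rfl
  ε_neg : ∀ r < D.nroots, ε (D.neg r) = ε r := by intros; rfl

namespace Lv

variable (L : Lv D D' l l')

theorem ε_mul (k : Type) [Field k] {r : ℕ} (hr : r < D.nroots) (t : k) : (L.ε r : k) * ((L.ε r : k) * t) = t := by
  rw [← mul_assoc, ← Int.cast_mul, L.ε_sq r hr, Int.cast_one, one_mul]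

/-- the sign as a unit -/
def eu (k : Type) [Field k] {r : ℕ} (hr : r < D.nroots) : kˣ :=
  Units.mkOfMulEqOne (L.ε r : k) (L.ε r : k) (by rw [← Int.cast_mul, L.ε_sq r hr, Int.cast_one])

theorem sum_vec {r : ℕ} (hr : r < D.nroots) (g : Fin l' → ℤ) :
    ∑ j, g j * vec D' l' (L.ι r) j = ∑ j, g (L.f j) * vec D l r j :=
  (Fintype.sum_of_injective L.f L.f_inj _ _ (fun i' hi' => by
    rw [vec_apply, L.off r hr i' fun i e => hi' ⟨i, e⟩, mul_zero]) fun i => by
      rw [vec_apply, vec_apply, L.on r hr]).symm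

theorem pairing_ι {r : ℕ} (hr : r < D.nroots) (i : Fin l) :
    pairing (cartanOf D' l') (L.f i) (vec D' l' (L.ι r)) = pairing (cartanOf D l) i (vec D l r) := by
  unfold CoxeterGeom.pairing
  rw [L.sum_vec hr]
  exact Finset.sum_congr rfl fun j _ => by rw [L.car]

theorem sum_c {r : ℕ} (hr : r < D.nroots) :
    ∑ i, L.c i * pairing (cartanOf D' l') i (vec D' l' (L.ι r)) = ∑ j, vec D l r j * L.hw j := by
  unfold CoxeterGeom.pairing
  simp only [L.sum_vec hr, Finset.mul_sum]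
  rw [Finset.sum_comm]
  refine Finset.sum_congr rfl fun j _ => ?_
  rw [← L.c_eq j, Finset.mul_sum]
  exact Finset.sum_congr rfl fun i _ => by ring

variable (hp : IsType D l M) (hp' : IsType D' l' M')
include hp hp'

theorem eq_ι {r s : ℕ} (hr : r < D.nroots) (hs : s < D'.nroots) (h1 : ∀ i : Fin l, rt D' s (L.f i) = rt D r i)
    (h2 : ∀ i' : Fin l', (∀ i, L.f i ≠ i') → rt D' s i' = 0) : L.ι r = s :=
  vec_inj hp' (L.lt r hr) hs (funext fun i' => by
    rw [vec_apply, vec_apply]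
    by_cases h : ∃ i, L.f i = i'
    · obtain ⟨i, rfl⟩ := h
      rw [h1, L.on r hr]
    · rw [h2 i' fun i e => h ⟨i, e⟩, L.off r hr i' fun i e => h ⟨i, e⟩])

theorem ι_simple (i : Fin l) : L.ι (D.simple i) = D'.simple (L.f i) :=
  L.eq_ι hp hp' (simple_lt hp.checked (lt_rank hp i)) (simple_lt hp'.checked (lt_rank hp' _)) (fun j => by
    rw [rt_simple hp'.checked (lt_rank hp' _), rt_simple hp.checked (lt_rank hp _)]
    by_cases hj : j = i
    · rw [hj, if_pos rfl, if_pos rfl]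
    · rw [if_neg fun e => hj (L.f_inj (Fin.ext e)), if_neg fun e => hj (Fin.ext e)]) fun i' h => by
    rw [rt_simple hp'.checked (lt_rank hp' _), if_neg fun e => h i (Fin.ext e).symm]

theorem ι_neg {r : ℕ} (hr : r < D.nroots) : L.ι (D.neg r) = D'.neg (L.ι r) :=
  L.eq_ι hp hp' (neg_lt hp.checked hr) (neg_lt hp'.checked (L.lt r hr))
    (fun j => by rw [rt_neg hp'.checked (L.lt r hr), rt_neg hp.checked hr, L.on r hr]) fun i' h => by
    rw [rt_neg hp'.checked (L.lt r hr), L.off r hr i' h, _root_.neg_zero]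

theorem ι_refl (i : Fin l) {r : ℕ} (hr : r < D.nroots) : L.ι (D.reflectRoot i r) = D'.reflectRoot (L.f i) (L.ι r) := by
  obtain ⟨h1, h2⟩ := reflectRoot_rt hp.checked (lt_rank hp i) hr
  obtain ⟨h3, h4⟩ := reflectRoot_rt hp'.checked (lt_rank hp' (L.f i)) (L.lt r hr)
  refine L.eq_ι hp hp' h1 h3 (fun j => ?_) fun i' h => ?_
  · rw [h4, h2, L.on r hr, ← pairing_vec hp' _ (L.lt r hr), ← pairing_vec hp _ hr, L.pairing_ι hr]
    by_cases hj : j = i
    · rw [hj, if_pos rfl, if_pos rfl]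
    · rw [if_neg fun e => hj (L.f_inj (Fin.ext e)), if_neg fun e => hj (Fin.ext e)]
  · rw [h4, L.off r hr i' h, if_neg fun e => h i (Fin.ext e).symm, mul_zero, sub_zero]

theorem ι_pos {r : ℕ} (hr : D.IsPosRoot r) : D'.IsPosRoot (L.ι r) := by
  rw [isPosRoot_iff hp'.checked]
  refine ⟨L.lt r hr.1, fun i' hi' => ?_⟩
  rw [hp'.rank_eq] at hi'
  by_cases h : ∃ i, L.f i = ⟨i', hi'⟩
  · obtain ⟨i, e⟩ := h
    rw [show i' = (L.f i : ℕ) from (congrArg Fin.val e).symm, L.on r hr.1]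
    exact vec_nonneg hp ⟨r, hr⟩ i
  · exact (L.off r hr.1 ⟨i', hi'⟩ fun i e => h ⟨i, e⟩).ge

end Lv

/-- a homomorphism of the Steinberg group to a Chevalley group along a Levi subsystem -/
structure Up (L : Lv D D' l l') (hp' : IsType D' l' M') {k : Type} [Field k]
    (j : D.SteinbergGroup k →* ↥(D'.group k)) : Prop where
  gen : ∀ r < D.nroots, ∀ t, j (D.stGen k r t) = zz hp' (L.ι r) ((L.ε r : k) * t)

theorem theta_zz (hp : IsType D l M) {k : Type} [Field k] (r : ℕ) (t : k) :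
    theta hp.inList k (D.stGen k r t) = zz hp r t :=
  Subtype.ext (by rw [coe_theta, thetaGL_stGen]; rfl)

theorem hc_eq (hp : IsType D l M) {k : Type} [Field k] (i : Fin l) (c : k) : hc hp i c =
    zz hp (D.simple i) c * zz hp (D.neg (D.simple i)) (-c⁻¹) * zz hp (D.simple i) c *
      (zz hp (D.simple i) 1 * zz hp (D.neg (D.simple i)) (-1⁻¹) * zz hp (D.simple i) 1)⁻¹ := by
  have h1 : theta hp.inList k (sth D (D.simple i) c) = hc hp i c := by
    apply Subtype.ext
    apply Units.ext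
    exact StBasic.theta_sth (theta hp.inList k) (fun r t _ => StTheta.theta_stGen hp.inList r t) _ c
  rw [← h1, sth_eq, stn_eq, stn_eq]
  simp only [map_mul, map_inv, theta_zz hp]

namespace Up

variable {L : Lv D D' l l'} {hp' : IsType D' l' M'} {k : Type} [Field k] {j : D.SteinbergGroup k →* ↥(D'.group k)}
  (U : Up L hp' j) (hp : IsType D l M)
include U hp

theorem j_x (i : Fin l) (t : k) : j (D.stGen k (D.simple i) t) = zz hp' (D'.simple (L.f i)) t := by
  rw [U.gen _ (simple_lt hp.checked (lt_rank hp i)), L.ι_simple hp hp', L.ε_simple, Int.cast_one, one_mul]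

theorem j_neg {r : ℕ} (hr : r < D.nroots) (t : k) :
    j (D.stGen k (D.neg r) t) = zz hp' (D'.neg (L.ι r)) ((L.ε r : k) * t) := by
  rw [U.gen _ (neg_lt hp.checked hr), L.ι_neg hp hp' hr, L.ε_neg r hr]

theorem j_y (i : Fin l) (t : k) : j (D.stGen k (D.neg (D.simple i)) t) = zz hp' (D'.neg (D'.simple (L.f i))) t := by
  rw [U.j_neg hp (simple_lt hp.checked (lt_rank hp i)), L.ι_simple hp hp', L.ε_simple, Int.cast_one, one_mul]

theorem j_h (i : Fin l) (c : k) : j (sth D (D.simple i) c) = hc hp' (L.f i) c := by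
  rw [hc_eq, sth_eq, stn_eq, stn_eq]
  simp only [map_mul, map_inv, U.j_x hp, U.j_y hp]

theorem j_n (i : Fin l) : j (D.stGen k (D.simple i) 1 * D.stGen k (D.neg (D.simple i)) (-1) *
    D.stGen k (D.simple i) 1) = nc hp' k (L.f i) := by
  rw [map_mul, map_mul, U.j_x hp, U.j_y hp, ← nc_eq, zz_simple, zz_neg_simple]

theorem tau_mem (g : D.SteinbergGroup k) : tau hp' (j g) ∈ j.range := by
  have hg : g ∈ Subgroup.closure {g : D.SteinbergGroup k | ∃ (r : ℕ) (t : k), r < D.nroots ∧ g = D.stGen k r t} := by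
    rw [closure_stGen]; trivial
  induction hg using Subgroup.closure_induction with
  | mem g hg =>
    obtain ⟨r, t, hr, rfl⟩ := hg
    rw [U.gen r hr, tau_zz hp' (L.lt r hr), ← U.j_neg hp hr]
    exact ⟨_, rfl⟩
  | one => rw [map_one, tau_one]; exact one_mem _
  | mul a b _ _ ha hb => rw [map_mul, tau_mul]; exact mul_mem hb ha
  | inv a _ ha => rw [map_inv, tau_inv]; exact inv_mem ha

theorem lamc_range (s : kˣ) : lamc hp' k L.c s ∈ j.range := by
  refine Subgroup.list_prod_mem _ fun g hg => ?_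
  obtain ⟨i', -, rfl⟩ := List.mem_map.1 hg
  by_cases h : ∃ i, L.f i = i'
  · obtain ⟨i, rfl⟩ := h
    exact Subgroup.zpow_mem j.range (MonoidHom.mem_range.mpr ⟨_, U.j_h hp i s⟩) _
  · rw [L.c_off i' fun i e => h ⟨i, e⟩, zpow_zero]
    exact one_mem _

/-- the anti-automorphism -/
noncomputable def τ (g : D.SteinbergGroup k) : D.SteinbergGroup k := (U.tau_mem hp g).choose

theorem j_τ (g : D.SteinbergGroup k) : j (U.τ hp g) = tau hp' (j g) := (U.tau_mem hp g).choose_spec

/-- the cocharacter -/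
noncomputable def δ (s : kˣ) : D.SteinbergGroup k := (U.lamc_range hp s).choose

theorem j_δ (s : kˣ) : j (U.δ hp s) = lamc hp' k L.c s := (U.lamc_range hp s).choose_spec

variable (hj : Function.Injective j)
include hj

theorem τ_gen {r : ℕ} (hr : r < D.nroots) (t : k) : U.τ hp (D.stGen k r t) = D.stGen k (D.neg r) t :=
  hj (by rw [U.j_τ, U.gen r hr, tau_zz hp' (L.lt r hr), U.j_neg hp hr])

theorem τ_mul (a b : D.SteinbergGroup k) : U.τ hp (a * b) = U.τ hp b * U.τ hp a :=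
  hj (by rw [map_mul, U.j_τ, U.j_τ, U.j_τ, map_mul, tau_mul])

theorem n_gen (i : Fin l) {r : ℕ} (hr : r < D.nroots) : ∃ ε : kˣ, ∀ t : k,
    D.stGen k (D.simple i) 1 * D.stGen k (D.neg (D.simple i)) (-1) * D.stGen k (D.simple i) 1 * D.stGen k r t =
      D.stGen k (D.reflectRoot i r) (ε * t) *
        (D.stGen k (D.simple i) 1 * D.stGen k (D.neg (D.simple i)) (-1) * D.stGen k (D.simple i) 1) := by
  obtain ⟨ε, hε⟩ := nc_zz hp' (k := k) (L.f i) (L.lt r hr)
  have hr' := (reflectRoot_rt hp.checked (lt_rank hp i) hr).1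
  refine ⟨L.eu k hr' * (ε * L.eu k hr), fun t => hj ?_⟩
  rw [map_mul, map_mul (f := j) (D.stGen k (D.reflectRoot i r) _), U.j_n hp, U.gen r hr,
    U.gen _ hr', L.ι_refl hp hp' i hr, Units.val_mul, Units.val_mul, mul_assoc, mul_assoc]
  exact (hε _).trans (congrArg (fun a => zz hp' _ a * _) (L.ε_mul k hr' _).symm)

variable {Φ : Type} [DecidableEq Φ] {R : RC (Fin l) Φ} {ix : Φ → ℕ} (T : Tab D l R ix)
include T

theorem gen_simple : Subgroup.closure {g : D.SteinbergGroup k | ∃ (i : Fin l) (s : k),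
    g = D.stGen k (D.simple i) s ∨ g = D.stGen k (D.neg (D.simple i)) s} = ⊤ := by
  set K := Subgroup.closure {g : D.SteinbergGroup k | ∃ (i : Fin l) (s : k),
    g = D.stGen k (D.simple i) s ∨ g = D.stGen k (D.neg (D.simple i)) s} with hK
  have hx : ∀ (i : Fin l) s, D.stGen k (D.simple i) s ∈ K := fun i s => Subgroup.subset_closure ⟨i, s, Or.inl rfl⟩
  have hy : ∀ (i : Fin l) s, D.stGen k (D.neg (D.simple i)) s ∈ K := fun i s =>
    Subgroup.subset_closure ⟨i, s, Or.inr rfl⟩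
  have h1 : ∀ b t, D.stGen k (ix b) t ∈ K := fun b => by
    refine R.desc_induction (P := fun b => ∀ t, D.stGen k (ix b) t ∈ K) (fun i t => ?_) (fun i b hb _ h t => ?_) b
    · rw [T.ix_zi hp]; exact hx i t
    · obtain ⟨ε, hε⟩ := U.n_gen hp hj i (T.lt b)
      have h2 := hε t
      rw [← T.ix_s hp i hb] at h2
      have h3 := mul_mem (mul_mem (hx i 1) (hy i (-1))) (hx i 1)
      rw [eq_inv_mul_of_mul_eq h2]
      exact mul_mem (inv_mem h3) (mul_mem (h _) h3)
  have h2 : ∀ g ∈ K, U.τ hp g ∈ K := fun g hg => by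
    induction hg using Subgroup.closure_induction with
    | mem g hg =>
      obtain ⟨i, s, rfl | rfl⟩ := hg
      · rw [U.τ_gen hp hj (simple_lt hp.checked (lt_rank hp i))]; exact hy i s
      · rw [U.τ_gen hp hj (neg_lt hp.checked (simple_lt hp.checked (lt_rank hp i))),
          RootVec.neg_neg hp.checked (simple_lt hp.checked (lt_rank hp i))]
        exact hx i s
    | one => rw [show U.τ hp 1 = 1 from hj (by rw [U.j_τ, map_one, tau_one])]; exact one_mem _
    | mul a b _ _ ha hb => rw [U.τ_mul hp hj]; exact mul_mem hb ha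
    | inv a _ ha => rw [show U.τ hp a⁻¹ = (U.τ hp a)⁻¹ from hj (by rw [U.j_τ, map_inv, map_inv, U.j_τ, tau_inv])]
                    exact inv_mem ha
  rw [eq_top_iff, ← closure_stGen D, Subgroup.closure_le]
  rintro _ ⟨r, t, hr, rfl⟩
  rcases pos_or_neg hp.checked hr with h | h
  · obtain ⟨b, rfl⟩ := T.exists_ix hp h
    exact h1 b t
  · obtain ⟨b, hb⟩ := T.exists_ix hp ((isPosRoot_neg_iff hp.checked hr).2 h)
    have h3 := h2 _ (h1 b t)
    rwa [U.τ_gen hp hj (T.lt b), hb, RootVec.neg_neg hp.checked hr] at h3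

/-- the group data -/
noncomputable def gd : GDat (Fin l) Φ k (D.SteinbergGroup k) where
  x i := D.stGen k (D.simple i)
  y i := D.stGen k (D.neg (D.simple i))
  z b := D.stGen k (ix b)
  zi := R.zi
  ht b := ∑ j, R.cf b j * L.hw j
  T := (TT D' k).comap j
  δ := U.δ hp
  hh i c := sth D (D.simple i) (c : k)
  τ := U.τ hp
  ht_pos b := by
    obtain ⟨i, hi⟩ := Function.ne_iff.1 (T.cf_ne_zero hp b)
    exact Finset.sum_pos' (fun _ _ => Nat.zero_le _)
      ⟨i, Finset.mem_univ _, Nat.mul_pos (Nat.pos_of_ne_zero hi) (L.hw_pos i)⟩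
  x_eq i s := by rw [T.ix_zi hp]
  z_add b s t := (stGen_mul D _ s t).symm
  y_add i s t := (stGen_mul D _ s t).symm
  δ_mul s t := hj (by rw [map_mul, U.j_δ, U.j_δ, U.j_δ, lamc_mul])
  δ_mem s := by rw [Subgroup.mem_comap, U.j_δ]; exact lamc_mem hp' k _ s
  hh_mem i c := by rw [Subgroup.mem_comap, U.j_h hp]; exact hc_mem hp' _ c.ne_zero
  δ_z s b a := hj (by
    rw [map_mul, map_mul, U.j_δ, U.gen _ (T.lt b), U.gen _ (T.lt b), TT_zz hp' (lamc_mem hp' k _ s) (L.lt _ (T.lt b)),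
      cX_lamc, L.sum_c (T.lt b), T.vec_ix, ← Units.val_pow_eq_pow_val, ← zpow_natCast, mul_left_comm]
    push_cast
    rfl)
  T_x t ht i := by
    obtain ⟨u, hu⟩ := (gdat hp' k).T_x (j t) ht (L.f i)
    refine ⟨u, fun a => hj ?_⟩
    rw [map_mul, map_mul, U.j_x hp, U.j_x hp, ← zz_simple, ← zz_simple]
    exact hu a
  T_y t ht i := by
    obtain ⟨u, hu⟩ := (gdat hp' k).T_y (j t) ht (L.f i)
    refine ⟨u, fun a => hj ?_⟩
    rw [map_mul, map_mul, U.j_y hp, U.j_y hp, ← zz_neg_simple, ← zz_neg_simple]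
    exact hu a
  comm i i' a s h := hj (by
    rw [map_mul, map_mul, U.j_x hp, U.j_y hp]
    exact zz_comm hp' (fun e => h (L.f_inj e)) a s)
  rank i a s c hc := hj (by
    rw [map_mul, map_mul, map_mul, U.j_x hp, U.j_y hp, U.j_x hp, U.j_y hp, U.j_h hp]
    exact rank_one hp' (simple_lt hp'.checked (lt_rank hp' _)) a s c hc)
  gen := U.gen_simple hp hj T
  cmt i b s := by
    by_cases hb : b = R.zi i
    · refine ⟨[(b, 1, 1)], by simp, fun t => ?_⟩
      rw [hb, T.ix_zi hp, stGen_mul, stGen_mul]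
      simp [T.ix_zi hp]
    obtain ⟨f, -, hf⟩ := st_conj (k := k) T hp hb
    refine ⟨_, ?_, fun t => by rw [← T.ix_zi hp]; exact hf s t⟩
    intro e he
    rcases List.mem_cons.1 he with rfl | he
    · exact Nat.one_pos
    · obtain ⟨c, hc, rfl⟩ := List.mem_map.1 he
      exact (vec_term hp hc).2.2.1
  τ_mul := U.τ_mul hp hj
  τ_τ a := hj (by rw [U.j_τ, U.j_τ, tau_tau])
  τ_x i s := U.τ_gen hp hj (simple_lt hp.checked (lt_rank hp i)) s
  τ_T t ht := hj (by rw [U.j_τ, tau_TT hp' ht])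

theorem j_U {u : D.SteinbergGroup k} (hu : u ∈ (U.gd hp hj T).U) : j u ∈ (gdat hp' k).U := by
  refine (show (U.gd hp hj T).U ≤ (gdat hp' k).U.comap j from (Subgroup.closure_le _).mpr ?_) hu
  rintro _ ⟨b, s, rfl⟩
  exact Subgroup.subset_closure ⟨⟨_, L.ι_pos hp hp' (T.pos hp b)⟩, _, U.gen _ (T.lt b) s⟩

theorem j_Um {u : D.SteinbergGroup k} (hu : u ∈ (U.gd hp hj T).Um) : j u ∈ (gdat hp' k).Um := by
  refine (show (U.gd hp hj T).Um ≤ (gdat hp' k).Um.comap j from (Subgroup.closure_le _).mpr ?_) hu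
  rintro _ ⟨b, s, rfl⟩
  refine Subgroup.subset_closure ⟨⟨_, L.ι_pos hp hp' (T.pos hp b)⟩, (L.ε (ix b) : k) * s, ?_⟩
  change j (U.τ hp (D.stGen k (ix b) s)) = tau hp' (zz hp' (L.ι (ix b)) _)
  rw [U.j_τ, U.gen _ (T.lt b)]

variable [Infinite k] (Fu : Fund hp' k)

omit U hp hj T in
theorem bounds (L : Lv D D' l l') : ∃ N m : ℕ,
    (∀ i r g h, ∃ P : k[X], P.natDegree ≤ N ∧ ∀ s, Fu.Δ i (g * zz hp' r s * h) = P.eval s) ∧
    ∀ i g h, ∃ P : k[X], P.natDegree ≤ N ∧
      ∀ s : kˣ, (s : k) ^ m * Fu.Δ i (g * lamc hp' k L.c s * h) = P.eval (s : k) := by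
  choose N1 hN1 using fun i => (Fu.cell i).pol.bdd
  choose N2 M2 hN2 using fun i => (alg_lamc hp' k L.c).laurent (Fu.cell i).pol
  refine ⟨∑ i, N1 i + ∑ i, N2 i + ∑ i, M2 i, ∑ i, M2 i, fun i r a a' => ?_, fun i a a' => ?_⟩
  · obtain ⟨P, hP, hP2⟩ := hN1 i r a a'
    have := Finset.single_le_sum (f := N1) (fun _ _ => Nat.zero_le _) (Finset.mem_univ i)
    exact ⟨P, by omega, hP2⟩
  · obtain ⟨P, hP, hP2⟩ := hN2 i a a'
    have h1 := Finset.single_le_sum (f := M2) (fun _ _ => Nat.zero_le _) (Finset.mem_univ i)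
    have h2 := Finset.single_le_sum (f := N2) (fun _ _ => Nat.zero_le _) (Finset.mem_univ i)
    refine ⟨X ^ (∑ i, M2 i - M2 i) * P, ?_, fun s => ?_⟩
    · refine Polynomial.natDegree_mul_le.trans ?_
      rw [Polynomial.natDegree_X_pow]
      omega
    · rw [eval_mul, eval_pow, eval_X, ← hP2, ← mul_assoc, ← pow_add, Nat.sub_add_cancel h1]

/-- the fundamental data -/
noncomputable def fdat : FDat (Fin l) Φ k (D.SteinbergGroup k) :=
  FDat.ofCell (U.gd hp hj T) (fun i g => Fu.Δ (L.f i) (j g))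
    (fun i => ∑ m, L.c m * pairing (cartanOf D' l') m (Fu.ω (L.f i))) (bounds Fu L).choose
    (bounds Fu L).choose_spec.choose
    (fun i t ht t' ht' => by
      rw [map_mul, Fu.tor _ (mul_mem ht ht'), Fu.tor _ ht, Fu.tor _ ht']
      exact cX_mul hp' ht ht' _)
    (fun i v hv t ht u hu => by
      rw [map_mul, map_mul, (Fu.cell _).cell _ (U.j_Um hp hj T hv) _ ht _ (U.j_U hp hj T hu), Fu.tor _ ht])
    (fun i => by
      rw [map_one, Fu.tor _ (one_mem _)]
      exact cX_one hp' _)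
    (fun i i' c => by
      change Fu.Δ _ (j (sth D (D.simple i') (c : k))) = _
      rw [U.j_h hp, Fu.tor _ (hc_mem hp' _ c.ne_zero), cX_hc, Fu.pair]
      by_cases h : i = i'
      · rw [if_pos h, if_pos (congrArg L.f h), zpow_one]
      · rw [if_neg h, if_neg fun e => h (L.f_inj e), zpow_zero, Units.val_one])
    (fun i s => by
      change Fu.Δ _ (j (U.δ hp s)) = _
      rw [U.j_δ, Fu.tor _ (lamc_mem hp' k _ s), cX_lamc])
    (fun i b g h => by
      obtain ⟨P, h1, h2⟩ := (bounds Fu L).choose_spec.choose_spec.1 (L.f i) (L.ι (ix b)) (j g) (j h)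
      refine ⟨P.comp (C (L.ε (ix b) : k) * X), natDegree_comp_le.trans ?_, fun s => ?_⟩
      · exact (Nat.mul_le_mul h1 ((natDegree_C_mul_le _ _).trans natDegree_X_le)).trans (mul_one _).le
      change Fu.Δ _ (j (g * D.stGen k (ix b) s * h)) = _
      rw [map_mul, map_mul, U.gen _ (T.lt b), h2, eval_comp, eval_mul, eval_C, eval_X])
    (fun i i' g h => by
      obtain ⟨P, h1, h2⟩ := (bounds Fu L).choose_spec.choose_spec.1 (L.f i) (D'.neg (D'.simple (L.f i'))) (j g) (j h)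
      refine ⟨P, fun s => ?_⟩
      change Fu.Δ _ (j (g * D.stGen k (D.neg (D.simple i')) s * h)) = _
      rw [map_mul, map_mul, U.j_y hp, h2])
    (fun i g h => by
      obtain ⟨P, h1, h2⟩ := (bounds Fu L).choose_spec.choose_spec.2 (L.f i) (j g) (j h)
      refine ⟨P, h1, fun s => ?_⟩
      change _ * Fu.Δ _ (j (g * U.δ hp s * h)) = _
      rw [map_mul, map_mul, U.j_δ, h2])

/-- **the datum of the Steinberg group** -/
noncomputable def rdat (p : ℕ) [CharP k p] : RDat p (Fin l) Φ k (D.SteinbergGroup k) where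
  toFDat := U.fdat hp hj T Fu
  R := R
  zi_eq := rfl
  ht_eq b := by
    show ∑ j, R.cf b j * L.hw j = ∑ j, R.cf b j * ∑ j', R.cf (R.zi j) j' * L.hw j'
    refine Finset.sum_congr rfl fun j _ => ?_
    rw [R.cf_zi, Finset.sum_eq_single j (fun j' _ h => by rw [Pi.single_eq_of_ne h, zero_mul])
      (fun h => (h (Finset.mem_univ _)).elim), Pi.single_eq_same, one_mul]
  hh_mul i c d := (sth_mul D (simple_lt hp.checked (lt_rank hp i)) c.ne_zero d.ne_zero).symm
  hh_comm i i' c d := hj (by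
    change j (sth D (D.simple i) (c : k) * sth D (D.simple i') (d : k)) =
      j (sth D (D.simple i') (d : k) * sth D (D.simple i) (c : k))
    rw [map_mul, map_mul, U.j_h hp, U.j_h hp]
    exact TT_comm hp' (hc_mem hp' _ c.ne_zero) (hc_mem hp' _ d.ne_zero))
  hh_z i c b a := hj (by
    change j (sth D (D.simple i) (c : k) * D.stGen k (ix b) a) = j (D.stGen k (ix b) _ * sth D (D.simple i) (c : k))
    rw [map_mul, map_mul, U.j_h hp, U.gen _ (T.lt b), U.gen _ (T.lt b),
      TT_zz hp' (hc_mem hp' _ c.ne_zero) (L.lt _ (T.lt b)), cX_hc, L.pairing_ι (T.lt b), T.pairing_eq, T.vec_ix',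
      mul_left_comm]
    rfl)
  n_z i b hb := by
    obtain ⟨ε, hε⟩ := U.n_gen hp hj i (T.lt b)
    rw [← T.ix_s hp i hb] at hε
    exact ⟨ε, hε⟩
  cm b b' s t := st_cm T hp b b' s t
  nz i b a ha hn := by
    obtain ⟨L', h1, h2, h3⟩ := st_nz (k := k) T hp i b a ha hn
    rw [T.ix_zi hp] at h2
    exact ⟨L', h1, h2, h3⟩

variable (p : ℕ) [CharP k p]

theorem rdat_R : (U.rdat hp hj T Fu p).R = R := rfl
theorem rdat_x (i : Fin l) (t : k) : (U.rdat hp hj T Fu p).x i t = D.stGen k (D.simple i) t := rfl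
theorem rdat_y (i : Fin l) (t : k) : (U.rdat hp hj T Fu p).y i t = D.stGen k (D.neg (D.simple i)) t := rfl
theorem rdat_z (b : Φ) (t : k) : (U.rdat hp hj T Fu p).z b t = D.stGen k (ix b) t := rfl
theorem rdat_ht (b : Φ) : (U.rdat hp hj T Fu p).ht b = ∑ j, R.cf b j * L.hw j := rfl
theorem rdat_w (b : Φ) (t : k) : (U.rdat hp hj T Fu p).τ ((U.rdat hp hj T Fu p).z b t) = D.stGen k (D.neg (ix b)) t :=
  U.τ_gen hp hj (T.lt b) t

end Up

end Cfsg.Agent.TwoF.DC.TE
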